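import Mathlib
import Cfsg.Agent.Base
import Cfsg.Agent.Lib.SpX.Ch
import Cfsg.Agent.Lib.SpX.Sl2

/-!
The Sylow `p`-subgroup of the five-dimensional unitary group in coordinates.  An element is the
matrix with rows `(1,a,v,u,z), (0,1,b,c,u₂), (0,0,1,-b̄,v₂), (0,0,0,1,-ā), (0,0,0,0,1)`, where
`u₂ = -ū - c ā - b v̄` and `v₂ = -v̄ + ā b̄`; it preserves the antidiagonal hermitian form.
-/

set_option autoImplicit false

namespace U5F

open Subgroup H93.SX
open H68 (SylowIn)
open scoped commutatorElement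

/-- The unipotent group of the five-dimensional unitary group. -/
@[ext] structure Un (K : Type*) [Field K] [StarRing K] where
  a : K
  b : K
  v : K
  c : K
  u : K
  z : K
  hc : c + star c + b * star b = 0
  hz : z + star z + a * star u + u * star a + v * star v = 0

variable {K : Type*} [Field K] [StarRing K] {x y t : Un K}

namespace Un

theorem sc (x : Un K) : star x.c = -x.c - x.b * star x.b := by linear_combination x.hc

theorem sz (x : Un K) : star x.z = -x.z - x.a * star x.u - x.u * star x.a - x.v * star x.v := by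
  linear_combination x.hz

instance : Mul (Un K) := ⟨fun x y =>
  ⟨x.a + y.a, x.b + y.b, x.v + y.v + x.a * y.b, x.c + y.c - x.b * star y.b,
    x.u + y.u + x.a * y.c - x.v * star y.b,
    x.z + y.z - x.a * (star y.u + y.c * star y.a + y.b * star y.v) +
      x.v * (star y.a * star y.b - star y.v) - x.u * star y.a,
    by simp only [star_add, star_sub, star_mul', star_star, sc]; ring,
    by simp only [star_add, star_sub, star_mul', star_star, sc, sz]; ring⟩⟩

instance : One (Un K) := ⟨⟨0, 0, 0, 0, 0, 0, by simp, by simp⟩⟩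

instance : Inv (Un K) := ⟨fun x =>
  ⟨-x.a, -x.b, x.a * x.b - x.v, star x.c, -x.u - x.a * star x.c - x.v * star x.b, star x.z,
    by simp only [star_neg, star_star]; linear_combination x.hc,
    by simp only [star_neg, star_sub, star_mul', star_star, sc, sz]; ring⟩⟩

@[simp] theorem mul_a : (x * y).a = x.a + y.a := rfl
@[simp] theorem mul_b : (x * y).b = x.b + y.b := rfl
@[simp] theorem mul_v : (x * y).v = x.v + y.v + x.a * y.b := rfl
@[simp] theorem mul_c : (x * y).c = x.c + y.c - x.b * star y.b := rfl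
@[simp] theorem mul_u : (x * y).u = x.u + y.u + x.a * y.c - x.v * star y.b := rfl
@[simp] theorem mul_z : (x * y).z = x.z + y.z - x.a * (star y.u + y.c * star y.a + y.b * star y.v) +
    x.v * (star y.a * star y.b - star y.v) - x.u * star y.a := rfl
@[simp] theorem one_a : (1 : Un K).a = 0 := rfl
@[simp] theorem one_b : (1 : Un K).b = 0 := rfl
@[simp] theorem one_v : (1 : Un K).v = 0 := rfl
@[simp] theorem one_c : (1 : Un K).c = 0 := rfl
@[simp] theorem one_u : (1 : Un K).u = 0 := rfl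
@[simp] theorem one_z : (1 : Un K).z = 0 := rfl
@[simp] theorem inv_a : x⁻¹.a = -x.a := rfl
@[simp] theorem inv_b : x⁻¹.b = -x.b := rfl
@[simp] theorem inv_v : x⁻¹.v = x.a * x.b - x.v := rfl
@[simp] theorem inv_c : x⁻¹.c = star x.c := rfl
@[simp] theorem inv_u : x⁻¹.u = -x.u - x.a * star x.c - x.v * star x.b := rfl
@[simp] theorem inv_z : x⁻¹.z = star x.z := rfl

instance : Group (Un K) := Group.ofLeftAxioms
  (fun _ _ _ => by ext <;> simp only [mul_a, mul_b, mul_v, mul_c, mul_u, mul_z, star_add, star_sub,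
    star_mul', star_star, sc] <;> ring)
  (fun _ => by ext <;> simp) fun _ => by
    ext <;> simp only [mul_a, mul_b, mul_v, mul_c, mul_u, mul_z, inv_a, inv_b, inv_v, inv_c, inv_u,
      inv_z, one_a, one_b, one_v, one_c, one_u, one_z, sc, sz] <;> ring

@[simp] theorem comm_a : ⁅x, y⁆.a = 0 := by simp [commutatorElement_def]
@[simp] theorem comm_b : ⁅x, y⁆.b = 0 := by simp [commutatorElement_def]
@[simp] theorem comm_v : ⁅x, y⁆.v = x.a * y.b - y.a * x.b := by simp [commutatorElement_def]; ring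
@[simp] theorem comm_c : ⁅x, y⁆.c = y.b * star x.b - x.b * star y.b := by
  simp [commutatorElement_def, sc]; ring
@[simp] theorem comm_u : ⁅x, y⁆.u = x.a * y.c - y.a * x.c + y.v * star x.b - x.v * star y.b +
    (x.a * y.b - y.a * x.b) * (star x.b + star y.b) := by
  simp [commutatorElement_def, sc]; ring
theorem comm_z : ⁅x, y⁆.z = (x * y).z - (y * x).z + ⁅x, y⁆.u * star (y * x).a -
    ⁅x, y⁆.v * (star (y * x).a * star (y * x).b - star (y * x).v) := by
  have := congrArg Un.z (show ⁅x, y⁆ * (y * x) = x * y by simp [commutatorElement_def, mul_assoc])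
  rw [mul_z, comm_a] at this
  linear_combination this

theorem eq_one : x = 1 ↔ x.a = 0 ∧ x.b = 0 ∧ x.v = 0 ∧ x.c = 0 ∧ x.u = 0 ∧ x.z = 0 := Un.ext_iff

instance [Finite K] : Finite (Un K) := Finite.of_injective
  (fun x : Un K => (x.a, x.b, x.v, x.c, x.u, x.z)) fun x y h => by
    simp only [Prod.mk.injEq] at h
    exact Un.ext_iff.2 h

end Un

open Un

variable (K) in
/-- The radical of the stabiliser of an isotropic plane. -/
def Q1 : Subgroup (Un K) where
  carrier := {x | x.a = 0}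
  one_mem' := rfl
  mul_mem' := fun {a b} ha hb => by simp_all
  inv_mem' := fun {a} ha => by simp_all

variable (K) in
/-- The radical of the stabiliser of an isotropic point. -/
def Q2 : Subgroup (Un K) where
  carrier := {x | x.b = 0 ∧ x.c = 0}
  one_mem' := ⟨rfl, rfl⟩
  mul_mem' := fun {a b} ha hb => by simp_all
  inv_mem' := fun {a} ha => by simp_all

variable (K) in
/-- The derived group. -/
def Z3 : Subgroup (Un K) where
  carrier := {x | x.a = 0 ∧ x.b = 0}
  one_mem' := ⟨rfl, rfl⟩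
  mul_mem' := fun {a b} ha hb => by simp_all
  inv_mem' := fun {a} ha => by simp_all

variable (K) in
/-- The centre of `Q1`. -/
def Yc : Subgroup (Un K) where
  carrier := {x | x.a = 0 ∧ x.b = 0 ∧ x.v = 0}
  one_mem' := ⟨rfl, rfl, rfl⟩
  mul_mem' := fun {a b} ha hb => by simp_all
  inv_mem' := fun {a} ha => by simp_all

variable (K) in
/-- The intersection of `Q1` and `Q2`. -/
def Rr : Subgroup (Un K) where
  carrier := {x | x.a = 0 ∧ x.b = 0 ∧ x.c = 0}
  one_mem' := ⟨rfl, rfl, rfl⟩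
  mul_mem' := fun {a b} ha hb => by simp_all
  inv_mem' := fun {a} ha => by simp_all

variable (K) in
/-- The second centre. -/
def Z2 : Subgroup (Un K) where
  carrier := {x | x.a = 0 ∧ x.b = 0 ∧ x.v = 0 ∧ x.c = 0}
  one_mem' := ⟨rfl, rfl, rfl, rfl⟩
  mul_mem' := fun {a b} ha hb => by simp_all
  inv_mem' := fun {a} ha => by simp_all

variable (K) in
/-- The centre. -/
def Z1 : Subgroup (Un K) where
  carrier := {x | x.a = 0 ∧ x.b = 0 ∧ x.v = 0 ∧ x.c = 0 ∧ x.u = 0}
  one_mem' := ⟨rfl, rfl, rfl, rfl, rfl⟩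
  mul_mem' := fun {a b} ha hb => by simp_all
  inv_mem' := fun {a} ha => by simp_all

@[simp] theorem mem_Q1 : x ∈ Q1 K ↔ x.a = 0 := Iff.rfl
@[simp] theorem mem_Q2 : x ∈ Q2 K ↔ x.b = 0 ∧ x.c = 0 := Iff.rfl
@[simp] theorem mem_Z3 : x ∈ Z3 K ↔ x.a = 0 ∧ x.b = 0 := Iff.rfl
@[simp] theorem mem_Yc : x ∈ Yc K ↔ x.a = 0 ∧ x.b = 0 ∧ x.v = 0 := Iff.rfl
@[simp] theorem mem_Rr : x ∈ Rr K ↔ x.a = 0 ∧ x.b = 0 ∧ x.c = 0 := Iff.rfl
@[simp] theorem mem_Z2 : x ∈ Z2 K ↔ x.a = 0 ∧ x.b = 0 ∧ x.v = 0 ∧ x.c = 0 := Iff.rfl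
@[simp] theorem mem_Z1 : x ∈ Z1 K ↔ x.a = 0 ∧ x.b = 0 ∧ x.v = 0 ∧ x.c = 0 ∧ x.u = 0 := Iff.rfl

theorem comm_Z3 (x y : Un K) : ⁅x, y⁆ ∈ Z3 K := by simp
theorem comm_Z2 (x : Un K) (h : y ∈ Z3 K) : ⁅x, y⁆ ∈ Z2 K := by simp_all
theorem comm_Z1 (x : Un K) (h : y ∈ Z2 K) : ⁅x, y⁆ ∈ Z1 K := by simp_all
theorem comm_Z0 (x : Un K) (h : y ∈ Z1 K) : ⁅x, y⁆ = 1 := by simp_all [eq_one, comm_z]; ring
theorem comm_Y (h : x ∈ Q1 K) (h' : y ∈ Q1 K) : ⁅x, y⁆ ∈ Yc K := by simp_all
theorem comm_Y0 (h : x ∈ Q1 K) (h' : y ∈ Yc K) : ⁅x, y⁆ = 1 := by simp_all [eq_one, comm_z]; ring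
theorem comm_Q2 (h : x ∈ Q2 K) (h' : y ∈ Q2 K) : ⁅x, y⁆ ∈ Z1 K := by simp_all
theorem comm_R (x : Un K) (h : y ∈ Q2 K) : ⁅x, y⁆ ∈ Rr K := by simp_all

/-- The commutator of an element with an element of the second centre. -/
theorem comm_z2 (x : Un K) (h : y ∈ Z2 K) : ⁅x, y⁆.z = y.u * star x.a - x.a * star y.u := by
  simp_all [comm_z]; ring

/-- The commutator map on `Q1`. -/
theorem comm_z_Q1 (h : x ∈ Q1 K) (h' : y ∈ Q1 K) : ⁅x, y⁆.z = y.v * star x.v - x.v * star y.v := by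
  simp_all [comm_z]; ring

/-- The commutator map on `Q2`. -/
theorem comm_z_Q2 (h : x ∈ Q2 K) (h' : y ∈ Q2 K) : ⁅x, y⁆.z = y.a * star x.u + y.v * star x.v +
    y.u * star x.a - (x.a * star y.u + x.v * star y.v + x.u * star y.a) := by
  simp_all [comm_z]; ring

theorem seT : Se ⊤ (Z3 K) (Z2 K) (Z1 K) := ⟨le_top, fun _ h => ⟨h.1, h.2.1⟩,
  fun _ h => ⟨h.1, h.2.1, h.2.2.1, h.2.2.2.1⟩, fun t x _ => comm_Z3 t x, fun t _ => comm_Z2 t,
  fun t _ => comm_Z1 t, fun t _ => comm_Z0 t⟩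

theorem se3 {E : Subgroup (Un K)} (h : Z3 K ≤ E) : Se E (Z3 K) (Z2 K) (Z1 K) :=
  ⟨h, seT.b, seT.c, fun t x _ => comm_Z3 t x, seT.e2, seT.e3, seT.e4⟩

theorem seQ1 : Se (Q1 K) (Z3 K) (Z2 K) (Z1 K) := se3 fun _ h => h.1

theorem seQ2 : Se (Q2 K) (Rr K) (Z2 K) (Z1 K) := ⟨fun _ h => h.2, fun _ h => ⟨h.1, h.2.1, h.2.2.2⟩,
  seT.c, fun t _ => comm_R t, fun t _ h => comm_Z2 t ⟨h.1, h.2.1⟩, seT.e3, seT.e4⟩

/-- The standard (diagonal and field) endomorphisms. -/
def dl (l m : K) (σ : K ≃⋆+* K) : Un K →* Un K := MonoidHom.mk' (fun x =>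
  ⟨l * σ x.a, m * σ x.b, l * m * σ x.v, m * star m * σ x.c, l * m * star m * σ x.u,
    l * star l * m * star m * σ x.z,
    by simp only [star_mul', star_star, ← map_star, sc, map_sub, map_neg, map_mul]; ring,
    by simp only [star_mul', star_star, ← map_star, sz, map_sub, map_neg, map_mul]; ring⟩)
  fun x y => by ext <;> simp [star_mul', map_star] <;> ring

section
variable {l m : K} {σ : K ≃⋆+* K}
@[simp] theorem dl_a : (dl l m σ x).a = l * σ x.a := rfl
@[simp] theorem dl_b : (dl l m σ x).b = m * σ x.b := rfl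
@[simp] theorem dl_v : (dl l m σ x).v = l * m * σ x.v := rfl
@[simp] theorem dl_c : (dl l m σ x).c = m * star m * σ x.c := rfl
@[simp] theorem dl_u : (dl l m σ x).u = l * m * star m * σ x.u := rfl
@[simp] theorem dl_z : (dl l m σ x).z = l * star l * m * star m * σ x.z := rfl
end

/-- The torus of the special unitary group: conjugation by `diag(d, e, d̄ ē/(d e), ē⁻¹, d̄⁻¹)`. -/
def tr (d e : K) : Un K →* Un K := dl (d / e) (d * e ^ 2 / (star d * star e)) .refl

open Classical in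
/-- The Weyl element that acts on `Q1` (the formula is used on `Q1` only). -/
noncomputable def w1 (x : Un K) : Un K :=
  if h : x.a = 0 then ⟨0, -x.v, x.b, x.z, star x.u + x.b * star x.v, x.c,
    by have := x.hz; simp only [h, star_neg, star_zero] at this ⊢; linear_combination this,
    by simp only [star_zero]; linear_combination x.hc⟩ else 1

/-- The Weyl element that acts on `Q2` (the formula is used on `Q2` only). -/
def w2 (x : Un K) : Un K :=
  ⟨x.u, 0, -x.v, 0, x.a, x.z, by simp, by simp only [star_neg]; linear_combination x.hz⟩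

section
variable {d e : K}
@[simp] theorem tr_a : (tr d e x).a = d / e * x.a := rfl
@[simp] theorem tr_b : (tr d e x).b = d * e ^ 2 / (star d * star e) * x.b := rfl
theorem tr_v (he : e ≠ 0) : (tr d e x).v = d ^ 2 * e / (star d * star e) * x.v := by
  simp only [tr, dl_v, StarRingEquiv.coe_refl, id]; congr 1; field_simp
theorem tr_c (hd : d ≠ 0) (he : e ≠ 0) : (tr d e x).c = e * star e * x.c := by
  have := star_ne_zero.2 hd
  have := star_ne_zero.2 he
  simp only [tr, dl_c, StarRingEquiv.coe_refl, id, star_div₀, star_mul', star_pow, star_star]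
  congr 1; field_simp
theorem tr_u (hd : d ≠ 0) (he : e ≠ 0) : (tr d e x).u = d * star e * x.u := by
  have := star_ne_zero.2 hd
  have := star_ne_zero.2 he
  simp only [tr, dl_u, StarRingEquiv.coe_refl, id, star_div₀, star_mul', star_pow, star_star]
  congr 1; field_simp
theorem tr_z (hd : d ≠ 0) (he : e ≠ 0) : (tr d e x).z = d * star d * x.z := by
  have := star_ne_zero.2 hd
  have := star_ne_zero.2 he
  simp only [tr, dl_z, StarRingEquiv.coe_refl, id, star_div₀, star_mul', star_pow, star_star]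
  congr 1; field_simp
end

theorem w1_a : (w1 x).a = 0 := by unfold w1; split_ifs <;> rfl
theorem w1_b (h : x ∈ Q1 K) : (w1 x).b = -x.v := by rw [w1, dif_pos (mem_Q1.1 h)]
theorem w1_v (h : x ∈ Q1 K) : (w1 x).v = x.b := by rw [w1, dif_pos (mem_Q1.1 h)]
theorem w1_c (h : x ∈ Q1 K) : (w1 x).c = x.z := by rw [w1, dif_pos (mem_Q1.1 h)]
theorem w1_u (h : x ∈ Q1 K) : (w1 x).u = star x.u + x.b * star x.v := by rw [w1, dif_pos (mem_Q1.1 h)]
theorem w1_z (h : x ∈ Q1 K) : (w1 x).z = x.c := by rw [w1, dif_pos (mem_Q1.1 h)]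
theorem w1_mem (x : Un K) : w1 x ∈ Q1 K := w1_a
theorem w1_mul (h : x ∈ Q1 K) (h' : y ∈ Q1 K) : w1 (x * y) = w1 x * w1 y := by
  have e := mul_mem h h'
  have := mem_Q1.1 h
  have := mem_Q1.1 h'
  ext <;> simp [w1_a, w1_b, w1_v, w1_c, w1_u, w1_z, *] <;> ring

@[simp] theorem w2_a : (w2 x).a = x.u := rfl
@[simp] theorem w2_b : (w2 x).b = 0 := rfl
@[simp] theorem w2_v : (w2 x).v = -x.v := rfl
@[simp] theorem w2_c : (w2 x).c = 0 := rfl
@[simp] theorem w2_u : (w2 x).u = x.a := rfl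
@[simp] theorem w2_z : (w2 x).z = x.z := rfl
theorem w2_mem (x : Un K) : w2 x ∈ Q2 K := ⟨rfl, rfl⟩
theorem w2_mul (_h : x ∈ Q2 K) (h' : y ∈ Q2 K) : w2 (x * y) = w2 x * w2 y := by
  ext <;> simp_all <;> ring

variable (K) in
/-- The order of the fixed field. -/
noncomputable def qq : ℕ := Nat.card {k : K // star k = k}

section
variable {Γ : Type*} [Group Γ]

/-- The standard automorphism with the given parameters is induced. -/
def Dl (ι : Un K →* Γ) (l m : K) (σ : K ≃⋆+* K) : Prop := ∃ g, ∀ x, Cj ι g x (dl l m σ x)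

/-- Every induced automorphism of the whole group is standard up to an inner automorphism. -/
def Std (ι : Un K →* Γ) : Prop :=
  ∀ g ∈ nr ι ⊤, ∃ t l m σ, l ≠ 0 ∧ m ≠ 0 ∧ ∀ x, Cj ι g x (t * dl l m σ x * t⁻¹)

/-- The torus of the special unitary group is induced. -/
def Tor (ι : Un K →* Γ) : Prop := ∀ d e : K, d ≠ 0 → e ≠ 0 → ∃ g, ∀ x, Cj ι g x (tr d e x)

end

/-- The coordinates on `Q2 / Z1`. -/
def cV (x : Un K) : K × K × K := (x.a, x.v, x.u)

/-- The coordinates on `Q1 / Yc`. -/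
def cB (x : Un K) : K × K := (x.v, x.b)

/-- The alternating form on `Q2 / Z1`. -/
def be (x y : K × K × K) : K := y.1 * star x.2.2 + y.2.1 * star x.2.1 + y.2.2 * star x.1 -
  (x.1 * star y.2.2 + x.2.1 * star y.2.1 + x.2.2 * star y.1)

/-- The action of a unipotent element of the three-dimensional unitary group. -/
def uu (b c : K) (x : K × K × K) : K × K × K :=
  (x.1, x.2.1 + x.1 * b, x.2.2 + x.1 * c - x.2.1 * star b)

variable (K) in
/-- The fixed line of the unipotent group. -/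
def Wx : AddSubgroup (K × K × K) where
  carrier := {x | x.1 = 0 ∧ x.2.1 = 0}
  zero_mem' := ⟨rfl, rfl⟩
  add_mem' := fun {a b} ha hb => by simp_all
  neg_mem' := fun {a} ha => by simp_all

variable (K) in
/-- The perpendicular space of the fixed line. -/
def Wp : AddSubgroup (K × K × K) where
  carrier := {x | x.1 = 0}
  zero_mem' := rfl
  add_mem' := fun {a b} ha hb => by simp_all
  neg_mem' := fun {a} ha => by simp_all

omit [StarRing K] in
@[simp] theorem mem_Wx {x : K × K × K} : x ∈ Wx K ↔ x.1 = 0 ∧ x.2.1 = 0 := Iff.rfl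
omit [StarRing K] in
@[simp] theorem mem_Wp {x : K × K × K} : x ∈ Wp K ↔ x.1 = 0 := Iff.rfl

/-- A group of additive automorphisms of `K³` that respects the alternating form and whose Sylow
subgroup is the unipotent group of the three-dimensional unitary group. -/
structure S3 (K : Type*) [Field K] [StarRing K] {G : Type*} [Group G]
    [DistribMulAction G (K × K × K)] (p : ℕ) (H U : Subgroup G) : Prop where
  syl : SylowIn p U H
  act : ∀ g ∈ U, ∃ b c : K, c + star c + b * star b = 0 ∧ ∀ x : K × K × K, g • x = uu b c x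
  ex : ∀ b c : K, c + star c + b * star b = 0 → ∃ g ∈ U, ∀ x : K × K × K, g • x = uu b c x
  form : ∀ g ∈ H, ∀ x y x' y' : K × K × K, be x y = be x' y' →
    be (g • x) (g • y) = be (g • x') (g • y')

theorem exists_one (hs : ∃ e : K, star e ≠ e) : ∃ e : K, e + star e = 1 := by
  obtain ⟨e, he⟩ := hs
  have key : ∀ e : K, e + star e ≠ 0 → ∃ e : K, e + star e = 1 := fun e h =>
    ⟨e / (e + star e), by rw [star_div₀, star_add, star_star, add_comm (star e), ← add_div, div_self h]⟩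
  by_cases h : (1 : K) + star 1 = 0
  · exact key e fun h' => he (by rw [star_one] at h; linear_combination h' - e * h)
  · exact key 1 h

/-- The trace is onto the fixed field. -/
theorem exists_tr (hs : ∃ e : K, star e ≠ e) {k : K} (hk : star k = k) : ∃ c : K, c + star c = k :=
  let ⟨e, he⟩ := exists_one hs
  ⟨k * e, by rw [star_mul', hk, ← mul_add, he, mul_one]⟩

/-- Every skew element is `w - w̄`. -/
theorem exists_sub (hs : ∃ e : K, star e ≠ e) {s : K} (h : s + star s = 0) :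
    ∃ w : K, w - star w = s :=
  let ⟨e, he⟩ := exists_one hs
  ⟨s * e, by rw [star_mul']; linear_combination s * he - star e * h⟩

theorem exists_skew (hs : ∃ e : K, star e ≠ e) : ∃ s : K, s ≠ 0 ∧ s + star s = 0 :=
  let ⟨e, he⟩ := hs
  ⟨e - star e, sub_ne_zero.2 he.symm, by simp⟩

/-- There is an element with prescribed free coordinates. -/
theorem exists_un (hs : ∃ e : K, star e ≠ e) (a b v c u : K) (hc : c + star c + b * star b = 0) :
    ∃ x : Un K, x.a = a ∧ x.b = b ∧ x.v = v ∧ x.c = c ∧ x.u = u := by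
  obtain ⟨z, hz⟩ := exists_tr hs (k := -(a * star u + u * star a + v * star v)) (by
    simp only [star_neg, star_add, star_mul', star_star]; ring)
  exact ⟨⟨a, b, v, c, u, z, hc, by linear_combination hz⟩, rfl, rfl, rfl, rfl, rfl⟩

theorem exists_c (hs : ∃ e : K, star e ≠ e) (b : K) : ∃ c : K, c + star c + b * star b = 0 := by
  obtain ⟨c, hc⟩ := exists_tr hs (k := -(b * star b)) (by simp [mul_comm])
  exact ⟨c, by linear_combination hc⟩

section
variable {W Γ : Type*} [Group W] [Group Γ] [Finite Γ] {ι : W →* Γ} {A B E : Subgroup W} {g : Γ}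

theorem nr_comm (hA : g ∈ nr ι A) (hB : g ∈ nr ι B) : g ∈ nr ι ⁅A, B⁆ := mem_nr fun x hx => by
  rw [Subgroup.commutator_def] at hx
  induction hx using closure_induction with
  | mem x hx =>
    obtain ⟨a, ha, b, hb, rfl⟩ := hx
    obtain ⟨a', ha', e⟩ := nr_cj hA ha
    obtain ⟨b', hb', e'⟩ := nr_cj hB hb
    exact ⟨_, commutator_mem_commutator ha' hb', e.comm e'⟩
  | one => exact ⟨1, one_mem _, by simp [Cj]⟩
  | mul x y _ _ hx hy =>
    obtain ⟨a, ha, e⟩ := hx
    obtain ⟨b, hb, e'⟩ := hy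
    exact ⟨_, mul_mem ha hb, e.mul e'⟩
  | inv x _ hx =>
    obtain ⟨a, ha, e⟩ := hx
    exact ⟨_, inv_mem ha, e.inv⟩

theorem nr_inf (i : Function.Injective ι) (hA : g ∈ nr ι A) (hB : g ∈ nr ι B) : g ∈ nr ι (A ⊓ B) :=
  mem_nr fun _ hx => let ⟨y, hy, e⟩ := nr_cj hA hx.1; ⟨y, ⟨hy, e.mem i hB hx.2⟩, e⟩

/-- The centraliser in `E` of an invariant subgroup is invariant. -/
theorem nr_cent (i : Function.Injective ι) (hE : g ∈ nr ι E) (hB : g ∈ nr ι B)
    (hA : ∀ x, x ∈ A ↔ x ∈ E ∧ ∀ y ∈ B, ⁅x, y⁆ = 1) : g ∈ nr ι A :=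
  nr_rc i 0 hE hB nr_bot (by simpa using hA)

end

theorem u5defs_eq_defs : True := by
  have := @Q1.eq_1.{0}
  have := @Q2.eq_1.{0}
  have := @Z3.eq_1.{0}
  have := @Yc.eq_1.{0}
  have := @Rr.eq_1.{0}
  have := @Z2.eq_1.{0}
  have := @Z1.eq_1.{0}
  have := @dl.eq_1.{0}
  have := @tr.eq_1.{0}
  have := @w1.eq_1.{0}
  have := @w2.eq_1.{0}
  have := @qq.eq_1.{0}
  have := @Dl.eq_1.{0, 0}
  have := @Std.eq_1.{0, 0}
  have := @Tor.eq_1.{0, 0}
  have := @cV.eq_1.{0}
  have := @cB.eq_1.{0}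
  have := @be.eq_1.{0}
  have := @uu.eq_1.{0}
  have := @Wx.eq_1.{0}
  have := @Wp.eq_1.{0}
  trivial

end U5F
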