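import Mathlib
import Cfsg.Agent.Base
import Cfsg.Agent.Lib.U5F.Defs

/-!
Counting in the unipotent group and arithmetic of the field with involution.
-/

set_option autoImplicit false

namespace U5F

open Subgroup H93.SX Un
open scoped commutatorElement

universe u v

variable {K : Type*} [Field K] [StarRing K] [Finite K]

omit [Finite K] in
theorem Card.skew (hs : ∃ e : K, star e ≠ e) : Nat.card {k : K // k + star k = 0} = qq K := by
  obtain ⟨s, s0, h⟩ := exists_skew hs
  have h' : star s = -s := by linear_combination h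
  refine (Nat.card_congr
    { toFun := fun k : {k : K // star k = k} => (⟨s * k, by rw [star_mul', k.2, h']; ring⟩ :
        {k : K // k + star k = 0})
      invFun := fun k => ⟨k / s, by
        rw [star_div₀, h', show star (k : K) = -k by linear_combination k.2, neg_div_neg_eq]⟩
      left_inv := fun k => Subtype.ext (mul_div_cancel_left₀ _ s0)
      right_inv := fun k => Subtype.ext (mul_div_cancel₀ _ s0) }).symm

theorem card_K (hs : ∃ e : K, star e ≠ e) : Nat.card K = qq K ^ 2 := by
  let f : K →+ K := AddMonoidHom.mk' (fun x => x - star x) fun a b => by rw [star_add]; ring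
  have h1 : Nat.card f.ker = qq K := Nat.card_congr
    (Equiv.subtypeEquivRight fun x => ⟨fun h => (sub_eq_zero.1 h).symm, fun h => sub_eq_zero.2 h.symm⟩)
  have h2 : Nat.card f.range = qq K := by
    rw [← Card.skew hs]
    refine Nat.card_congr (Equiv.subtypeEquivRight fun x => ⟨?_, fun h => exists_sub hs h⟩)
    rintro ⟨y, rfl⟩
    show y - star y + star (y - star y) = 0
    rw [star_sub, star_star]; ring
  rw [← AddSubgroup.card_mul_index f.ker, AddSubgroup.index_ker, h1, h2, sq]

theorem card_skew (hs : ∃ e : K, star e ≠ e) : Nat.card {k : K // k + star k = 0} = qq K :=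
  Card.skew hs

theorem one_lt_qq : 1 < qq K := by
  haveI : Nontrivial {k : K // star k = k} :=
    ⟨⟨⟨0, star_zero _⟩, ⟨1, star_one _⟩, fun h => zero_ne_one (congrArg Subtype.val h)⟩⟩
  exact Finite.one_lt_card

omit [Finite K] in
theorem Card.cnt (hs : ∃ e : K, star e ≠ e) {e : K} (he : e + star e = 1) (A B V U C : Set K)
    (hC : ∀ c ∈ C, c + star c = 0) (H : Subgroup (Un K))
    (h : ∀ x, x ∈ H ↔ x.a ∈ A ∧ x.b ∈ B ∧ x.v ∈ V ∧ x.u ∈ U ∧ x.c + e * (x.b * star x.b) ∈ C) :
    Nat.card H = Nat.card A * (Nat.card B * (Nat.card V * (Nat.card U * (Nat.card C * qq K)))) := by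
  rw [← Card.skew hs, ← Nat.card_prod, ← Nat.card_prod, ← Nat.card_prod, ← Nat.card_prod,
    ← Nat.card_prod]
  exact Nat.card_congr
    { toFun := fun x => (⟨x.1.a, ((h _).1 x.2).1⟩, ⟨x.1.b, ((h _).1 x.2).2.1⟩,
        ⟨x.1.v, ((h _).1 x.2).2.2.1⟩, ⟨x.1.u, ((h _).1 x.2).2.2.2.1⟩, ⟨_, ((h _).1 x.2).2.2.2.2⟩,
        ⟨x.1.z + e * (x.1.a * star x.1.u + x.1.u * star x.1.a + x.1.v * star x.1.v), by
          simp only [star_add, star_mul', star_star]
          linear_combination x.1.hz +
            (x.1.a * star x.1.u + x.1.u * star x.1.a + x.1.v * star x.1.v) * he⟩)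
      invFun := fun y => ⟨⟨y.1, y.2.1, y.2.2.1, y.2.2.2.2.1 - e * (y.2.1 * star (y.2.1 : K)),
        y.2.2.2.1, y.2.2.2.2.2 - e * (y.1 * star (y.2.2.2.1 : K) + y.2.2.2.1 * star (y.1 : K) +
          y.2.2.1 * star (y.2.2.1 : K)), by
          simp only [star_sub, star_mul', star_star]
          linear_combination hC _ y.2.2.2.2.1.2 - (y.2.1 * star (y.2.1 : K)) * he, by
          simp only [star_sub, star_add, star_mul', star_star]
          linear_combination y.2.2.2.2.2.2 - (y.1 * star (y.2.2.2.1 : K) +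
            y.2.2.2.1 * star (y.1 : K) + y.2.2.1 * star (y.2.2.1 : K)) * he⟩,
        (h _).2 ⟨y.1.2, y.2.1.2, y.2.2.1.2, y.2.2.2.1.2, by
          simp only [sub_add_cancel]; exact y.2.2.2.2.1.2⟩⟩
      left_inv := fun x => by ext <;> simp
      right_inv := fun y => by ext <;> simp }

theorem Card.cnt0 (hs : ∃ e : K, star e ≠ e) (A V U : Set K) (H : Subgroup (Un K))
    (h : ∀ x, x ∈ H ↔ x.a ∈ A ∧ x.b = 0 ∧ x.v ∈ V ∧ x.u ∈ U ∧ x.c = 0) :
    Nat.card H = Nat.card A * (Nat.card V * (Nat.card U * qq K)) := by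
  obtain ⟨e, he⟩ := exists_one hs
  rw [Card.cnt hs he A {0} V U {0} (by simp) H fun x => by
    rw [h]
    refine and_congr_right fun _ => and_congr_right fun hb => ?_
    simp [show x.b = 0 from hb]]
  simp

theorem Card.cnt1 (hs : ∃ e : K, star e ≠ e) (A B V : Set K) (H : Subgroup (Un K))
    (h : ∀ x, x ∈ H ↔ x.a ∈ A ∧ x.b ∈ B ∧ x.v ∈ V) :
    Nat.card H = Nat.card A * (Nat.card B * (Nat.card V * qq K ^ 4)) := by
  obtain ⟨e, he⟩ := exists_one hs
  rw [Card.cnt hs he A B V Set.univ {k | k + star k = 0} (fun _ h => h) H fun x => by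
    rw [h]
    have : x.c + e * (x.b * star x.b) + star (x.c + e * (x.b * star x.b)) = 0 := by
      simp only [star_add, star_mul', star_star]
      linear_combination x.hc + (x.b * star x.b) * he
    simp only [Set.mem_univ, Set.mem_setOf_eq, this, and_true]]
  have := Card.skew hs
  rw [Set.coe_setOf, this, Nat.card_univ, card_K hs]
  ring

theorem card_Z1 (hs : ∃ e : K, star e ≠ e) : Nat.card (Z1 K) = qq K := by
  rw [Card.cnt0 hs {0} {0} {0} _ fun x => by simp; tauto]; simp

theorem card_Z2 (hs : ∃ e : K, star e ≠ e) : Nat.card (Z2 K) = qq K ^ 3 := by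
  rw [Card.cnt0 hs {0} {0} Set.univ _ fun x => by simp, Nat.card_univ, card_K hs]; simp; ring

theorem card_Yc (hs : ∃ e : K, star e ≠ e) : Nat.card (Yc K) = qq K ^ 4 := by
  rw [Card.cnt1 hs {0} {0} {0} _ fun x => by simp]; simp

theorem card_Rr (hs : ∃ e : K, star e ≠ e) : Nat.card (Rr K) = qq K ^ 5 := by
  rw [Card.cnt0 hs {0} Set.univ Set.univ _ fun x => by simp, Nat.card_univ, card_K hs]; simp; ring

theorem card_Z3 (hs : ∃ e : K, star e ≠ e) : Nat.card (Z3 K) = qq K ^ 6 := by
  rw [Card.cnt1 hs {0} {0} Set.univ _ fun x => by simp, Nat.card_univ, card_K hs]; simp; ring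

theorem card_Q2 (hs : ∃ e : K, star e ≠ e) : Nat.card (Q2 K) = qq K ^ 7 := by
  rw [Card.cnt0 hs Set.univ Set.univ Set.univ _ fun x => by simp, Nat.card_univ, card_K hs]; ring

theorem card_Q1 (hs : ∃ e : K, star e ≠ e) : Nat.card (Q1 K) = qq K ^ 8 := by
  rw [Card.cnt1 hs {0} Set.univ Set.univ _ fun x => by simp, Nat.card_univ, card_K hs]; simp; ring

theorem card_Un (hs : ∃ e : K, star e ≠ e) : Nat.card (Un K) = qq K ^ 10 := by
  rw [← Subgroup.card_top, Card.cnt1 hs Set.univ Set.univ Set.univ _ fun x => by simp,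
    Nat.card_univ, card_K hs]
  ring

theorem pg_un (hs : ∃ e : K, star e ≠ e) (p : ℕ) [Fact p.Prime] [CharP K p] : IsPGroup p (Un K) := by
  haveI := Fintype.ofFinite K
  obtain ⟨n, -, h⟩ := FiniteField.card K p
  rw [← Nat.card_eq_fintype_card, card_K hs] at h
  refine IsPGroup.of_card (n := n * 5) ?_
  rw [card_Un hs, pow_mul, ← h, ← pow_mul]

theorem exists_norm (hs : ∃ e : K, star e ≠ e) {k : K} (hk : star k = k) : ∃ b : K, b * star b = k := by
  by_cases k0 : k = 0
  · exact ⟨0, by rw [k0, zero_mul]⟩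
  let N : Kˣ →* Kˣ := MonoidHom.mk' (fun x => x * star x) fun a b => by
    rw [star_mul', mul_mul_mul_comm]
  let D : Kˣ →* Kˣ := MonoidHom.mk' (fun x => x / star x) fun a b => by
    rw [star_mul', mul_div_mul_comm]
  have h1 : N.ker ≤ D.range := fun l hl => by
    have h : (l : K) * star (l : K) = 1 := congrArg Units.val (show l * star l = 1 from hl)
    have key : ∀ e : K, e ≠ 0 → e = l * star e → l ∈ D.range := fun e e0 he =>
      ⟨Units.mk0 e e0, div_eq_iff_eq_mul.2 (Units.ext he)⟩
    by_cases h0 : 1 + (l : K) = 0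
    · obtain ⟨s, s0, hs⟩ := exists_skew hs
      exact key s s0 (by linear_combination hs - star s * h0)
    · exact key _ h0 (by rw [star_add, star_one]; linear_combination -h)
  have h2 : N.range ≤ D.ker := by
    rintro _ ⟨x, rfl⟩
    show x * star x / star (x * star x) = 1
    rw [star_mul', star_star, mul_comm (star x), div_self']
  have h3 := N.ker.card_mul_index
  have h4 := D.ker.card_mul_index
  rw [Subgroup.index_ker] at h3 h4
  have h5 : N.range = D.ker := Subgroup.eq_of_le_of_card_ge h2 (by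
    have h6 := Subgroup.card_le_of_le h1
    have h7 : 0 < Nat.card D.range := Nat.card_pos
    refine Nat.le_of_mul_le_mul_right ?_ h7
    rw [h4, ← h3, mul_comm]
    exact Nat.mul_le_mul_left _ h6)
  obtain ⟨b, hb⟩ := h5.ge (show Units.mk0 k k0 ∈ D.ker from div_eq_one.2 (Units.ext hk.symm))
  exact ⟨b, congrArg Units.val hb⟩

theorem exists_norm_one (hs : ∃ e : K, star e ≠ e) : ∃ l : K, l * star l = 1 ∧ l ≠ 1 := by
  obtain ⟨e, he⟩ := hs
  have e0 : e ≠ 0 := fun h => he (by rw [h, star_zero])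
  have e1 := star_ne_zero.2 e0
  refine ⟨e / star e, ?_, fun h => he ((div_eq_one_iff_eq e1).1 h).symm⟩
  rw [star_div₀, star_star]
  field_simp

theorem exists_cube (hs : ∃ e : K, star e ≠ e) : ∃ d : K, d ≠ 0 ∧ d ^ 3 ≠ star d ^ 2 := by
  by_contra! h
  have h1 : Nat.card Kˣ ∣ 5 := by
    rw [← IsCyclic.exponent_eq_card]
    refine Monoid.exponent_dvd_of_forall_pow_eq_one fun d => Units.ext ?_
    have a := h d d.ne_zero
    have b := congrArg star a
    rw [star_pow, star_pow, star_star] at b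
    have c : (d : K) ^ 4 * d ^ 5 = d ^ 4 * 1 := by
      calc (d : K) ^ 4 * d ^ 5 = ((d : K) ^ 3) ^ 3 := by ring
        _ = (star (d : K) ^ 3) ^ 2 := by rw [a]; ring
        _ = _ := by rw [b]; ring
    exact mul_left_cancel₀ (pow_ne_zero 4 d.ne_zero) c
  rw [Nat.card_units, card_K hs] at h1
  have h2 := one_lt_qq (K := K)
  have h3 := Nat.le_of_dvd (by norm_num) h1
  have h4 : qq K ≤ 2 := by
    by_contra! h4
    have : 3 ^ 2 ≤ qq K ^ 2 := Nat.pow_le_pow_left h4 2
    omega
  rw [show qq K = 2 by omega] at h1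
  norm_num at h1

theorem exists_starEquiv (σ : K ≃+* K) : ∃ τ : K ≃⋆+* K, ∀ x, τ x = σ x := by
  obtain ⟨m, hm⟩ := (Units.map (starRingEnd K : K →* K)).map_cyclic
  have h : ∀ x : K, x ≠ 0 → star x = x ^ m := fun x hx => by
    have := congrArg Units.val (hm (Units.mk0 x hx))
    rw [Units.val_zpow_eq_zpow_val] at this
    exact this
  refine ⟨{ σ with map_star' := fun x => ?_ }, fun _ => rfl⟩
  show σ (star x) = star (σ x)
  by_cases hx : x = 0
  · simp [hx]
  · rw [h x hx, h _ (by simpa using hx), map_zpow₀]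

end U5F
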