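import Mathlib
import Cfsg.Agent.Base
import Cfsg.Agent.Lib.U5F.Card

/-!
Automorphisms that preserve both radicals act semilinearly on the Frattini quotient.
-/

set_option autoImplicit false

namespace U5F

open Subgroup H93.SX Un
open scoped commutatorElement

universe u v

variable {K : Type*} [Field K] [StarRing K] [Finite K]

namespace TopA

omit [Finite K] in
theorem pres_b (hs : ∃ e : K, star e ≠ e) (α : Un K ≃* Un K) (h2 : ∀ x, x ∈ Q2 K → α x ∈ Q2 K) {x : Un K}
    (h : x.b = 0) : (α x).b = 0 := by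
  obtain ⟨w, hw⟩ := exists_sub hs (s := x.c) (by simpa [h] using x.hc)
  obtain ⟨c, hc⟩ := exists_c hs (1 : K)
  obtain ⟨c', hc'⟩ := exists_c hs w
  obtain ⟨r, -, r1, -⟩ := exists_un hs 0 1 0 c 0 hc
  obtain ⟨s, -, s1, -⟩ := exists_un hs 0 w 0 c' 0 hc'
  have m : x * ⁅r, s⁆⁻¹ ∈ Q2 K := by
    refine ⟨by simp [h], ?_⟩
    simp only [mul_c, inv_c, comm_c, r1, s1, h, star_one, star_sub, star_mul', star_star]
    linear_combination -hw
  have := (h2 _ m).1
  rwa [map_mul, map_inv, map_commutatorElement, mul_b, inv_b, comm_b, neg_zero, add_zero] at this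

omit [Finite K] in
theorem pres_v (hs : ∃ e : K, star e ≠ e) (α : Un K ≃* Un K) (h1 : ∀ x, α x ∈ Q1 K ↔ x ∈ Q1 K) {x : Un K}
    (h : x ∈ Yc K) : (α x).v = 0 := by
  have hx : α x ∈ Q1 K := (h1 x).2 h.1
  have k : ∀ t : K, (α x).v * star t - t * star (α x).v = 0 := fun t => by
    obtain ⟨r, r1, -, r2, -⟩ := exists_un hs 0 0 t 0 0 (by simp)
    have hr : α.symm r ∈ Q1 K := (h1 _).1 (by rw [α.apply_symm_apply]; exact r1)
    have e := congrArg α (comm_Y0 hr h)
    rw [map_commutatorElement, α.apply_symm_apply, map_one] at e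
    have := comm_z_Q1 (x := r) r1 hx
    rw [e, r2] at this
    exact this.symm
  obtain ⟨e, he⟩ := hs
  have k1 := k 1
  have k2 := k e
  rw [star_one] at k1
  have : (α x).v * (star e - e) = 0 := by linear_combination k2 - e * k1
  exact (mul_eq_zero.1 this).resolve_right (sub_ne_zero.2 he)

end TopA

theorem top_act (hs : ∃ e : K, star e ≠ e) (α : Un K ≃* Un K) (h1 : ∀ x, α x ∈ Q1 K ↔ x ∈ Q1 K)
    (h2 : ∀ x, α x ∈ Q2 K ↔ x ∈ Q2 K) : ∃ (l m : K) (σ : K ≃⋆+* K), l ≠ 0 ∧ m ≠ 0 ∧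
      ∀ x, (α x).a = l * σ x.a ∧ (α x).b = m * σ x.b := by
  have ha : ∀ x : Un K, (α x).a = 0 ↔ x.a = 0 := h1
  have hb : ∀ x : Un K, (α x).b = 0 ↔ x.b = 0 := fun x => ⟨fun h => by
    have := TopA.pres_b hs α.symm (fun y hy => (h2 _).1 (by rwa [α.apply_symm_apply])) h
    rwa [α.symm_apply_apply] at this, TopA.pres_b hs α fun y => (h2 y).2⟩
  have eX : ∀ a : K, ∃ x : Un K, x.a = a ∧ x.b = 0 := fun a =>
    let ⟨x, e1, e2, _⟩ := exists_un hs a 0 0 0 0 (by simp); ⟨x, e1, e2⟩
  have eY : ∀ b : K, ∃ x : Un K, x.a = 0 ∧ x.b = b := fun b =>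
    let ⟨c, hc⟩ := exists_c hs b
    let ⟨x, e1, e2, _⟩ := exists_un hs 0 b 0 c 0 hc; ⟨x, e1, e2⟩
  choose X Xa Xb using eX
  choose Y Ya Yb using eY
  have hA : ∀ x : Un K, (α x).a = (α (X x.a)).a := fun x => by
    have := (ha (x * (X x.a)⁻¹)).2 (by simp [Xa])
    rw [map_mul, map_inv, mul_a, inv_a] at this
    linear_combination this
  have hB : ∀ x : Un K, (α x).b = (α (Y x.b)).b := fun x => by
    have := (hb (x * (Y x.b)⁻¹)).2 (by simp [Yb])
    rw [map_mul, map_inv, mul_b, inv_b] at this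
    linear_combination this
  have key : ∀ a b a' b' : K, a * b = a' * b' →
      (α (X a)).a * (α (Y b)).b = (α (X a')).a * (α (Y b')).b := fun a b a' b' e => by
    have := TopA.pres_v hs α h1 (x := ⁅X a, Y b⁆ * ⁅X a', Y b'⁆⁻¹) (by simp [Xa, Xb, Ya, Yb, e])
    rw [map_mul, map_inv, map_commutatorElement, map_commutatorElement] at this
    simp only [mul_v, inv_v, inv_b, comm_a, comm_b, comm_v, (ha _).2 (Ya _)] at this
    linear_combination this
  have l0 : (α (X 1)).a ≠ 0 := fun e => one_ne_zero ((Xa 1).symm.trans ((ha _).1 e))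
  have m0 : (α (Y 1)).b ≠ 0 := fun e => one_ne_zero ((Yb 1).symm.trans ((hb _).1 e))
  have hBA : ∀ b : K, (α (Y b)).b = (α (Y 1)).b * ((α (X b)).a / (α (X 1)).a) := fun b => by
    have := key 1 b b 1 (by ring)
    field_simp
    linear_combination this
  let f : K →+* K :=
    { toFun := fun a => (α (X a)).a / (α (X 1)).a
      map_one' := div_self l0
      map_zero' := by rw [(ha _).2 (Xa 0), zero_div]
      map_add' := fun a b => by
        have := hA (X a * X b)
        rw [mul_a, Xa, Xa, map_mul, mul_a] at this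
        rw [← this, add_div]
      map_mul' := fun a b => by
        have := key (a * b) 1 a b (by ring)
        rw [hBA b] at this
        field_simp at this ⊢
        linear_combination this }
  obtain ⟨τ, hτ⟩ := exists_starEquiv (RingEquiv.ofBijective f (Finite.injective_iff_bijective.1 f.injective))
  refine ⟨_, _, τ, l0, m0, fun x => ⟨?_, ?_⟩⟩
  · rw [hτ, hA]
    exact (mul_div_cancel₀ _ l0).symm
  · rw [hτ, hB, hBA]
    rfl

end U5F
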