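import Mathlib
import Cfsg.Agent.Base
import Cfsg.Agent.Lib.U5F.TopA
import Cfsg.Agent.Lib.PGroup.Frattini
import Cfsg.Agent.Lib.Core.CoprimeBasic

/-!
The automizer of the whole group can be made standard.
-/

set_option autoImplicit false

namespace U5F

open Subgroup H93.SX Un
open scoped commutatorElement

universe u v

variable {K : Type*} {Γ : Type u} [Field K] [StarRing K] [Finite K] [Group Γ] [Finite Γ] {p : ℕ}
  [Fact p.Prime] {ι : Un K →* Γ} {E : Subgroup (Un K)} {g : Γ}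

namespace TopB

omit [Finite K] in
theorem Z3_le (hs : ∃ e : K, star e ≠ e) : Z3 K ≤ commutator (Un K) := by
  have cm : ∀ x y : Un K, ⁅x, y⁆ ∈ commutator (Un K) := fun x y =>
    commutator_mem_commutator (mem_top x) (mem_top y)
  have k1 : ∀ t ∈ Z1 K, t ∈ commutator (Un K) := fun t ht => by
    obtain ⟨ha, hb, hv, hc, hu⟩ := ht
    obtain ⟨w, hw⟩ := exists_sub hs (s := t.z) (by simpa [ha, hu, hv] using t.hz)
    obtain ⟨x, x1, x2, x3, x4, x5⟩ := exists_un hs 1 0 0 0 0 (by simp)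
    obtain ⟨y, y1, y2, y3, y4, y5⟩ := exists_un hs 0 0 0 0 w (by simp)
    have hy : y ∈ Z2 K := ⟨y1, y2, y3, y4⟩
    obtain ⟨a, b, v, c, u⟩ := comm_Z1 x hy
    have : t = ⁅x, y⁆ := Un.ext (ha.trans a.symm) (hb.trans b.symm) (hv.trans v.symm) (hc.trans c.symm)
      (hu.trans u.symm) (by rw [comm_z2 x hy, x1, y5, ← hw]; simp)
    exact this ▸ cm x y
  have k2 : ∀ t ∈ Z2 K, t ∈ commutator (Un K) := fun t ht => by
    obtain ⟨ha, hb, hv, hc⟩ := ht
    obtain ⟨c, e⟩ := exists_c hs (1 : K)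
    obtain ⟨x, x1, x2, x3, x4, x5⟩ := exists_un hs 0 1 0 c 0 e
    obtain ⟨y, y1, y2, y3, y4, y5⟩ := exists_un hs 0 0 t.u 0 0 (by simp)
    have := k1 (t * ⁅x, y⁆⁻¹) (by simp [*])
    exact (mul_mem_cancel_right (inv_mem (cm x y))).1 this
  intro t ht
  obtain ⟨ha, hb⟩ := ht
  have hc : t.c + star t.c = 0 := by simpa [hb] using t.hc
  obtain ⟨w, hw⟩ := exists_sub hs hc
  obtain ⟨c, e⟩ := exists_c hs (1 : K)
  obtain ⟨c', e'⟩ := exists_c hs w
  obtain ⟨x, x1, x2, x3, x4, x5⟩ := exists_un hs 0 1 0 c 0 e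
  obtain ⟨y, y1, y2, y3, y4, y5⟩ := exists_un hs (-t.v) w 0 c' 0 e'
  have := k2 (t * ⁅x, y⁆⁻¹) (by simp [ha, hb, x1, x2, y1, y2, ← hw])
  exact (mul_mem_cancel_right (inv_mem (cm x y))).1 this

variable (K) in
/-- automorphisms that are trivial on the Frattini quotient -/
def PP : Subgroup (MulAut (Un K)) where
  carrier := {α | ∀ x, (α x).a = x.a ∧ (α x).b = x.b}
  one_mem' _ := ⟨rfl, rfl⟩
  mul_mem' := fun {α β} h k x => ⟨(h (β x)).1.trans (k x).1, (h (β x)).2.trans (k x).2⟩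
  inv_mem' := fun {α} h x => by
    have := h (α⁻¹ x)
    rw [MulAut.apply_inv_self] at this
    exact ⟨this.1.symm, this.2.symm⟩

variable (K) in
/-- the standard automorphisms -/
def DD : Subgroup (MulAut (Un K)) where
  carrier := {α | ∃ l m σ, l ≠ 0 ∧ m ≠ 0 ∧ ∀ x, α x = dl l m σ x}
  one_mem' := ⟨1, 1, .refl, one_ne_zero, one_ne_zero, fun x => by ext <;> simp⟩
  mul_mem' := by
    rintro α β ⟨l, m, σ, hl, hm, e⟩ ⟨l', m', σ', hl', hm', e'⟩
    refine ⟨l * σ l', m * σ m', σ'.trans σ, by simp [hl, hl'], by simp [hm, hm'], fun x => ?_⟩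
    rw [MulAut.mul_apply, e', e]
    ext <;> simp [star_mul', map_star] <;> ring
  inv_mem' := by
    rintro α ⟨l, m, σ, hl, hm, e⟩
    refine ⟨σ.symm l⁻¹, σ.symm m⁻¹, σ.symm, by simp [hl], by simp [hm], fun x => ?_⟩
    have := star_ne_zero.2 hl
    have := star_ne_zero.2 hm
    rw [MulAut.inv_apply, MulEquiv.symm_apply_eq, e]
    ext <;> simp [map_star] <;> field_simp

/-- the elements of `Γ` inducing an automorphism in `X` -/
def pre {W : Type*} [Group W] (ι : W →* Γ) (X : Subgroup (MulAut W)) : Subgroup Γ where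
  carrier := {g | ∃ α ∈ X, ∀ x, Cj ι g x (α x)}
  one_mem' := ⟨1, one_mem _, fun _ => Cj.one⟩
  mul_mem' := fun ⟨_, h, e⟩ ⟨β, k, e'⟩ => ⟨_, mul_mem h k, fun x => (e (β x)).trans (e' x)⟩
  inv_mem' := fun ⟨α, h, e⟩ => ⟨_, inv_mem h, fun x => by
    have := (e (α⁻¹ x)).symm
    rwa [MulAut.apply_inv_self] at this⟩

/-- the induced automorphisms -/
def AA {W : Type*} [Group W] (ι : W →* Γ) : Subgroup (MulAut W) where
  carrier := {α | ∃ g, ∀ x, Cj ι g x (α x)}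
  one_mem' := ⟨1, fun _ => Cj.one⟩
  mul_mem' := fun {_ β} ⟨_, e⟩ ⟨_, e'⟩ => ⟨_, fun x => (e (β x)).trans (e' x)⟩
  inv_mem' := fun {α} ⟨_, e⟩ => ⟨_, fun x => by
    have := (e (α⁻¹ x)).symm
    rwa [MulAut.apply_inv_self] at this⟩

theorem inner {W : Type*} [Group W] {ι : W →* Γ} (F : Cf p ι) {X : Subgroup (MulAut W)} (hX : IsPGroup p X)
    (hI : ∀ t, MulAut.conj t ∈ X) {α : MulAut W} (h : α ∈ X) (h' : α ∈ AA ι) :
    ∃ t, ∀ x, α x = t * x * t⁻¹ := by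
  obtain ⟨g, e⟩ := h'
  have h1 : ι.range ⊓ nr ι ⊤ ⊔ centralizer ((⊤ : Subgroup W).map ι : Set Γ) ≤ pre ι X := sup_le (by
      rintro _ ⟨⟨t, rfl⟩, -⟩
      exact ⟨_, hI t, Cj.self t⟩) fun k hk => ⟨1, one_mem _, fun x => .of_cent hk (mem_top x)⟩
  have h2 : pre ι X ≤ nr ι ⊤ := fun k ⟨β, _, e⟩ => mem_nr fun x _ => ⟨β x, mem_top _, e x⟩
  have := H93.R3.le_of_syl h1 ((H93.R3.lg_mono h2).trans
    (H93.R3.lg_norm F.pr F.sat (fn_of fun _ _ _ => mem_top _))) le_rfl (fun k ⟨β, hβ, e⟩ c => by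
      have a : ∀ n : ℕ, ∀ x, Cj ι (k ^ n) x ((β ^ n) x) := fun n => by
        induction n with
        | zero => intro x; rw [pow_zero, pow_zero]; exact Cj.one
        | succ n ih => intro x; rw [pow_succ, pow_succ]; exact (ih (β x)).trans (e x)
      have b : β ^ orderOf k = 1 := MulEquiv.ext fun x => by
        have := a (orderOf k) x
        rw [pow_orderOf_eq_one] at this
        exact this.uniq F.inj Cj.one
      obtain ⟨j, hj⟩ := hX ⟨β, hβ⟩
      have d : β ^ p ^ j = 1 := congrArg Subtype.val hj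
      have : β = 1 := by
        rw [← pow_one β, ← (c.pow_right j).gcd_eq_one, pow_gcd_eq_one]
        exact ⟨b, d⟩
      subst this
      exact mem_sup_right (cent_of_cj fun x _ => e x)) ⟨α, h, e⟩
  obtain ⟨_, ⟨⟨t, rfl⟩, -⟩, e'⟩ := exists_of_sup inf_le_right this
  exact ⟨t, fun x => (e' x (mem_top x) _ (e x)).uniq F.inj (Cj.self t x)⟩

theorem exists_aut {W : Type*} [Group W] [Finite W] {ι : W →* Γ} (i : Function.Injective ι) {g : Γ}
    (hg : g ∈ nr ι ⊤) : ∃ α : MulAut W, ∀ x, Cj ι g x (α x) := by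
  choose f _ e using fun x => nr_cj hg (mem_top x)
  let φ : W →* W := MonoidHom.mk' f fun a b => (e _).uniq i ((e a).mul (e b))
  have : Function.Injective φ := fun a b h => (e a).symm.uniq i (by rw [show f a = f b from h]; exact (e b).symm)
  exact ⟨MulEquiv.ofBijective φ (Finite.injective_iff_bijective.1 this), e⟩

theorem pg_PP (hs : ∃ e : K, star e ≠ e) (h : IsPGroup p (Un K)) : IsPGroup p (PP K) := by
  rintro ⟨α, hα⟩
  obtain ⟨k, n, hn, e⟩ := Nat.exists_eq_pow_mul_and_not_dvd (orderOf_pos α).ne' p (Fact.out : p.Prime).ne_one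
  have h0 : p ^ k ≠ 0 := pow_ne_zero _ (Fact.out : p.Prime).ne_zero
  refine ⟨k, Subtype.ext (H5.aut_eq_one_of_frattini h (α ^ p ^ k) ?_ fun x => ?_)⟩
  · rw [orderOf_pow_of_dvd h0 ⟨n, e⟩, e, Nat.mul_div_cancel_left _ (Nat.pos_of_ne_zero h0)]
    exact ((Nat.Prime.coprime_iff_not_dvd Fact.out).2 hn).symm
  · have := pow_mem hα (p ^ k) x
    exact H5.commutator_le_frattini h (Z3_le hs (by simp [this.1, this.2]))

omit [Finite K] in
theorem conj_PP (t : Un K) : MulAut.conj t ∈ PP K := fun x => by simp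

theorem DD_norm : DD K ≤ normalizer (PP K : Set (MulAut (Un K))) := H93.R3.le_norm (by
  rintro δ ⟨l, m, σ, -, -, e⟩ π hπ x
  have := e (δ⁻¹ x)
  rw [MulAut.apply_inv_self] at this
  rw [MulAut.mul_apply, MulAut.mul_apply, e, dl_a, dl_b, (hπ _).1, (hπ _).2]
  exact ⟨(congrArg Un.a this).symm, (congrArg Un.b this).symm⟩)

omit [Finite K] in
theorem DD_PP (hs : ∃ e : K, star e ≠ e) {δ : MulAut (Un K)} (h : δ ∈ DD K) (h' : δ ∈ PP K) : δ = 1 := by
  obtain ⟨l, m, σ, -, -, e⟩ := h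
  have k : ∀ a : K, l * σ a = a ∧ m * σ a = a := fun a => by
    obtain ⟨c, hc⟩ := exists_c hs a
    obtain ⟨x, x1, x2, -⟩ := exists_un hs a a 0 c 0 hc
    have := h' x
    rwa [e, dl_a, dl_b, x1, x2] at this
  have l1 : l = 1 := by simpa using (k 1).1
  have m1 : m = 1 := by simpa using (k 1).2
  have s : ∀ a, σ a = a := fun a => by simpa [l1] using (k a).1
  ext x <;> simp [e, l1, m1, s]

theorem exists_DD (hs : ∃ e : K, star e ≠ e) (F : Cf p ι) (h1 : nr ι ⊤ ≤ nr ι (Q1 K))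
    (h2 : nr ι ⊤ ≤ nr ι (Q2 K)) {α : MulAut (Un K)} (h : α ∈ AA ι) : ∃ δ ∈ DD K, α * δ⁻¹ ∈ PP K := by
  obtain ⟨g, e⟩ := h
  have hg : g ∈ nr ι ⊤ := mem_nr fun x _ => ⟨α x, mem_top _, e x⟩
  obtain ⟨l, m, σ, hl, hm, k⟩ := top_act hs α (fun x => ⟨(e x).mem' F.inj (h1 hg), (e x).mem F.inj (h1 hg)⟩)
    fun x => ⟨(e x).mem' F.inj (h2 hg), (e x).mem F.inj (h2 hg)⟩
  have i : Function.Injective (dl l m σ) := (injective_iff_map_eq_one _).2 fun x hx => by
    simpa [eq_one, hl, hm] using hx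
  let δ : MulAut (Un K) := MulEquiv.ofBijective (dl l m σ) (Finite.injective_iff_bijective.1 i)
  refine ⟨δ, ⟨l, m, σ, hl, hm, fun _ => rfl⟩, fun x => ?_⟩
  obtain ⟨y, rfl⟩ := δ.surjective x
  rw [MulAut.mul_apply, MulAut.inv_apply_self]
  exact k y

theorem eqns_TopB : True := by
  have := @PP.eq_1.{0}
  have := @DD.eq_1.{0}
  have := @pre.eq_1.{0, 0}
  have := @AA.eq_1.{0, 0}
  trivial

end TopB

open TopB in
theorem exists_std (hs : ∃ e : K, star e ≠ e) (F : Cf p ι) (h1 : nr ι ⊤ ≤ nr ι (Q1 K)) (h2 : nr ι ⊤ ≤ nr ι (Q2 K)) :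
    ∃ η : Un K ≃* Un K, Std (ι.comp η.toMonoidHom) := by
  have hP := pg_PP hs F.pg
  have hA : AA ι ≤ normalizer (PP K : Set (MulAut (Un K))) := fun α h => by
    obtain ⟨δ, hδ, e⟩ := exists_DD hs F h1 h2 h
    simpa using mul_mem (le_normalizer e) (DD_norm hδ)
  have hD : ∀ δ ∈ DD K ⊓ (PP K ⊔ AA ι), ∃ π ∈ PP K, π * δ ∈ AA ι := fun δ hδ => by
    obtain ⟨π, hπ, α, hα, e⟩ := (H68.mem_sup_of_le_normalizer' hA).1 hδ.2
    exact ⟨π⁻¹, inv_mem hπ, by rwa [e, inv_mul_cancel_left]⟩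
  have cop : (Nat.card (DD K ⊓ (PP K ⊔ AA ι) : Subgroup _)).Coprime (Nat.card (PP K)) := by
    obtain ⟨n, hn⟩ := hP.exists_card_eq
    rw [hn]
    refine ((Nat.Prime.coprime_iff_not_dvd Fact.out).2 fun h => ?_).symm.pow_right n
    obtain ⟨⟨δ, hδ⟩, o⟩ := exists_prime_orderOf_dvd_card' p h
    rw [Subgroup.orderOf_mk] at o
    obtain ⟨π, hπ, e⟩ := hD δ hδ
    have hz : IsPGroup p (zpowers δ) := IsPGroup.of_card (n := 1) (by rw [Nat.card_zpowers, o, pow_one])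
    obtain ⟨t, ht⟩ := inner F (hP.to_sup_of_normal_left' hz (zpowers_le.2 (DD_norm hδ.1)))
      (fun t => mem_sup_left (conj_PP t)) (mul_mem_sup hπ (mem_zpowers δ)) e
    have : π * δ ∈ PP K := (MulEquiv.ext ht : π * δ = MulAut.conj t) ▸ conj_PP t
    rw [DD_PP hs hδ.1 ((mul_mem_cancel_left hπ).1 this), orderOf_one] at o
    exact (Fact.out : p.Prime).ne_one o.symm
  haveI := hP.isNilpotent
  obtain ⟨k, hk, e⟩ := H2.exists_conj_le_of_forall_mul_mem (inf_le_left.trans DD_norm) cop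
    (Or.inr inferInstance) hD
  refine ⟨k, fun g hg => ?_⟩
  obtain ⟨α, hα⟩ := exists_aut F.inj (g := g) (mem_nr fun x _ => by
    obtain ⟨y, -, e⟩ := nr_cj hg (mem_top (k.symm x))
    exact ⟨k y, mem_top _, by simpa [Cj.comp] using e⟩)
  have hα' : α ∈ AA ι := ⟨g, hα⟩
  obtain ⟨δ, hδ, e1⟩ := exists_DD hs F h1 h2 hα'
  have e2 := e δ ⟨hδ, by simpa using mul_mem_sup (inv_mem e1) hα'⟩
  obtain ⟨t, ht⟩ := inner F hP conj_PP (α := α * (k * δ * k⁻¹)⁻¹) (by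
    have := mul_mem (mul_mem e1 (H93.R3.conj_mem (DD_norm hδ) hk)) (inv_mem hk)
    simpa [mul_assoc] using this) (mul_mem hα' (inv_mem e2))
  obtain ⟨l, m, σ, hl, hm, e3⟩ := hδ
  refine ⟨k.symm t, l, m, σ, hl, hm, fun x => ?_⟩
  have := ht (k (δ x))
  simp only [mul_inv_rev, inv_inv, MulAut.mul_apply, MulAut.inv_apply_self] at this
  have e4 := hα (k x)
  rw [this] at e4
  rw [← e3, Cj.comp]
  simpa using e4

end U5F
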