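import Mathlib
import Cfsg.Agent.Base
import Cfsg.Agent.Lib.U5F.Defs

/-!
The matrices of the elements of the unipotent group.
-/

set_option autoImplicit false
set_option maxHeartbeats 3200000

namespace U5F

open Matrix Un

variable {K : Type*} [Field K] [StarRing K] {x y : Un K}

/-- The matrix of an element. -/
def mx (x : Un K) : Matrix (Fin 5) (Fin 5) K :=
  !![1, x.a, x.v, x.u, x.z;
    0, 1, x.b, x.c, -star x.u - x.c * star x.a - x.b * star x.v;
    0, 0, 1, -star x.b, star x.a * star x.b - star x.v;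
    0, 0, 0, 1, -star x.a;
    0, 0, 0, 0, 1]

variable (K) in
/-- The antidiagonal form. -/
def JJ : Matrix (Fin 5) (Fin 5) K :=
  !![0, 0, 0, 0, 1; 0, 0, 0, 1, 0; 0, 0, 1, 0, 0; 0, 1, 0, 0, 0; 1, 0, 0, 0, 0]

/-- A diagonal unitary matrix. -/
def dg (d e f : K) : Matrix (Fin 5) (Fin 5) K := diagonal ![d, e, f, (star e)⁻¹, (star d)⁻¹]

theorem mx_one : mx (1 : Un K) = 1 := by
  ext i j; fin_cases i <;> fin_cases j <;> simp [mx]

theorem mx_mul (x y : Un K) : mx (x * y) = mx x * mx y := by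
  ext i j
  fin_cases i <;> fin_cases j <;> simp [mx, Matrix.mul_apply, Fin.sum_univ_five, sc] <;> ring

theorem mx_inj : Function.Injective (mx (K := K)) := fun _ _ h =>
  Un.ext (congrArg (· 0 1) h) (congrArg (· 1 2) h) (congrArg (· 0 2) h) (congrArg (· 1 3) h)
    (congrArg (· 0 3) h) (congrArg (· 0 4) h)

theorem mx_unit (x : Un K) : mx x * JJ K * (mx x)ᴴ = JJ K := by
  ext i j
  fin_cases i <;> fin_cases j <;>
    simp [mx, JJ, Matrix.mul_apply, Fin.sum_univ_five, conjTranspose_apply, sc, sz] <;> ring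

theorem mx_det (x : Un K) : (mx x).det = 1 := by
  rw [det_of_isUpperTriangular fun i j => by fin_cases i <;> fin_cases j <;> simp [mx]]
  simp [mx, Fin.prod_univ_five]

omit [StarRing K] in
theorem JJ_mul : JJ K * JJ K = 1 := by
  ext i j; fin_cases i <;> fin_cases j <;> simp [JJ, Matrix.mul_apply, Fin.sum_univ_five]

theorem JJ_conj : (JJ K)ᴴ = JJ K := by
  ext i j; fin_cases i <;> fin_cases j <;> simp [JJ, conjTranspose_apply]

theorem dg_unit {d e f : K} (hd : d ≠ 0) (he : e ≠ 0) (hf : f * star f = 1) :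
    dg d e f * JJ K * (dg d e f)ᴴ = JJ K := by
  ext i j
  fin_cases i <;> fin_cases j <;>
    simp [dg, JJ, Matrix.mul_apply, Fin.sum_univ_five, conjTranspose_apply, diagonal_apply, *]

theorem dg_mx {d e f : K} (hd : d ≠ 0) (he : e ≠ 0) (hf : f * star f = 1) (x : Un K) :
    dg d e f * mx x = mx (dl (d / e) (e / f) .refl x) * dg d e f := by
  have f0 : f ≠ 0 := left_ne_zero_of_mul_eq_one hf
  have e1 : star f = f⁻¹ := eq_inv_of_mul_eq_one_right hf
  have := star_ne_zero.2 hd
  have := star_ne_zero.2 he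
  ext i j
  rw [dg, diagonal_mul, mul_diagonal]
  fin_cases i <;> fin_cases j <;> simp [mx, e1] <;> field_simp

theorem mx_map (σ : K ≃⋆+* K) (x : Un K) : (mx x).map σ = mx (dl 1 1 σ x) := by
  ext i j
  fin_cases i <;> fin_cases j <;> simp [mx, map_star]

theorem u5mat_eq_defs : True := by
  have := @mx.eq_1.{0}
  have := @JJ.eq_1.{0}
  have := @dg.eq_1.{0}
  trivial

end U5F
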