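import Mathlib
import Cfsg.Agent.Base
import Cfsg.Agent.Lib.U5F.Mat
import Cfsg.Agent.Lib.U5F.Card
import Cfsg.Agent.S0280

/-!
The unipotent group is a Sylow subgroup of the projective special unitary group.
-/

set_option autoImplicit false

namespace U5F

open Subgroup H93.SX Un
open scoped commutatorElement

universe u v

namespace Syl

open Matrix

variable {K : Type*} [Field K] [StarRing K]

theorem exists_R [Finite K] (hs : ∃ e : K, star e ≠ e) :
    ∃ R : Matrix (Fin 5) (Fin 5) K, R * Rᴴ = JJ K := by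
  obtain ⟨a, ha⟩ := exists_norm hs (k := -1) (by simp)
  obtain ⟨l, hl, l1⟩ := exists_norm_one hs
  obtain ⟨c, hc⟩ : ∃ c : K, c * (1 - l) = 1 := ⟨_, inv_mul_cancel₀ (sub_ne_zero.2 l1.symm)⟩
  have hc' : star c * (1 - star l) = 1 := by simpa [mul_comm] using congrArg star hc
  have e1 : 1 + a * star a = 0 := by rw [ha]; ring
  have e2 : star c + a * (star c * star a * star l) = 1 := by
    linear_combination hc' + star c * star l * ha
  have e3 : c + c * a * l * star a = 1 := by linear_combination hc + c * l * ha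
  have e4 : c * star c + c * a * l * (star c * star a * star l) = 0 := by
    linear_combination c * star c * l * star l * ha - c * star c * hl
  refine ⟨!![1, 0, 0, 0, a; 0, 1, 0, a, 0; 0, 0, 1, 0, 0; 0, c, 0, c * a * l, 0; c, 0, 0, 0, c * a * l], ?_⟩
  ext i j
  fin_cases i <;> fin_cases j <;>
    simp [JJ, Matrix.mul_apply, Fin.sum_univ_five, conjTranspose_apply, star_mul', e1, e2, e3, e4]

theorem JJ_det : (JJ K).det = 1 := by
  have : JJ K = (1 : Matrix (Fin 5) (Fin 5) K).submatrix (Equiv.swap 0 4 * Equiv.swap 1 3 : Equiv.Perm (Fin 5)) id := by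
    ext i j
    fin_cases i <;> fin_cases j <;> simp [JJ, Matrix.one_apply, Equiv.swap_apply_def]
  rw [this, det_permute, det_one, map_mul, Equiv.Perm.sign_swap (by decide), Equiv.Perm.sign_swap (by decide)]
  simp

theorem exists_su {q : ℕ} (hq : ∀ x : K, star x = x ^ q) {R S g : Matrix (Fin 5) (Fin 5) K}
    (hR : R * Rᴴ = JJ K) (hS : S = Rᴴ * JJ K) (h1 : g * JJ K * gᴴ = JJ K) (h2 : g.det = 1) :
    ∃ A : Cfsg.SU 5 K q, (A : SpecialLinearGroup (Fin 5) K).1 = S * g * R := by
  have RS : R * S = 1 := by rw [hS, ← mul_assoc, hR, JJ_mul]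
  have SR : S * R = 1 := mul_eq_one_comm.1 RS
  have e : (S * g * R)ᴴ * (S * g * R) = 1 := by
    refine mul_eq_one_comm.1 ?_
    calc S * g * R * (S * g * R)ᴴ = S * (g * (R * Rᴴ) * gᴴ) * Sᴴ := by
          simp only [conjTranspose_mul, mul_assoc]
      _ = Rᴴ * Sᴴ := by rw [hR, h1, hS, mul_assoc Rᴴ, JJ_mul, mul_one]
      _ = 1 := by rw [← conjTranspose_mul, SR, conjTranspose_one]
  have hf : ∀ u v : Fin 5 → K, Cfsg.hermForm 5 K q u v = star v ⬝ᵥ u := fun u v => by
    simp [Cfsg.hermForm, dotProduct, hq, mul_comm]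
  refine ⟨⟨⟨S * g * R, ?_⟩, fun u v => ?_⟩, rfl⟩
  · rw [det_mul, det_mul, h2, mul_one, ← det_mul, SR, det_one]
  · change Cfsg.hermForm 5 K q ((S * g * R) *ᵥ u) ((S * g * R) *ᵥ v) = _
    rw [hf, hf, star_mulVec, dotProduct_mulVec, vecMul_vecMul, e, vecMul_one]

theorem exists_hom [Finite K] (hs : ∃ e : K, star e ≠ e) {q : ℕ} (hq : ∀ x : K, star x = x ^ q) :
    ∃ f : Un K →* Cfsg.PSU 5 K q, Function.Injective f := by
  obtain ⟨R, hR⟩ := exists_R hs
  obtain ⟨S, hS⟩ : ∃ S, S = Rᴴ * JJ K := ⟨_, rfl⟩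
  have RS : R * S = 1 := by rw [hS, ← mul_assoc, hR, JJ_mul]
  choose ψ hψ using fun x : Un K => exists_su hq hR hS (mx_unit x) (mx_det x)
  obtain ⟨w, hw⟩ := exists_su hq hR hS (g := JJ K) (by rw [JJ_mul, one_mul, JJ_conj]) JJ_det
  have mul : ∀ a b : Matrix (Fin 5) (Fin 5) K, S * a * R * (S * b * R) = S * (a * b) * R := fun a b => by
    calc S * a * R * (S * b * R) = S * a * (R * S) * b * R := by simp only [mul_assoc]
      _ = _ := by rw [RS]; simp only [mul_assoc, one_mul]
  let f : Un K →* Cfsg.SU 5 K q := MonoidHom.mk' ψ fun x y => Subtype.ext (Subtype.ext (by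
    change _ = (ψ x : SpecialLinearGroup (Fin 5) K).1 * (ψ y : SpecialLinearGroup (Fin 5) K).1
    rw [hψ, hψ, hψ, mul, mx_mul]))
  refine ⟨(QuotientGroup.mk' _).comp f, (injective_iff_map_eq_one _).2 fun x hx => ?_⟩
  have h1 := mem_center_iff.1 ((QuotientGroup.eq_one_iff _).1 hx) w
  have h2 : (w : SpecialLinearGroup (Fin 5) K).1 * (ψ x : SpecialLinearGroup (Fin 5) K).1 =
      (ψ x : SpecialLinearGroup (Fin 5) K).1 * (w : SpecialLinearGroup (Fin 5) K).1 :=
    congrArg (fun a : Cfsg.SU 5 K q => (a : SpecialLinearGroup (Fin 5) K).1) h1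
  rw [hψ, hw, mul, mul] at h2
  have h3 : JJ K * mx x = mx x * JJ K := by
    have := congrArg (fun a => R * a * S) h2
    simpa only [← mul_assoc, RS, one_mul, mul_assoc _ R S, mul_one] using this
  have e := fun i j => congrFun (congrFun h3 i) j
  have e1 := e 4 1
  have e2 := e 3 2
  have e3 := e 4 2
  have e4 := e 3 3
  have e5 := e 4 3
  have e6 := e 4 4
  simp [JJ, mx, Matrix.mul_apply, Fin.sum_univ_five] at e1 e2 e3 e4 e5 e6
  exact Un.ext e1 e2 e3 e4 e5 e6

end Syl

theorem exists_equiv {K : Type*} [Field K] [Fintype K] (p : ℕ) [Fact p.Prime] [CharP K p] (n : ℕ)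
    (hn : 1 ≤ n) (hK : Fintype.card K = (p ^ n) ^ 2) (T : Sylow p (Cfsg.PSU 5 K (p ^ n))) :
    ∃ _ : StarRing K, (∃ e : K, star e ≠ e) ∧
      Nonempty (Un K ≃* (T : Subgroup (Cfsg.PSU 5 K (p ^ n)))) := by
  have hp : p.Prime := Fact.out
  have q1 : 1 < p ^ n := Nat.one_lt_pow (by omega) hp.one_lt
  letI : StarRing K :=
    { star := fun x => x ^ p ^ n
      star_involutive := fun x => by
        change (x ^ p ^ n) ^ p ^ n = x
        rw [← pow_mul, ← sq, ← hK, FiniteField.pow_card]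
      star_mul := fun x y => by
        change (x * y) ^ p ^ n = y ^ p ^ n * x ^ p ^ n
        rw [mul_pow, mul_comm]
      star_add := fun x y => add_pow_char_pow x y p n }
  have hs : ∃ e : K, star e ≠ e := by
    by_contra h
    push Not at h
    have h1 := (FiniteField.forall_pow_eq_one_iff K (p ^ n - 1)).1 fun x => by
      have : x ^ p ^ n = x := Units.ext (h (x : K))
      rw [← mul_left_inj x, ← pow_succ, Nat.sub_add_cancel q1.le, this, one_mul]
    have h2 := Nat.le_of_dvd (by omega) h1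
    rw [hK, sq] at h2
    have : p ^ n * 2 ≤ p ^ n * p ^ n := Nat.mul_le_mul_left _ q1
    omega
  refine ⟨this, hs, ?_⟩
  obtain ⟨f, hf⟩ := Syl.exists_hom hs (q := p ^ n) fun _ => rfl
  have hq : qq K = p ^ n := by
    have := card_K hs
    rw [Nat.card_eq_fintype_card, hK] at this
    exact (Nat.pow_left_injective two_ne_zero this).symm
  have e := MonoidHom.ofInjective hf
  have hc : Nat.card f.range = (p ^ n) ^ 10 := by rw [← Nat.card_congr e.toEquiv, card_Un hs, hq]
  have h := Cfsg.Agent.S0280.result hK 5 (by norm_num)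
  rw [← f.range.card_mul_index, hc, show 5 * (5 - 1) / 2 = 10 from rfl, ← mul_assoc, mul_left_comm] at h
  have h1 := Nat.eq_of_mul_eq_mul_left (by positivity) h
  have nd : ¬ p ∣ f.range.index := fun d => by
    obtain ⟨i, -, hi⟩ := (hp.prime.dvd_finset_prod_iff _).1 (h1 ▸ d.mul_left _)
    have d1 : p ∣ (p ^ n) ^ (i + 1) := dvd_pow (dvd_pow_self p (by omega)) (by omega)
    have d2 : 1 ≤ (p ^ n) ^ (i + 1) := Nat.one_le_pow _ _ (by omega)
    refine hp.one_lt.ne' (Nat.dvd_one.1 ?_)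
    split_ifs at hi
    · exact (Nat.dvd_add_right d1).1 hi
    · simpa [Nat.sub_sub_self d2] using Nat.dvd_sub d1 hi
  exact ⟨e.trans ((((pg_un hs p).of_equiv e).toSylow nd).equiv T)⟩

end U5F
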