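import Mathlib
import Cfsg.Agent.Base
import Cfsg.Agent.Lib.U5F.Defs

/-!
An essential subgroup whose intersection with the first radical is invariant.
-/

set_option autoImplicit false

namespace U5F

open Subgroup H93.SX Un
open scoped commutatorElement

universe u v

variable {K : Type*} {Γ : Type u} [Field K] [StarRing K] [Finite K] [Group Γ] [Finite Γ] {p : ℕ}
  [Fact p.Prime] {ι : Un K →* Γ} {E : Subgroup (Un K)} {g : Γ}

namespace G0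

omit [Finite K] in
theorem c2 {t : Un K} (h : t ∈ Z3 K) (x : Un K) : ⁅t, x⁆ ∈ Z2 K := by
  rw [← commutatorElement_inv]
  exact inv_mem (comm_Z2 x h)

omit [Finite K] in
theorem c0 {t x : Un K} (h : t ∈ Yc K) (hx : x ∈ Q1 K) : ⁅t, x⁆ = 1 := by
  rw [← commutatorElement_inv, comm_Y0 hx h, inv_one]

omit [Finite K] in
theorem bot (t : Un K) : ∀ x ∈ (⊥ : Subgroup (Un K)), ⁅t, x⁆ = 1 := fun x hx => by
  rw [mem_bot.1 hx, commutatorElement_one_right]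

omit [Finite K] in
theorem skew {t : Un K} (h : t ∈ Z1 K) : t.z + star t.z = 0 := by
  have := t.hz
  simp_all

omit [Finite K] in
theorem z1 (hs : ∃ e : K, star e ≠ e) : ⁅Z3 K, Z3 K⁆ = Z1 K := by
  refine le_antisymm (commutator_le.2 fun x hx y hy => by simp_all) fun t ht => ?_
  obtain ⟨w, hw⟩ := exists_sub hs (skew ht)
  obtain ⟨x, x1, x2, x3, x4, -⟩ := exists_un hs 0 0 1 0 0 (by simp)
  obtain ⟨y, y1, y2, y3, y4, -⟩ := exists_un hs 0 0 w 0 0 (by simp)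
  have e : t = ⁅x, y⁆ := by
    have := comm_z_Q1 (x := x) (y := y) x1 y1
    ext <;> simp_all
  exact e ▸ commutator_mem_commutator ⟨x1, x2⟩ ⟨y1, y2⟩

omit [Finite K] in
theorem z2 (hs : ∃ e : K, star e ≠ e) {x t : Un K} (hx : x.a ≠ 0) (ht : t ∈ Z1 K) :
    ∃ y ∈ Z2 K, t = ⁅x, y⁆ := by
  obtain ⟨w, hw⟩ := exists_sub hs (skew ht)
  obtain ⟨y, y1, y2, y3, y4, y5⟩ := exists_un hs 0 0 0 0 (w / star x.a) (by simp)
  refine ⟨y, ⟨y1, y2, y3, y4⟩, ?_⟩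
  have := comm_z2 x (y := y) ⟨y1, y2, y3, y4⟩
  have h' := star_ne_zero.2 hx
  rw [y5, star_div₀, star_star, div_mul_cancel₀ _ h', mul_div_cancel₀ _ hx, hw] at this
  ext <;> simp_all

end G0

open G0

theorem g0 (hs : ∃ e : K, star e ≠ e) (F : Cf p ι) (h : Es p ι E) (h1 : ¬ E ≤ Q1 K) (h2 : Z2 K ≤ E)
    (h3 : nr ι E ≤ nr ι (E ⊓ Q1 K)) : False := by
  obtain ⟨x0, hx, a0⟩ := SetLike.not_le_iff_exists.1 h1
  rw [mem_Q1] at a0
  have nb : nr ι E ≤ nr ι ⊥ := fun _ _ => nr_bot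
  have l2 : Z2 K ≤ E ⊓ Q1 K := fun x hx => ⟨h2 hx, hx.1⟩
  have hY : Yc K ≤ E := fun t ht => h.chain F h3 nb nb (self_ch inf_le_left bot_le le_rfl
    (fun x _ => l2 (c2 ⟨ht.1, ht.2.1⟩ x)) (fun x hx => c0 ht hx.2) (bot t) (bot t))
  by_cases hw : ∀ w ∈ E ⊓ Q1 K, (∀ y ∈ E ⊓ Q1 K, ⁅w, y⁆ = 1) → w ∈ Yc K
  · have nY : nr ι E ≤ nr ι (Yc K) := fun g hg => nr_cent F.inj (h3 hg) (h3 hg) fun x =>
      ⟨fun k => ⟨⟨hY k, k.1⟩, fun y hy => c0 k hy.2⟩, fun k => hw x k.1 k.2⟩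
    have h4 : Z3 K ≤ E := fun t ht => h.chain F nY nb nb (self_ch hY bot_le le_rfl
      (fun x _ => let k := c2 ht x; ⟨k.1, k.2.1, k.2.2.1⟩)
      (fun x hx => comm_Y0 ht.1 hx) (bot t) (bot t))
    have h5 : Q1 K ≤ E := fun t ht => h.chain F h3 nY nb (self_ch inf_le_left
      (fun x hx => ⟨hY hx, hx.1⟩) bot_le (fun x _ => ⟨h4 (comm_Z3 t x), comm_a⟩)
      (fun x hx => comm_Y ht hx.2) (fun x hx => comm_Y0 ht hx) (bot t))
    rw [inf_eq_right.2 h5] at h3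
    have n3 : nr ι E ≤ nr ι (Z3 K) := fun g hg => nr_rc F.inj 0 (h3 hg) hg (nY hg) fun x =>
      ⟨fun k => ⟨k.1, by simp, fun y _ => let k := c2 k y; ⟨k.1, k.2.1, k.2.2.1⟩⟩, fun k => ⟨k.1, by
        have := (k.2.2 x0 hx).2.2
        have := mem_Q1.1 k.1
        simp_all⟩⟩
    have n1 : nr ι E ≤ nr ι (Z1 K) := fun g hg => z1 hs ▸ nr_comm (n3 hg) (n3 hg)
    have n2 : nr ι E ≤ nr ι (Z2 K) := fun g hg => nr_rc F.inj 0 (nY hg) hg (n1 hg) fun x =>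
      ⟨fun k => ⟨⟨k.1, k.2.1, k.2.2.1⟩, by simp, fun y _ => by
        rw [← commutatorElement_inv]; exact inv_mem (comm_Z1 y k)⟩, fun k => ⟨k.1.1, k.1.2.1, k.1.2.2, by
        have := (k.2.2 x0 hx).2.2.2.2
        have := mem_Yc.1 k.1
        simp_all⟩⟩
    exact (se3 h4).not F h n3 n2 n1
  push Not at hw
  obtain ⟨w, hw, cw, nw⟩ := hw
  have wa := mem_Q1.1 hw.2
  have l3 : E ⊓ Q1 K ≤ Z3 K := fun e he => ⟨he.2, by
    by_contra eb
    have ea := mem_Q1.1 he.2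
    have k1 := congrArg Un.u (cw ⁅x0, e⁆
      ⟨E.mul_mem (E.mul_mem (E.mul_mem hx he.1) (E.inv_mem hx)) (E.inv_mem he.1), comm_a⟩)
    have k2 := congrArg Un.u (cw e he)
    have wb : w.b = 0 := by simpa [wa, ea, a0, eb] using k1
    have wv : w.v = 0 := by simpa [wa, ea, wb, eb] using k2
    exact nw ⟨wa, wb, wv⟩⟩
  have wb := (l3 hw).2
  have wv : w.v ≠ 0 := fun e => nw ⟨wa, wb, e⟩
  obtain ⟨e, he⟩ := id hs
  obtain ⟨t, t1, t2, t3, -⟩ := exists_un hs 0 0 (e * w.v) 0 0 (by simp)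
  have lB : ⁅E, E ⊓ Q1 K⁆ ≤ Z2 K := commutator_le.2 fun x _ y hy => comm_Z2 x (l3 hy)
  have tE : t ∈ E := h.chain F h3 (fun g hg => nr_comm hg (h3 hg)) nb (self_ch inf_le_left (lB.trans l2)
    bot_le (fun x _ => l2 (c2 ⟨t1, t2⟩ x)) (fun x hx' => by
      obtain ⟨y, hy, k⟩ := z2 hs a0 ((z1 hs).le (commutator_mem_commutator (g₁ := t) ⟨t1, t2⟩ (l3 hx')))
      exact k ▸ commutator_mem_commutator hx (l2 hy))
    (fun x hx => let k := lB hx; comm_Y0 t1 ⟨k.1, k.2.1, k.2.2.1⟩) (bot t))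
  have k := comm_z_Q1 (x := w) (y := t) wa t1
  rw [cw t ⟨tE, t1⟩, t3, star_mul', one_z] at k
  exact he (mul_left_cancel₀ (mul_ne_zero wv (star_ne_zero.2 wv)) (by linear_combination k))

end U5F
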