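import Mathlib
import Cfsg.Agent.Base
import Cfsg.Agent.Lib.U5F.Defs

/-!
Characteristic subgroups of the two radicals and extension of automorphisms.
-/

set_option autoImplicit false

namespace U5F

open Subgroup H93.SX Un
open scoped commutatorElement

universe u v

variable {K : Type*} {Γ : Type u} [Field K] [StarRing K] [Finite K] [Group Γ] [Finite Γ] {p : ℕ}
  [Fact p.Prime] {ι : Un K →* Γ} {E : Subgroup (Un K)} {g : Γ}

namespace Nr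

omit [Finite K] in
theorem skew0 (hs : ∃ e : K, star e ≠ e) {b : K} (h : ∀ β : K, β * star b - b * star β = 0) : b = 0 := by
  obtain ⟨e, he⟩ := hs
  have h1 := h 1
  have h2 := h e
  rw [star_one] at h1
  refine (mul_eq_zero.1 (show b * (star e - e) = 0 by linear_combination e * h1 - h2)).resolve_right
    (sub_ne_zero.2 he)

omit [Finite K] in
theorem csymm {x y : Un K} (h : ⁅x, y⁆ = 1) : ⁅y, x⁆ = 1 := by
  rw [← commutatorElement_inv, h, inv_one]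

omit [Finite K] in
theorem Z1_eq (hs : ∃ e : K, star e ≠ e) : ⁅Z3 K, Z3 K⁆ = Z1 K := by
  refine le_antisymm (commutator_le.2 fun x hx y hy => by simp_all) fun t ht => ?_
  obtain ⟨h1, h2, h3, h4, h5⟩ := ht
  obtain ⟨w, hw⟩ := exists_sub hs (s := t.z) (by have := t.hz; simp_all)
  obtain ⟨x, x1, x2, x3, x4, x5⟩ := exists_un hs 0 0 1 0 0 (by simp)
  obtain ⟨y, y1, y2, y3, y4, y5⟩ := exists_un hs 0 0 w 0 0 (by simp)
  have : t = ⁅x, y⁆ := by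
    ext
    · simp [h1]
    · simp [h2]
    · simp [*]
    · simp [*]
    · simp [*]
    · rw [comm_z_Q1 x1 y1, x3, y3, ← hw]; simp
  rw [this]
  exact commutator_mem_commutator ⟨x1, x2⟩ ⟨y1, y2⟩

omit [Finite K] in
theorem Z2_eq (hs : ∃ e : K, star e ≠ e) : ⁅Z3 K, Q1 K⁆ = Z2 K := by
  refine le_antisymm (commutator_le.2 fun x hx y hy => by simp_all) fun t ht => ?_
  obtain ⟨h1, h2, h3, h4⟩ := ht
  obtain ⟨c, hc⟩ := exists_c hs 1
  obtain ⟨x, x1, x2, x3, x4, x5⟩ := exists_un hs 0 0 (-t.u) 0 0 (by simp)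
  obtain ⟨y, y1, y2, y3, y4, y5⟩ := exists_un hs 0 1 0 c 0 hc
  have m : ⁅x, y⁆⁻¹ * t ∈ Z1 K := by simp [*]
  have := mul_mem (commutator_mem_commutator (H₁ := Z3 K) (H₂ := Q1 K) ⟨x1, x2⟩ y1)
    (commutator_mono le_rfl seQ1.a ((Z1_eq hs).ge m))
  rwa [mul_inv_cancel_left] at this

omit [Finite K] in
theorem Z3_eq (hs : ∃ e : K, star e ≠ e) : ⁅(⊤ : Subgroup (Un K)), (⊤ : Subgroup (Un K))⁆ = Z3 K := by
  refine le_antisymm (commutator_le.2 fun x _ y _ => comm_Z3 x y) fun t ht => ?_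
  obtain ⟨h1, h2⟩ := ht
  obtain ⟨w, hw⟩ := exists_sub hs (s := t.c) (by have := t.hc; simp_all)
  obtain ⟨c, hc⟩ := exists_c hs 1
  obtain ⟨c', hc'⟩ := exists_c hs w
  obtain ⟨x, x1, x2, x3, x4, x5⟩ := exists_un hs t.v 0 0 0 0 (by simp)
  obtain ⟨y, y1, y2, y3, y4, y5⟩ := exists_un hs 0 1 0 c 0 hc
  obtain ⟨y', z1, z2, z3, z4, z5⟩ := exists_un hs 0 w 0 c' 0 hc'
  have m : (⁅x, y⁆ * ⁅y, y'⁆)⁻¹ * t ∈ Z2 K := by
    refine ⟨by simp [*], by simp [*], by simp [*], ?_⟩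
    simp [← hw, x2, y2, z2, h2]
  have := mul_mem (mul_mem (commutator_mem_commutator (mem_top x) (mem_top y))
    (commutator_mem_commutator (mem_top y) (mem_top y')))
    (commutator_mono le_top le_top ((Z2_eq hs).ge m))
  rwa [mul_inv_cancel_left] at this

theorem ext (F : Cf p ι) (S : Std ι) {A B C : Subgroup (Un K)} (s : Se E A B C) (e : g ∈ nr ι E)
    (a : g ∈ nr ι A) (b : g ∈ nr ι B) (c : g ∈ nr ι C) :
    ∃ t l m σ, l ≠ 0 ∧ m ≠ 0 ∧ Dl ι l m σ ∧ ∀ x ∈ E, Cj ι g x (t * dl l m σ x * t⁻¹) := by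
  obtain ⟨k, hk, h⟩ := Se.ext F s e a b c
  obtain ⟨t, l, m, σ, hl, hm, ht⟩ := S k hk.2
  refine ⟨t, l, m, σ, hl, hm, ⟨ι t⁻¹ * k, fun x => ?_⟩, fun x hx => ?_⟩
  · have := (Cj.self t⁻¹ _).trans (ht x)
    rwa [show t⁻¹ * (t * dl l m σ x * t⁻¹) * t⁻¹⁻¹ = dl l m σ x by group] at this
  · obtain ⟨y, -, hy⟩ := nr_cj e hx
    rwa [← (h x hx y hy).uniq F.inj (ht x)]

end Nr

open Nr

theorem nr_Yc (hs : ∃ e : K, star e ≠ e) (i : Function.Injective ι) (h : g ∈ nr ι (Q1 K)) : g ∈ nr ι (Yc K) := by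
  refine nr_cent i h h fun x => ⟨fun hx => ⟨hx.1, fun y hy => csymm (comm_Y0 hy hx)⟩, fun ⟨hx, e⟩ => ?_⟩
  refine ⟨hx, skew0 hs fun β => ?_, skew0 hs fun β => ?_⟩
  · obtain ⟨c, hc⟩ := exists_c hs β
    obtain ⟨y, y1, y2, -⟩ := exists_un hs 0 β 0 c 0 hc
    have := congrArg Un.c (e y y1)
    rwa [comm_c, y2] at this
  · obtain ⟨y, y1, -, y3, -⟩ := exists_un hs 0 0 β 0 0 (by simp)
    have := congrArg Un.z (e y y1)
    rwa [comm_z_Q1 hx y1, y3] at this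

theorem nr_Z2_of (hs : ∃ e : K, star e ≠ e) (h : g ∈ nr ι (Q1 K)) (h' : g ∈ nr ι (Z3 K)) :
    g ∈ nr ι (Z2 K) ∧ g ∈ nr ι (Z1 K) :=
  ⟨Z2_eq hs ▸ nr_comm h' h, Z1_eq hs ▸ nr_comm h' h'⟩

theorem nr_Z1_of (hs : ∃ e : K, star e ≠ e) (i : Function.Injective ι) (h : g ∈ nr ι (Q2 K)) : g ∈ nr ι (Z1 K) := by
  refine nr_cent i h h fun x => ⟨fun hx => ⟨⟨hx.2.1, hx.2.2.2.1⟩, fun y _ => csymm (comm_Z0 y hx)⟩,
    fun ⟨hx, e⟩ => ?_⟩
  have key : ∀ a v u : K, a * star x.u + v * star x.v + u * star x.a -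
      (x.a * star u + x.v * star v + x.u * star a) = 0 := fun a v u => by
    obtain ⟨y, y1, y2, y3, y4, y5⟩ := exists_un hs a 0 v 0 u (by simp)
    have := congrArg Un.z (e y ⟨y2, y4⟩)
    rwa [comm_z_Q2 hx ⟨y2, y4⟩, y1, y3, y5] at this
  exact ⟨skew0 hs fun β => by simpa using key 0 0 β, hx.1, skew0 hs fun β => by simpa using key 0 β 0,
    hx.2, skew0 hs fun β => by simpa using key β 0 0⟩

theorem nr_Rr_of (hs : ∃ e : K, star e ≠ e) (i : Function.Injective ι) (h : g ∈ nr ι (Q2 K)) (h' : g ∈ nr ι (Z2 K)) :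
    g ∈ nr ι (Rr K) := by
  refine nr_cent i h h' fun x => ⟨fun hx => ⟨hx.2, fun y hy => comm_Y0 hx.1 ⟨hy.1, hy.2.1, hy.2.2.1⟩⟩,
    fun ⟨hx, e⟩ => ⟨skew0 hs fun β => ?_, hx⟩⟩
  obtain ⟨y, y1, y2, y3, y4, y5⟩ := exists_un hs 0 0 0 0 β (by simp)
  have := congrArg Un.z (e y ⟨y1, y2, y3, y4⟩)
  rwa [comm_z2 x ⟨y1, y2, y3, y4⟩, y5] at this

theorem ext1 (hs : ∃ e : K, star e ≠ e) (F : Cf p ι) (S : Std ι) (h : g ∈ nr ι (Q1 K)) (h' : g ∈ nr ι (Z3 K)) :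
    ∃ t l m σ, l ≠ 0 ∧ m ≠ 0 ∧ Dl ι l m σ ∧ ∀ x ∈ Q1 K, Cj ι g x (t * dl l m σ x * t⁻¹) :=
  Nr.ext F S seQ1 h h' (nr_Z2_of hs h h').1 (nr_Z2_of hs h h').2

theorem ext2 (hs : ∃ e : K, star e ≠ e) (F : Cf p ι) (S : Std ι) (h : g ∈ nr ι (Q2 K)) (h' : g ∈ nr ι (Z2 K)) :
    ∃ t l m σ, l ≠ 0 ∧ m ≠ 0 ∧ Dl ι l m σ ∧ ∀ x ∈ Q2 K, Cj ι g x (t * dl l m σ x * t⁻¹) :=
  Nr.ext F S seQ2 h (nr_Rr_of hs F.inj h h') h' (nr_Z1_of hs F.inj h)

omit [Finite K] [Finite Γ] in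
theorem tor_of (h1 : ∀ l : K, l ≠ 0 → Dl ι (l ^ 2) l⁻¹ .refl)
    (h2 : ∀ d : K, d ≠ 0 → Dl ι d⁻¹ (d ^ 2 / star d) .refl) : Tor ι := by
  intro d e hd he
  obtain ⟨g, hg⟩ := h1 d hd
  obtain ⟨k, hk⟩ := h2 (d * e) (mul_ne_zero hd he)
  refine ⟨g * k, fun x => ?_⟩
  have := (hg _).trans (hk x)
  have e1 : d / e = d ^ 2 * (d * e)⁻¹ := by field_simp
  have e2 : d * e ^ 2 / (star d * star e) = d⁻¹ * ((d * e) ^ 2 / star (d * e)) := by
    rw [star_mul']; field_simp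
  convert this using 1
  rw [tr, e1, e2]
  generalize (d * e) ^ 2 / star (d * e) = m', (d * e)⁻¹ = l', d ^ 2 = l, d⁻¹ = m
  ext <;> simp [star_mul'] <;> ring

/-- An induced standard automorphism of `p`-power order on the Frattini quotient is trivial. -/
theorem dl_triv (hs : ∃ e : K, star e ≠ e) (F : Cf p ι) {l m : K} {σ : K ≃⋆+* K} (h : Dl ι l m σ) (k : ℕ)
    (e : ∀ x : Un K, (dl l m σ)^[p ^ k] x = x) : l = 1 ∧ m = 1 ∧ ∀ x, σ x = x := by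
  obtain ⟨g, hg⟩ := h
  have gn : g ∈ nr ι ⊤ := mem_nr fun x _ => ⟨_, mem_top _, hg x⟩
  have o : Co ι ⊤ (fun x : Un K => (x.a, x.b)) := by
    refine ⟨fun x _ y _ => rfl, fun m => ?_, fun g hg x _ y _ e h => ?_⟩
    · obtain ⟨c, hc⟩ := exists_c hs m.2
      obtain ⟨y, y1, y2, -⟩ := exists_un hs m.1 m.2 0 c 0 hc
      exact ⟨y, mem_top _, Prod.ext y1 y2⟩
    · have := e.mem (X := Z3 K) F.inj (Z3_eq hs ▸ nr_comm hg hg)
        ⟨congrArg Prod.fst h, congrArg Prod.snd h⟩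
      exact Prod.ext this.1 this.2
  have sy := o.syl F (fn_of fun _ _ _ => mem_top _)
  have bot : ∀ φ ∈ au F.inj ⊤ (fun x : Un K => (x.a, x.b)) ι.range, φ = 1 := by
    rintro φ ⟨_, ⟨w, rfl⟩, a⟩
    refine o.uniq a ⟨a.1, fun x _ y _ e => ?_⟩
    rw [one_smul, e.uniq F.inj (Cj.self w x)]
    simp
  obtain ⟨φ, hφ⟩ := o.exists_ac gn
  have pw : ∀ n : ℕ, Ac ι ⊤ (fun x : Un K => (x.a, x.b)) (g ^ n) (φ ^ n) ∧
      ∀ x, Cj ι (g ^ n) x ((dl l m σ)^[n] x) := by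
    intro n
    induction n with
    | zero =>
      exact ⟨⟨by simpa using one_mem _, fun x _ y _ e => by
        rw [pow_zero] at e; rw [pow_zero, one_smul, e.uniq F.inj Cj.one]⟩, fun x => by
        rw [pow_zero]; exact Cj.one⟩
    | succ n ih =>
      refine ⟨by rw [pow_succ, pow_succ]; exact ih.1.mul hφ, fun x => ?_⟩
      rw [pow_succ, Function.iterate_succ_apply]
      exact (ih.2 _).trans (hg x)
  have h1 : φ ^ p ^ k = 1 := o.uniq (pw _).1 ⟨(pw _).1.1, fun x _ y _ e' => by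
    rw [one_smul, e'.uniq F.inj ((pw _).2 x), e]⟩
  have h2 : φ = 1 := by
    refine bot φ (sy.2.2 (zpowers φ) ?_ (fun ψ hψ => by rw [bot ψ hψ]; exact one_mem _)
      (zpowers_le.2 ⟨g, mem_top _, hφ⟩) ▸ mem_zpowers φ)
    rintro ⟨_, i, rfl⟩
    refine ⟨k, Subtype.ext ?_⟩
    change (φ ^ i) ^ p ^ k = 1
    rw [← zpow_natCast, ← zpow_mul, mul_comm, zpow_mul, zpow_natCast, h1, one_zpow]
  have key : ∀ x : Un K, x.a = l * σ x.a ∧ x.b = m * σ x.b := fun x => by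
    have := hφ.2 x (mem_top _) _ (mem_top _) (hg x)
    rw [h2, one_smul] at this
    exact ⟨congrArg Prod.fst this, congrArg Prod.snd this⟩
  obtain ⟨c, hc⟩ := exists_c hs 1
  obtain ⟨y, y1, y2, -⟩ := exists_un hs 1 1 0 c 0 hc
  have k1 := key y
  rw [y1, y2, map_one, mul_one, mul_one] at k1
  refine ⟨k1.1.symm, k1.2.symm, fun x => ?_⟩
  obtain ⟨z, z1, -⟩ := exists_un hs x 0 0 0 0 (by simp)
  have := (key z).1
  rw [z1, ← k1.1, one_mul] at this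
  exact this.symm

end U5F
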