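import Mathlib
import Cfsg.Agent.Base
import Cfsg.Agent.Lib.U5F.Nr
import Cfsg.Agent.Lib.SpX.Odd

/-!
The automizer of the first radical.
-/

set_option autoImplicit false

namespace U5F

open Subgroup H93.SX Un
open scoped commutatorElement

universe u v

variable {K : Type*} {Γ : Type u} [Field K] [StarRing K] [Finite K] [Group Γ] [Finite Γ] {p : ℕ}
  [Fact p.Prime] {ι : Un K →* Γ} {E : Subgroup (Un K)} {g : Γ}

omit [StarRing K] [Finite K] in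
theorem Id1.solve {b1 b2 v1 v2 : K} (h : b1 * v2 - b2 * v1 ≠ 0) (m n : K) :
    ∃ t1 t2 : K, t1 * b1 + t2 * b2 = m ∧ t1 * v1 + t2 * v2 = n :=
  ⟨(m * v2 - n * b2) / (b1 * v2 - b2 * v1), (n * b1 - m * v1) / (b1 * v2 - b2 * v1),
    by rw [div_mul_eq_mul_div, div_mul_eq_mul_div, ← add_div, div_eq_iff h]; ring,
    by rw [div_mul_eq_mul_div, div_mul_eq_mul_div, ← add_div, div_eq_iff h]; ring⟩

omit [Finite K] in
theorem Id1.un (hs : ∃ e : K, star e ≠ e) (v b : K) : ∃ x ∈ Q1 K, x.v = v ∧ x.b = b := by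
  obtain ⟨c, hc⟩ := exists_c hs b
  obtain ⟨x, h1, h2, h3, -⟩ := exists_un hs 0 b v c 0 hc
  exact ⟨x, h1, h3, h2⟩

omit [Finite K] in
theorem Id1.span (hs : ∃ e : K, star e ≠ e) {y1 y2 t : Un K} (h1 : y1 ∈ Q1 K) (h2 : y2 ∈ Q1 K)
    (h : y1.b * y2.v - y2.b * y1.v ≠ 0) (ht : t ∈ Yc K) :
    ∃ r1 ∈ Q1 K, ∃ r2 ∈ Q1 K, ⁅y1, r1⁆ * ⁅y2, r2⁆ = t := by
  have h' : star y1.b * star y2.v - star y2.b * star y1.v ≠ 0 := by
    have := star_ne_zero.2 h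
    rwa [star_sub, star_mul', star_mul'] at this
  obtain ⟨ta, tb, tv⟩ := mem_Yc.1 ht
  obtain ⟨p0, hp⟩ := exists_sub hs (s := t.c) (by simpa [tb] using t.hc)
  obtain ⟨r0, hr⟩ := exists_sub hs (s := t.z) (by simpa [ta, tv] using t.hz)
  obtain ⟨t1, t2, e1, e2⟩ := Id1.solve h' p0 0
  obtain ⟨s1, s2, e3, e4⟩ := Id1.solve h' t.u r0
  obtain ⟨r1, m1, a1, b1⟩ := Id1.un hs s1 t1
  obtain ⟨r2, m2, a2, b2⟩ := Id1.un hs s2 t2
  have f1 := congrArg star e1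
  have f2 := congrArg star e2
  have f4 := congrArg star e4
  simp only [star_add, star_mul', star_star, star_zero] at f1 f2 f4
  have k1 := mem_Q1.1 h1
  have k2 := mem_Q1.1 h2
  have k3 := mem_Q1.1 m1
  have k4 := mem_Q1.1 m2
  refine ⟨r1, m1, r2, m2, ?_⟩
  ext
  · simp [ta]
  · simp [tb]
  · simp [tv, k1, k2, k3, k4]
  · simp only [U5F.Un.mul_c, U5F.Un.comm_c, U5F.Un.comm_b, b1, b2]
    linear_combination e1 - f1 + hp
  · simp only [mul_u, comm_u, U5F.Un.comm_a, comm_v, U5F.Un.comm_b, a1, a2, b1, b2, k1, k2, k3, k4, star_zero]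
    linear_combination e3 - f2
  · simp only [mul_z, comm_z_Q1 h1 m1, comm_z_Q1 h2 m2, U5F.Un.comm_a, comm_v, a1, a2, k1, k3, star_zero]
    linear_combination e4 - f4 + hr

theorem id1_line (hs : ∃ e : K, star e ≠ e) (i : Function.Injective ι) (hg : g ∈ nr ι (Q1 K)) :
    g ∈ nr ι (Z3 K) ∨ ∃ k : K, ∀ x ∈ Z3 K, ∀ y, Cj ι g x y → y.v = k * y.b := by
  have l3 : Z3 K ≤ Q1 K := fun _ h => h.1
  by_cases h : ∀ x ∈ Z3 K, ∀ y ∈ Q1 K, Cj ι g x y → y ∈ Z3 K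
  · exact Or.inl (mem_nr_of hg l3 h)
  push Not at h
  obtain ⟨x0, hx0, y0, hy0, e0, h0⟩ := h
  have b0 : y0.b ≠ 0 := fun e => h0 ⟨hy0, e⟩
  refine Or.inr ⟨y0.v / y0.b, fun x hx y e => by_contra fun hn => ?_⟩
  obtain ⟨s, s0, hs'⟩ := exists_skew hs
  obtain ⟨t, t1, t2, t3, t4, -⟩ := exists_un hs 0 0 0 s 0 (by simpa using hs')
  obtain ⟨t', ht', e'⟩ := nr_cj (nr_Yc hs i hg) (x := t) ⟨t1, t2, t3⟩
  obtain ⟨r1, m1, r2, m2, rfl⟩ := Id1.span hs hy0 (e.mem i hg (l3 hx)) (fun h => hn (by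
    field_simp
    linear_combination h)) ht'
  obtain ⟨x1, -, c1⟩ := nr_cj' hg m1
  obtain ⟨x2, -, c2⟩ := nr_cj' hg m2
  have := congrArg Un.c (((e0.comm c1).mul (e.comm c2)).symm.uniq i e'.symm)
  simp [hx0.2, hx.2, t4] at this
  exact s0 this.symm

theorem Id1.co (hs : ∃ e : K, star e ≠ e) (i : Function.Injective ι) : Co ι (Q1 K) cB :=
  ⟨fun x hx y _ => by simp_all [cB], fun v => let ⟨x, h1, h2, h3⟩ := Id1.un hs v.1 v.2
    ⟨x, h1, Prod.ext h2 h3⟩, fun g hg x hx y _ e h => by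
      obtain ⟨a, b⟩ := Prod.mk_eq_zero.1 h
      have := e.mem i (nr_Yc hs i hg) ⟨hx, b, a⟩
      exact Prod.ext this.2.2 this.2.1⟩

omit [Finite K] in
theorem Id1.ac (i : Function.Injective ι) (w : Un K) : Ac ι (Q1 K) cB (ι w) (uS w.a) :=
  ⟨self_nr fun x _ => (comm_Z3 w x).1, fun x hx y _ e => by
    obtain rfl := e.uniq i (Cj.self w x)
    show (_, _) = (_, _)
    simp_all [cB]
    ring⟩

theorem Id1.sh (hs : ∃ e : K, star e ≠ e) (F : Cf p ι) :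
    Sh p (au F.inj (Q1 K) cB ⊤) (au F.inj (Q1 K) cB ι.range) uS :=
  ⟨(Id1.co hs F.inj).syl F (fn_of fun t x _ => (comm_Z3 t x).1), fun _ =>
    ⟨fun ⟨_, ⟨w, rfl⟩, a'⟩ => ⟨_, (Id1.co hs F.inj).uniq a' (Id1.ac F.inj w)⟩,
      fun ⟨s, e⟩ => by
        obtain ⟨w, hw, -⟩ := exists_un hs s 0 0 0 0 (by simp)
        exact ⟨_, ⟨w, rfl⟩, by simpa [e, hw] using Id1.ac F.inj w⟩⟩, fun _ _ _ => rfl⟩

theorem id1_sl2 [CharP K p] (hs : ∃ e : K, star e ≠ e) (F : Cf p ι) (h : ¬ nr ι (Q1 K) ≤ nr ι (Z3 K)) {α β γ δ : K}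
    (e : α * δ - β * γ = 1) : ∃ g ∈ nr ι (Q1 K), ∀ x ∈ Q1 K, ∀ y, Cj ι g x y →
      y.v = α * x.v + β * x.b ∧ y.b = γ * x.v + δ * x.b := by
  obtain ⟨g, hg, hg'⟩ := SetLike.not_le_iff_exists.1 h
  obtain ⟨k, hk⟩ := (id1_line hs F.inj hg).resolve_left hg'
  obtain ⟨ψ, a⟩ := (Id1.co hs F.inj).exists_ac hg
  have ax : Ax (au F.inj (Q1 K) cB ⊤) (AddMonoidHom.mulLeft k) := ⟨ψ, ⟨g, trivial, a⟩, fun v => by
    obtain ⟨x, h1, h2, h3⟩ := Id1.un hs v 0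
    obtain ⟨y, hy, c⟩ := nr_cj hg h1
    have := a.2 x h1 y hy c
    rw [cB, h2, h3] at this
    rw [this]
    exact hk x ⟨h1, h3⟩ y c⟩
  obtain ⟨φ, ⟨-, n, -, b⟩, l⟩ := (Id1.sh hs F).sl2 (L := ⊤) ax (fun _ _ _ => mem_top _) (α := α - k * γ)
    (β := β + k * α - k * δ - k ^ 2 * γ) (γ := γ) (δ := δ + k * γ) (by linear_combination e)
  refine ⟨n, b.1, fun x hx y c => ?_⟩
  have := b.2 x hx y (c.mem F.inj b.1 hx) c
  rw [cB, l.apply, cB, Prod.mk.injEq] at this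
  simp only [AddMonoidHom.coe_mulLeft] at this
  exact ⟨by linear_combination -this.1, by linear_combination -this.2⟩

theorem id1_tor [CharP K p] (hs : ∃ e : K, star e ≠ e) (F : Cf p ι) (S : Std ι) (h : ¬ nr ι (Q1 K) ≤ nr ι (Z3 K))
    (l : K) (hl : l ≠ 0) : Dl ι (l ^ 2) l⁻¹ .refl := by
  obtain ⟨g, hg, e⟩ := id1_sl2 hs F h (α := l) (β := 0) (γ := 0) (δ := l⁻¹) (by simp [hl])
  obtain ⟨t, l', m, σ, -, -, D, c⟩ := ext1 hs F S hg (mem_nr_of hg (fun _ h => h.1) fun x hx y hy c =>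
    ⟨hy, by simpa [hx.2] using (e x hx.1 y c).2⟩)
  have h1 : ∀ b : K, m * σ b = l⁻¹ * b := fun b => by
    obtain ⟨x, h1, -, rfl⟩ := Id1.un hs 0 b
    simpa using (e x h1 _ (c x h1)).2
  have h2 : m = l⁻¹ := by simpa using h1 1
  have h3 : σ = .refl := StarRingEquiv.ext fun b =>
    mul_left_cancel₀ (inv_ne_zero hl) (h2 ▸ h1 b)
  have h4 : l' = l ^ 2 := by
    obtain ⟨x, k1, k2, k3⟩ := Id1.un hs 1 0
    have := (e x k1 _ (c x k1)).1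
    have k0 := mem_Q1.1 k1
    simp [k0, k2, k3, h2] at this
    field_simp at this
    linear_combination this
  rwa [h2, h3, h4] at D

end U5F
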