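import Mathlib
import Cfsg.Agent.Base
import Cfsg.Agent.Lib.U5F.Defs

/-!
Maps that respect the alternating form are semilinear over the fixed field.
-/

set_option autoImplicit false

namespace U5F

open Subgroup H93.SX Un
open scoped commutatorElement

universe u v

variable {K G : Type*} [Field K] [StarRing K] [Group G] [DistribMulAction G (K × K × K)] {p : ℕ}
  {H U : Subgroup G} {g : G}

namespace Semi

theorem sc0 (hs : ∃ e : K, star e ≠ e) {a : K} (h : ∀ t : K, t * star a - a * star t = 0) : a = 0 := by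
  obtain ⟨e, he⟩ := hs
  have h1 := h 1
  rw [star_one] at h1
  have : a * (e - star e) = 0 := by linear_combination h e - e * h1
  exact (mul_eq_zero.1 this).resolve_right (sub_ne_zero.2 he.symm)

theorem be_star (x y : K × K × K) : star (be x y) = -be x y := by
  simp only [be, star_sub, star_add, star_mul', star_star]; ring

theorem be_sl {k : K} (hk : star k = k) (x y : K × K × K) : be (k • x) y = k * be x y := by
  simp only [be, Prod.smul_fst, Prod.smul_snd, smul_eq_mul, star_mul', hk]; ring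

theorem be_sr {k : K} (hk : star k = k) (x y : K × K × K) : be x (k • y) = k * be x y := by
  simp only [be, Prod.smul_fst, Prod.smul_snd, smul_eq_mul, star_mul', hk]; ring

theorem be_sub (x x' y : K × K × K) : be (x - x') y = be x y - be x' y := by
  simp only [be, Prod.fst_sub, Prod.snd_sub, star_sub]; ring

theorem div_fix {s t : K} (hs : star s = -s) (ht : star t = -t) : star (s / t) = s / t := by
  rw [star_div₀, hs, ht, neg_div_neg_eq]

end Semi

open Semi

theorem be_nd (hs : ∃ e : K, star e ≠ e) {x : K × K × K} (h : ∀ y, be x y = 0) : x = 0 := by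
  refine Prod.ext (sc0 hs fun t => ?_) (Prod.ext (sc0 hs fun t => ?_) (sc0 hs fun t => ?_))
  · simpa [be] using h (0, 0, t)
  · simpa [be] using h (0, t, 0)
  · simpa [be] using h (t, 0, 0)

theorem be_Wx (hs : ∃ e : K, star e ≠ e) {x : K × K × K} : (∀ w ∈ Wx K, be x w = 0) ↔ x ∈ Wp K := by
  refine ⟨fun h => sc0 hs fun t => ?_, fun h w hw => ?_⟩
  · simpa [be] using h (0, 0, t) ⟨rfl, rfl⟩
  · simp [be, mem_Wp.1 h, hw.1, hw.2]

theorem be_Wp (hs : ∃ e : K, star e ≠ e) {x : K × K × K} : (∀ w ∈ Wp K, be x w = 0) ↔ x ∈ Wx K := by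
  refine ⟨fun h => ⟨sc0 hs fun t => ?_, sc0 hs fun t => ?_⟩, fun h w hw => ?_⟩
  · simpa [be] using h (0, 0, t) rfl
  · simpa [be] using h (0, t, 0) rfl
  · simp [be, mem_Wp.1 hw, h.1, h.2]

theorem S3.be0 (S : S3 K p H U) (hg : g ∈ H) {x y : K × K × K} :
    be (g • x) (g • y) = 0 ↔ be x y = 0 := by
  have key : ∀ g ∈ H, ∀ x y : K × K × K, be x y = 0 → be (g • x) (g • y) = 0 := fun g hg x y h => by
    rw [S.form g hg x y 0 0 (by rw [h]; simp [be]), smul_zero]
    simp [be]
  exact ⟨fun h => by simpa using key _ (inv_mem hg) _ _ h, key g hg x y⟩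

theorem S3.semi (hs : ∃ e : K, star e ≠ e) (S : S3 K p H U) (hg : g ∈ H) {k : K} (hk : star k = k) :
    ∃ k' : K, star k' = k' ∧ ∀ x : K × K × K, g • (k' • x) = k • g • x := by
  have key : ∀ x y x' y' : K × K × K, be x y = be x' y' →
      be (g⁻¹ • k • g • x) y = be (g⁻¹ • k • g • x') y' := fun x y x' y' h => by
    have := S.form _ (inv_mem hg) (k • g • x) (g • y) (k • g • x') (g • y')
      (by rw [be_sl hk, be_sl hk, S.form g hg _ _ _ _ h])
    simpa only [inv_smul_smul] using this
  obtain ⟨e, he⟩ := id hs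
  have h0 : be ((1, 0, 0) : K × K × K) (0, 0, e) ≠ 0 := by
    simpa [be] using sub_ne_zero.2 he.symm
  generalize ((1, 0, 0) : K × K × K) = x0 at h0
  generalize ((0, 0, e) : K × K × K) = y0 at h0
  have hk' := div_fix (be_star (g⁻¹ • k • g • x0) y0) (be_star x0 y0)
  refine ⟨_, hk', fun x => ?_⟩
  rw [smul_eq_iff_eq_inv_smul, ← sub_eq_zero]
  refine be_nd hs fun y => ?_
  have hκ := div_fix (be_star x y) (be_star x0 y0)
  rw [be_sub, be_sl hk', key x y x0 ((be x y / be x0 y0) • y0) (by rw [be_sr hκ]; field_simp), be_sr hκ]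
  ring

theorem S3.semi' (hs : ∃ e : K, star e ≠ e) (S : S3 K p H U) (hg : g ∈ H) {k : K} (hk : star k = k) :
    ∃ k' : K, star k' = k' ∧ ∀ x : K × K × K, g • (k • x) = k' • g • x := by
  obtain ⟨k', hk', e⟩ := S.semi hs (inv_mem hg) hk
  refine ⟨k', hk', fun x => ?_⟩
  have := e (g • x)
  rw [inv_smul_smul] at this
  rw [← this, smul_inv_smul]

end U5F
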