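import Mathlib
import Cfsg.Agent.Base
import Cfsg.Agent.Lib.U5F.Semi
import Cfsg.Agent.Lib.U5F.Card

/-!
Distinct conjugates of the fixed line are not perpendicular.
-/

set_option autoImplicit false

namespace U5F

open Subgroup H93.SX Un
open scoped commutatorElement

universe u v

variable {K G : Type*} [Field K] [StarRing K] [Group G] [DistribMulAction G (K × K × K)] {p : ℕ}
  {H U : Subgroup G} {g : G}

variable [Finite K] [Finite G] [FaithfulSMul G (K × K × K)] [Fact p.Prime] [CharP K p]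

namespace Ti2

omit [Finite K] [Finite G] [FaithfulSMul G (K × K × K)] [Fact p.Prime] [CharP K p] in
theorem le_st (S : S3 K p H U) : U ≤ st G (Wx K) (Wp K) := fun t ht => by
  obtain ⟨b, c, -, e⟩ := S.act t ht
  refine ⟨fun x => ?_, fun x hx => ?_, fun x hx => ?_⟩ <;> rw [e]
  · simp [uu]
  · simp [uu, mem_Wp.1 hx]
  · ext <;> simp [uu, hx.1, hx.2]

omit [Finite K] [FaithfulSMul G (K × K × K)] [Fact p.Prime] [CharP K p] in
/-- a conjugate of a root element lies in `U` only if the line is fixed -/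
theorem sb_of (S : S3 K p H U) {x : G} {c : K} (c0 : c ≠ 0) (hx : ∀ y : K × K × K, x • y = uu 0 c y)
    (h : g⁻¹ * x * g ∈ U) : g ∈ sb G (Wx K) := by
  obtain ⟨b, d, -, e⟩ := S.act _ h
  have k : ∀ y : K × K × K, g • (uu b d y - y) = x • g • y - g • y := fun y => by
    rw [← e, smul_sub, mul_smul, mul_smul, smul_inv_smul]
  have b0 : b = 0 := by
    have := k (uu b d (1, 0, 0) - (1, 0, 0))
    rw [k (1, 0, 0), hx (_ - _), hx] at this
    have z : uu b d (uu b d (1, 0, 0) - (1, 0, 0)) - (uu b d (1, 0, 0) - (1, 0, 0)) = 0 :=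
      (smul_eq_zero_iff_eq g).1 (this.trans (by ext <;> simp [uu]))
    simpa [uu] using congrArg (fun y => y.2.2) z
  refine inv_mem_iff.1 (mem_sb fun w hw => ?_)
  have := k (g⁻¹ • (w.2.2 / c, 0, 0))
  rw [smul_inv_smul, hx, ← eq_inv_smul_iff] at this
  rw [show w = uu 0 c (w.2.2 / c, 0, 0) - (w.2.2 / c, 0, 0) by ext <;> simp [uu, hw.1, hw.2, c0], ← this]
  simp [uu, b0]

omit [Finite K] [FaithfulSMul G (K × K × K)] [CharP K p] in
theorem mem_W (hs : ∃ e : K, star e ≠ e) (S : S3 K p H U) (hg : g ∈ H) {w : K × K × K}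
    (hw : w ∈ Wx K) (e : (g • w).1 = 0) : g • w ∈ Wx K := by
  obtain ⟨c, c0, hc⟩ := exists_skew hs
  obtain ⟨x, hx, ex⟩ := S.ex 0 c (by simpa using hc)
  obtain ⟨n, hn⟩ := S.syl.isPGroup ⟨x, hx⟩
  have hn' : (g⁻¹ * x * g⁻¹⁻¹) ^ p ^ n = 1 := by
    rw [conj_pow, show x ^ p ^ n = 1 from congrArg Subtype.val hn, mul_one, mul_inv_cancel]
  rw [inv_inv] at hn'
  obtain ⟨k, hk, le⟩ := (S.syl.mono (K := H ⊓ MulAction.stabilizer G w)
    (le_inf S.syl.le fun t ht => (le_st S ht).2.2 w hw) inf_le_left).exists_cj_le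
    (H68.isPGroup_zpowers hn') (zpowers_le.2 ⟨H.mul_mem (H.mul_mem (H.inv_mem hg) (S.syl.le hx)) hg, by
      change (g⁻¹ * x * g) • w = w
      rw [mul_smul, mul_smul, ex, inv_smul_eq_iff]
      ext <;> simp [uu, e]⟩)
  have := sb_of (g := g * k⁻¹) S c0 ex (by
    simpa [mul_assoc] using le ⟨_, mem_zpowers _, rfl⟩)
  have h2 := sb_mem this hw
  rwa [mul_smul, show k⁻¹ • w = w from (MulAction.stabilizer G w).inv_mem hk.2] at h2

end Ti2

open Ti2 in
theorem S3.ti (hs : ∃ e : K, star e ≠ e) (S : S3 K p H U) (hg : g ∈ H) (hn : g ∉ sb G (Wx K)) {w : K × K × K}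
    (hw : w ∈ Wx K) (e : (g • w).1 = 0) : w = 0 := by
  by_contra w0
  have α0 : w.2.2 ≠ 0 := fun k => w0 (Prod.ext hw.1 (Prod.ext hw.2 k))
  obtain ⟨w1, hw1, a0⟩ := exists_of_not_sb hn
  replace a0 : (g • w1).1 ≠ 0 := mt (mem_W hs S hg hw1) a0
  have ne : star (w1.2.2 / w.2.2) ≠ w1.2.2 / w.2.2 := fun k => by
    obtain ⟨k', -, e'⟩ := S.semi' hs hg k
    refine a0 ?_
    rw [show w1 = (w1.2.2 / w.2.2) • w by ext <;> simp [hw.1, hw.2, hw1.1, hw1.2, α0], e']
    simp [e]
  have key : ∀ t ∈ U, be (t • g • w1) (g • w1) = 0 → g⁻¹ * t * g ∈ sb G (Wx K) := fun t ht b0 => by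
    have hk := mul_mem (mul_mem (inv_mem hg) (S.syl.le ht)) hg
    have k1 : (g⁻¹ * t * g) • w = w := by
      rw [mul_smul, mul_smul, (le_st S ht).2.2 _ (mem_W hs S hg hw e), inv_smul_smul]
    have k2 : be ((g⁻¹ * t * g) • w1) w1 = 0 := by
      rw [← S.be0 hg, mul_smul, mul_smul, smul_inv_smul, b0]
    have k3 : be ((g⁻¹ * t * g) • w1) w = 0 := by
      rw [← k1, S.be0 hk]; simp [be, hw.1, hw.2, hw1.1, hw1.2]
    generalize g⁻¹ * t * g = k at hk k1 k2 k3 ⊢
    have k4 : (k • w1).1 = 0 := by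
      by_contra z
      simp only [be, hw.1, hw.2, hw1.1, hw1.2, star_zero, mul_zero, zero_mul, add_zero, zero_add] at k2 k3
      refine ne ?_
      rw [star_div₀, div_eq_div_iff (star_ne_zero.2 α0) α0]
      refine mul_left_cancel₀ z ?_
      linear_combination w1.2.2 * k3 - w.2.2 * k2
    refine mem_sb fun y hy => mem_W hs S hk hy ?_
    have d0 := sub_ne_zero.2 ne
    have e1 : y.2.2 / w.2.2 * w.2.2 = y.2.2 := div_mul_cancel₀ _ α0
    have e2 : w1.2.2 / w.2.2 * w.2.2 = w1.2.2 := div_mul_cancel₀ _ α0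
    generalize w1.2.2 / w.2.2 = ε at d0 e2
    generalize y.2.2 / w.2.2 = γ at e1
    obtain ⟨l, -, hl⟩ := S.semi' hs hk (k := (star γ - γ) / (star ε - ε)) (by
      rw [star_div₀, star_sub, star_sub, star_star, star_star, ← neg_div_neg_eq, neg_sub, neg_sub])
    obtain ⟨m, -, hm⟩ := S.semi' hs hk (k := γ - (star γ - γ) / (star ε - ε) * ε) (by
      rw [star_sub, star_mul', star_div₀, star_sub, star_sub, star_star, star_star,
        ← neg_div_neg_eq, neg_sub, neg_sub]
      field_simp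
      ring)
    rw [show y = (γ - (star γ - γ) / (star ε - ε) * ε) • w + ((star γ - γ) / (star ε - ε)) • w1 by
      ext
      · simp [hw.1, hw1.1, hy.1]
      · simp [hw.2, hw1.2, hy.2]
      · simp only [Prod.snd_add, Prod.smul_snd, smul_eq_mul]
        rw [← e1, ← e2]; ring, smul_add, hm, hl, k1]
    simp [hw.1, k4]
  have a1 := star_ne_zero.2 a0
  by_cases h2 : (2 : K) = 0
  · obtain ⟨x, hx, ex⟩ := S.ex 0 1 (by rw [star_one]; linear_combination h2)
    have k := key x hx (by rw [ex]; simp [be, uu]; ring)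
    have hk := mul_mem (mul_mem (inv_mem hg) (S.syl.le hx)) hg
    refine hn (sb_of S one_ne_zero ex (conj_mem_of_sb ⟨1, fun y => by
      ext <;> simp⟩ S.syl (le_st S) hg hx k (mem_sb fun y hy => (be_Wx hs).1 fun z hz => ?_)))
    rw [← smul_inv_smul (g⁻¹ * x * g) z, S.be0 hk]
    exact (be_Wx hs).2 hy _ (sb_mem (inv_mem k) hz)
  · obtain ⟨t, ht, et⟩ := S.ex 1 (-1 / 2 + ((g • w1).2.1 * star (g • w1).1 -
      (g • w1).1 * star (g • w1).2.1) / ((g • w1).1 * star (g • w1).1)) (by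
      simp only [star_add, star_div₀, star_neg, star_one, star_ofNat, star_sub, star_mul', star_star]
      field_simp
      ring)
    have k := key t ht (by
      rw [et]
      simp only [be, uu, star_add, star_div₀, star_neg, star_one, star_ofNat, star_sub, star_mul',
        star_star]
      field_simp
      ring)
    have := mem_W hs S hg (sub_mem (sb_mem k hw1) hw1)
    rw [smul_sub, mul_smul, mul_smul, smul_inv_smul, et] at this
    exact a0 (by simpa [uu] using (this (by simp [uu])).2)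

end U5F
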