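import Mathlib
import Cfsg.Agent.Base
import Cfsg.Agent.Lib.U5F.Ti2

/-!
Two opposite root groups generate the standard `SL₂`.
-/

set_option autoImplicit false

namespace U5F

open Subgroup H93.SX Un
open scoped commutatorElement

universe u v

variable {K G : Type*} [Field K] [StarRing K] [Group G] [DistribMulAction G (K × K × K)] {p : ℕ}
  {H U : Subgroup G} {g : G}

namespace Scal

theorem exx (S : S3 K p H U) {c : K} (hc : c + star c = 0) :
    ∃ x ∈ H, ∀ v : K × K × K, x • v = v + (0, 0, c * v.1) := by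
  obtain ⟨x, hx, e⟩ := S.ex 0 c (by simpa using hc)
  refine ⟨x, S.syl.le hx, fun v => ?_⟩
  rw [e]
  ext <;> simp [uu]
  ring

theorem exy (S : S3 K p H U) (hg : g ∈ H) {c : K} (hc : c + star c = 0) :
    ∃ x ∈ H, ∀ v : K × K × K, x • v = v + g • ((0, 0, c * (g⁻¹ • v).1) : K × K × K) := by
  obtain ⟨x, hx, e⟩ := exx S hc
  refine ⟨g * x * g⁻¹, mul_mem (mul_mem hg hx) (inv_mem hg), fun v => ?_⟩
  rw [mul_smul, mul_smul, e, smul_add, smul_inv_smul]

omit [StarRing K] in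
theorem ksm (k u : K) : ((0, 0, k * u) : K × K × K) = k • ((0, 0, u) : K × K × K) := by
  ext <;> simp

variable [Finite K] [Finite G] [FaithfulSMul G (K × K × K)] [Fact p.Prime] [CharP K p]

theorem ti0 (hs : ∃ e : K, star e ≠ e) (S : S3 K p H U) (hg : g ∈ H) (hn : g ∉ sb G (Wx K)) {u : K}
    (e : (g • ((0, 0, u) : K × K × K)).1 = 0) : u = 0 := by
  have := S.ti hs hg hn (w := (0, 0, u)) ⟨rfl, rfl⟩ e
  simpa using this

theorem sb_of (hs : ∃ e : K, star e ≠ e) (S : S3 K p H U) (hg : g ∈ H) {u : K} (hu : u ≠ 0)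
    (e : (g • ((0, 0, u) : K × K × K)).1 = 0) : g ∈ sb G (Wx K) := by
  by_contra hn
  exact hu (ti0 hs S hg hn e)

theorem inj (hs : ∃ e : K, star e ≠ e) (S : S3 K p H U) (hg : g ∈ H) (hn : g ∉ sb G (Wx K)) :
    Function.Injective fun u : K => (g • ((0, 0, u) : K × K × K)).1 := fun u u' e => by
  refine sub_eq_zero.1 (ti0 hs S hg hn ?_)
  have : ((0, 0, u - u') : K × K × K) = (0, 0, u) - (0, 0, u') := by ext <;> simp
  rw [this, smul_sub, Prod.fst_sub]
  exact sub_eq_zero.2 e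

theorem surj (hs : ∃ e : K, star e ≠ e) (S : S3 K p H U) (hg : g ∈ H) (hn : g ∉ sb G (Wx K))
    (y : K) : ∃ u : K, (g • ((0, 0, u) : K × K × K)).1 = y :=
  Finite.injective_iff_surjective.1 (inj hs S hg hn) y

/-- One coincidence forces the scalar relation on the whole line. -/
theorem all_of (hs : ∃ e : K, star e ≠ e) (S : S3 K p H U) (hg : g ∈ H) (hn : g ∉ sb G (Wx K))
    {c k u : K} (hc : c + star c = 0) (hk : k + star k = 0) (hu : u ≠ 0)
    (e : u + c * (g • ((0, 0, k * (g⁻¹ • ((0, 0, u) : K × K × K)).1) : K × K × K)).1 = 0) (u' : K) :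
    u' + c * (g • ((0, 0, k * (g⁻¹ • ((0, 0, u') : K × K × K)).1) : K × K × K)).1 = 0 := by
  obtain ⟨x, hx, ex⟩ := exx S hc
  obtain ⟨y, hy, ey⟩ := exy S hg hk
  have key : ∀ r : K, (g⁻¹ * (x * y)) • ((0, 0, r) : K × K × K) = g⁻¹ • ((0, 0, r + c *
      (g • ((0, 0, k * (g⁻¹ • ((0, 0, r) : K × K × K)).1) : K × K × K)).1) : K × K × K) +
      (0, 0, k * (g⁻¹ • ((0, 0, r) : K × K × K)).1) := fun r => by
    rw [mul_smul, mul_smul, ey, ex, inv_smul_eq_iff, smul_add, smul_inv_smul]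
    ext <;> simp
    ring
  have hm := mul_mem (inv_mem hg) (mul_mem hx hy)
  have h1 : g⁻¹ * (x * y) ∈ sb G (Wx K) := sb_of hs S hm hu (by
    rw [key, e]
    have : ((0, 0, 0) : K × K × K) = 0 := rfl
    rw [this, smul_zero, zero_add])
  have h2 := (sb_mem h1 (x := ((0, 0, u') : K × K × K)) ⟨rfl, rfl⟩).1
  rw [key, Prod.fst_add, add_zero] at h2
  exact ti0 hs S (inv_mem hg) (fun h => hn (by simpa using inv_mem h)) h2

/-- Without a coincidence, the sum of the two lines is covered by conjugates of the line. -/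
theorem cover (hs : ∃ e : K, star e ≠ e) (S : S3 K p H U) (hg : g ∈ H) (hn : g ∉ sb G (Wx K))
    (hA : ∀ c k u : K, c + star c = 0 → k + star k = 0 →
      u + c * (g • ((0, 0, k * (g⁻¹ • ((0, 0, u) : K × K × K)).1) : K × K × K)).1 = 0 → u = 0)
    {t : K} (ht : (g • ((0, 0, t) : K × K × K)).1 ≠ 0) (u : K) :
    ∃ h ∈ H, ∃ r : K, h • ((0, 0, r) : K × K × K) = (0, 0, u) + g • ((0, 0, t) : K × K × K) := by
  set y := (g • ((0, 0, t) : K × K × K)).1 with hy
  by_cases h0 : u / y + star (u / y) = 0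
  · obtain ⟨x, hx, ex⟩ := exx S h0
    refine ⟨x * g, mul_mem hx hg, t, ?_⟩
    rw [mul_smul, ex, ← hy, div_mul_cancel₀ _ ht, add_comm]
  have hn' : g⁻¹ ∉ sb G (Wx K) := fun h => hn (by simpa using inv_mem h)
  obtain ⟨s, hs0, hs1⟩ := exists_skew hs
  obtain ⟨u1, hu1⟩ := surj hs S (inv_mem hg) hn' (t / s)
  have e1 : s * (g⁻¹ • ((0, 0, u1) : K × K × K)).1 = t := by rw [hu1]; field_simp
  have h1 : u1 / y + star (u1 / y) ≠ 0 := fun h => by
    have := hA (-(u1 / y)) s u1 (by rw [star_neg]; linear_combination -h) hs1 (by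
      rw [e1, ← hy]; field_simp; ring)
    rw [this] at e1
    apply ht
    have z : ((0, 0, 0) : K × K × K) = 0 := rfl
    rw [hy, ← e1, z, smul_zero, Prod.fst_zero, mul_zero, z, smul_zero, Prod.fst_zero]
  set k := (u / y + star (u / y)) / (u1 / y + star (u1 / y)) with hk
  have hk0 : k ≠ 0 := div_ne_zero h0 h1
  have hk1 : star k = k := by
    rw [hk, star_div₀, star_add, star_add, star_star, star_star, add_comm (star (u / y)),
      add_comm (star (u1 / y))]
  obtain ⟨k', hk', ek⟩ := S.semi' hs (inv_mem hg) hk1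
  have hk'0 : k' ≠ 0 := fun h => by
    have := ek (1, 0, 0)
    rw [h, zero_smul, inv_smul_eq_iff, smul_zero] at this
    exact hk0 (by simpa using congrArg Prod.fst this)
  have hc : (u / y - k * (u1 / y)) + star (u / y - k * (u1 / y)) = 0 := by
    have : k * (u1 / y + star (u1 / y)) = u / y + star (u / y) := by
      rw [hk, div_mul_cancel₀ _ h1]
    rw [star_sub, star_mul', hk1]
    linear_combination -this
  obtain ⟨x, hx, ex⟩ := exx S hc
  obtain ⟨z, hz, ez⟩ := exy S hg (c := s / k') (by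
    rw [star_div₀, hk', ← add_div, hs1, zero_div])
  refine ⟨x * z, mul_mem hx hz, k * u1, ?_⟩
  have e2 : s / k' * (g⁻¹ • ((0, 0, k * u1) : K × K × K)).1 = t := by
    rw [ksm, ek, Prod.smul_fst, smul_eq_mul, ← e1]
    field_simp
  rw [mul_smul, ez, e2, ex]
  have e3 : k * u1 + (u / y - k * (u1 / y)) * y = u := by field_simp; ring
  ext
  · simp
  · simp
  · simp only [Prod.snd_add, Prod.fst_add, zero_add, ← hy]
    linear_combination e3

theorem exists_co (hs : ∃ e : K, star e ≠ e) (S : S3 K p H U) (hg : g ∈ H) (hn : g ∉ sb G (Wx K)) :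
    ∃ c k u : K, c + star c = 0 ∧ k + star k = 0 ∧ u ≠ 0 ∧
      u + c * (g • ((0, 0, k * (g⁻¹ • ((0, 0, u) : K × K × K)).1) : K × K × K)).1 = 0 := by
  by_contra hA
  have hA' : ∀ c k u : K, c + star c = 0 → k + star k = 0 →
      u + c * (g • ((0, 0, k * (g⁻¹ • ((0, 0, u) : K × K × K)).1) : K × K × K)).1 = 0 → u = 0 :=
    fun c k u hc hk e => by_contra fun hu => hA ⟨c, k, u, hc, hk, hu, e⟩
  obtain ⟨t, ht⟩ : ∃ t : K, (g • ((0, 1, t) : K × K × K)).1 ≠ 0 := by
    obtain ⟨t, ht⟩ := surj hs S hg hn (1 - (g • ((0, 1, 0) : K × K × K)).1)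
    refine ⟨t, ?_⟩
    have : ((0, 1, t) : K × K × K) = (0, 1, 0) + (0, 0, t) := by ext <;> simp
    rw [this, smul_add, Prod.fst_add, ht]
    simp
  set ξ := g • ((0, 1, t) : K × K × K) with hξ
  obtain ⟨t0, ht0⟩ := surj hs S hg hn ξ.1
  set w := g • ((0, 0, t0) : K × K × K) with hw
  obtain ⟨c, hc⟩ := exists_c hs ((w.2.1 - ξ.2.1) / ξ.1)
  obtain ⟨τ, hτ, eτ⟩ := S.ex _ c hc
  obtain ⟨h, hh, r, e⟩ := cover hs S hg hn hA' (t := t0) (by rw [← hw, ht0]; exact ht)
    ((τ • ξ).2.2 - w.2.2)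
  have e1 : h • ((0, 0, r) : K × K × K) = τ • ξ := by
    rw [e, ← hw]
    ext
    · rw [eτ]; simp [uu, ht0]
    · rw [eτ]; simp only [uu, Prod.snd_add, Prod.fst_add, zero_add]; field_simp; ring
    · simp
  have e2 : (g⁻¹ * (τ⁻¹ * h)) • ((0, 0, r) : K × K × K) = (0, 1, t) := by
    rw [mul_smul, mul_smul, e1, inv_smul_smul, hξ, inv_smul_smul]
  have hr : r ≠ 0 := fun h0 => by
    have z : ((0, 0, 0) : K × K × K) = 0 := rfl
    rw [h0, z, smul_zero] at e2
    simpa using congrArg (fun v : K × K × K => v.2.1) e2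
  have h1 := sb_of hs S (mul_mem (inv_mem hg) (mul_mem (inv_mem (S.syl.le hτ)) hh)) hr (by rw [e2])
  have h2 := (sb_mem h1 (x := ((0, 0, r) : K × K × K)) ⟨rfl, rfl⟩).2
  rw [e2] at h2
  exact one_ne_zero h2

end Scal

variable [Finite K] [Finite G] [FaithfulSMul G (K × K × K)] [Fact p.Prime] [CharP K p]

theorem S3.scal (hs : ∃ e : K, star e ≠ e) (S : S3 K p H U) (hg : g ∈ H) (hn : g ∉ sb G (Wx K)) {c : K}
    (hc : c + star c = 0) : ∃ x ∈ H, (∀ v : K × K × K, (∀ w ∈ Wx K, be v (g • w) = 0) → x • v = v) ∧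
      ∀ u : K, ∃ w ∈ Wx K, x • ((0, 0, u) : K × K × K) = (0, 0, u) + g • w ∧ (g • w).1 = c * u := by
  obtain ⟨d, k, u0, hd, hk, hu0, e⟩ := Scal.exists_co hs S hg hn
  have all := Scal.all_of hs S hg hn hd hk hu0 e
  obtain ⟨k', hk', ek⟩ := S.semi hs hg (k := -(c * d)) (by
    rw [star_neg, star_mul', eq_neg_of_add_eq_zero_right hc, eq_neg_of_add_eq_zero_right hd]; ring)
  obtain ⟨x, hx, ex⟩ := Scal.exy S hg (c := k' * k) (by
    rw [star_mul', hk', ← mul_add, hk, mul_zero])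
  refine ⟨x, hx, fun v hv => ?_, fun u => ⟨_, ⟨rfl, rfl⟩, ex _, ?_⟩⟩
  · have : g⁻¹ • v ∈ Wp K := (be_Wx hs).1 fun w hw => (S.be0 hg).1 (by
      rw [smul_inv_smul]; exact hv w hw)
    have z : ((0, 0, 0) : K × K × K) = 0 := rfl
    rw [ex, mem_Wp.1 this, mul_zero, z, smul_zero, add_zero]
  · rw [mul_assoc, Scal.ksm, ek, Prod.smul_fst, smul_eq_mul]
    linear_combination -c * all u

end U5F
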