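import Mathlib
import Cfsg.Agent.Base
import Cfsg.Agent.Lib.U5F.Card

/-!
The torus and the Weyl element of the three-dimensional special unitary group.
-/

set_option autoImplicit false

namespace U5F

open Subgroup H93.SX Un
open scoped commutatorElement

universe u v

variable {K G : Type*} [Field K] [StarRing K] [Group G] [DistribMulAction G (K × K × K)] {p : ℕ}
  {H U : Subgroup G} {g : G}

namespace Su3

variable {τ M N : K × K × K → K × K × K}

theorem comp (h1 : ∃ g ∈ H, ∀ x, g • τ x = τ (M x)) (h2 : ∃ g ∈ H, ∀ x, g • τ x = τ (N x)) :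
    ∃ g ∈ H, ∀ x, g • τ x = τ (M (N x)) :=
  let ⟨g, hg, e⟩ := h1
  let ⟨k, hk, f⟩ := h2
  ⟨g * k, mul_mem hg hk, fun x => by rw [mul_smul, f, e]⟩

theorem inv (h1 : ∃ g ∈ H, ∀ x, g • τ x = τ (M x)) (h : ∀ x, M (N x) = x) :
    ∃ g ∈ H, ∀ x, g • τ x = τ (N x) :=
  let ⟨g, hg, e⟩ := h1
  ⟨g⁻¹, inv_mem hg, fun x => by rw [inv_smul_eq_iff, e, h]⟩

theorem congr (h1 : ∃ g ∈ H, ∀ x, g • τ x = τ (M x)) (h : ∀ x, M x = N x) :
    ∃ g ∈ H, ∀ x, g • τ x = τ (N x) :=
  let ⟨g, hg, e⟩ := h1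
  ⟨g, hg, fun x => by rw [e, h]⟩

end Su3

theorem su3 [Finite K] (hs : ∃ e : K, star e ≠ e) (τ : K × K × K → K × K × K)
    (hu : ∀ b c : K, c + star c + b * star b = 0 → ∃ g ∈ H, ∀ x, g • τ x = τ (uu b c x)) {c c' : K}
    (hc : c + star c = 0) (hc' : c * c' = -1)
    (hn : ∃ n ∈ H, ∀ x, n • τ x = τ (c' * x.2.2, x.2.1, c * x.1)) :
    (∃ n ∈ H, ∀ x, n • τ x = τ (x.2.2, -x.2.1, x.1)) ∧ ∀ d : K, d ≠ 0 →
      ∃ h ∈ H, ∀ x, h • τ x = τ (d⁻¹ * x.1, d / star d * x.2.1, star d * x.2.2) := by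
  have sc : star c = -c := eq_neg_of_add_eq_zero_right hc
  have hi : ∃ g ∈ H, ∀ x, g • τ x = τ (-c' * x.2.2, x.2.1, -c * x.1) := Su3.inv hn fun x => by
    refine Prod.ext ?_ (Prod.ext rfl ?_)
    · show c' * (-c * x.1) = x.1
      linear_combination (-x.1) * hc'
    · show c * (-c' * x.2.2) = x.2.2
      linear_combination (-x.2.2) * hc'
  have hl : ∀ b e : K, e + star e + b * star b = 0 → ∃ g ∈ H, ∀ x,
      g • τ x = τ (x.1 + e * x.2.2 - star b * x.2.1, x.2.1 + b * x.2.2, x.2.2) := fun b e h => by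
    refine Su3.congr (Su3.comp hi (Su3.comp (hu (-c * b) (-(c * c) * e) ?_) hn)) fun x => ?_
    · simp only [star_mul', star_neg, sc]
      linear_combination (-(c * c)) * h
    · refine Prod.ext ?_ (Prod.ext ?_ ?_) <;> simp only [uu, star_mul', star_neg, sc]
      · linear_combination (-x.1 + star b * x.2.1 + (c * c' - 1) * e * x.2.2) * hc'
      · linear_combination (-b * x.2.2) * hc'
      · linear_combination (-x.2.2) * hc'
  have hm : ∀ e : K, e ≠ 0 → ∃ g ∈ H, ∀ x,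
      g • τ x = τ (e * x.2.2, -(star e / e) * x.2.1, (star e)⁻¹ * x.1) := fun e he => by
    obtain ⟨b, hb⟩ := exists_norm hs (k := -(e + star e)) (by simp [add_comm])
    have he' : star e ≠ 0 := star_ne_zero.2 he
    refine Su3.congr (Su3.comp (hu (-b / e) (star e)⁻¹ ?_) (Su3.comp (hl b e (by linear_combination hb))
      (hu (-b / star e) (star e)⁻¹ ?_))) fun x => ?_
    · simp only [star_div₀, star_neg, star_inv₀, star_star]
      field_simp
      linear_combination hb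
    · simp only [star_div₀, star_neg, star_inv₀, star_star]
      field_simp
      linear_combination hb
    · refine Prod.ext ?_ (Prod.ext ?_ ?_) <;> simp only [uu, star_div₀, star_neg, star_star] <;>
        field_simp <;> grind
  have h1 : ∃ n ∈ H, ∀ x, n • τ x = τ (x.2.2, -x.2.1, x.1) :=
    Su3.congr (hm 1 one_ne_zero) fun x => by simp
  refine ⟨h1, fun d hd => Su3.congr (Su3.comp (hm d⁻¹ (inv_ne_zero hd)) h1) fun x => ?_⟩
  have hd' : star d ≠ 0 := star_ne_zero.2 hd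
  refine Prod.ext rfl (Prod.ext ?_ ?_) <;> simp only [star_inv₀] <;> field_simp

end U5F
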