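import Mathlib
import Cfsg.Agent.Base
import Cfsg.Agent.Lib.U5F.Scal
import Cfsg.Agent.Lib.U5F.Su3

/-!
The group contains the standard three-dimensional special unitary group.
-/

set_option autoImplicit false

namespace U5F

open Subgroup H93.SX Un
open scoped commutatorElement

universe u v

variable {K G : Type*} [Field K] [StarRing K] [Group G] [DistribMulAction G (K × K × K)] {p : ℕ}
  {H U : Subgroup G} {g : G}

namespace Tw

theorem lin (hs : ∃ e : K, star e ≠ e) {f : K → K} (ha : ∀ x y, f (x + y) = f x + f y)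
    (hm : ∀ k y, star k = k → f (k * y) = k * f y) : ∃ α β : K, ∀ y, f y = α * y + β * star y := by
  obtain ⟨e, he⟩ := hs
  have h0 : star e - e ≠ 0 := sub_ne_zero.2 he
  have h1 : e - star e ≠ 0 := sub_ne_zero.2 he.symm
  refine ⟨f 1 - (f e - e * f 1) / (star e - e), (f e - e * f 1) / (star e - e), fun y => ?_⟩
  have k2 : star ((star y - y) / (star e - e)) = (star y - y) / (star e - e) := by
    rw [star_div₀, star_sub, star_sub, star_star, star_star, div_eq_div_iff h1 h0]; ring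
  have k1 : star ((y * star e - star y * e) / (star e - e)) = (y * star e - star y * e) / (star e - e) := by
    simp only [star_div₀, star_sub, star_mul', star_star]; rw [div_eq_div_iff h1 h0]; ring
  have e1 : y = (y * star e - star y * e) / (star e - e) * 1 + (star y - y) / (star e - e) * e := by
    field_simp; ring
  rw [congrArg f e1, ha, hm _ _ k1, hm _ _ k2]
  field_simp; ring

theorem klin [Finite G] (top : ∀ g ∈ H, g ∈ sb G (Wx K) →
      ∃ σ : K ≃+* K, ∀ (k : K) (x : K × K × K), g • (k • x) = σ k • g • x) (hg : g ∈ H) {l : K} (hl : l ≠ 0)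
    (h : ∀ u : K, g • ((0, 0, u) : K × K × K) = (0, 0, l * u)) (k : K) (x : K × K × K) :
    g • (k • x) = k • g • x := by
  obtain ⟨σ, hσ⟩ := top g hg (mem_sb fun ⟨a, v, u⟩ ⟨h1, h2⟩ => by
    obtain rfl : a = 0 := h1
    obtain rfl : v = 0 := h2
    rw [h]; exact ⟨rfl, rfl⟩)
  have := congrArg (·.2.2) (hσ k (0, 0, 1))
  simp only [Prod.smul_mk, smul_eq_mul, mul_zero, h, mul_one] at this
  rw [hσ, ← mul_left_cancel₀ hl (this.trans (mul_comm _ _))]

/-- the twisted coordinates -/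
def tau (f e e' : K) (x : K × K × K) : K × K × K :=
  (x.1, f * star x.1 + x.2.1, e * x.1 + e' * star x.1 + f * star x.2.1 + x.2.2)

theorem tw_eq_defs : True := by
  have := @tau.eq_1.{0}
  trivial

variable [Finite K] [Finite G] [FaithfulSMul G (K × K × K)] [Fact p.Prime] [CharP K p]

theorem graph (hs : ∃ e : K, star e ≠ e) (S : S3 K p H U) (hg : g ∈ H) (hn : g ∉ sb G (Wx K)) :
    ∃ α β γ δ : K, (∀ w ∈ Wx K, (g • w).2 = (α * (g • w).1 + β * star (g • w).1,
      γ * (g • w).1 + δ * star (g • w).1)) ∧ ∀ y, ∃ w ∈ Wx K, (g • w).1 = y := by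
  have un : ∀ w ∈ Wx K, ∀ w' ∈ Wx K, (g • w).1 = (g • w').1 → w = w' := fun w hw w' hw' e =>
    sub_eq_zero.1 (S.ti hs hg hn (sub_mem hw hw') (by rw [smul_sub, Prod.fst_sub, e, sub_self]))
  have hi : Function.Injective fun u : K => (g • ((0, 0, u) : K × K × K)).1 := fun u u' e =>
    congrArg (·.2.2) (un _ ⟨rfl, rfl⟩ _ ⟨rfl, rfl⟩ e)
  have su : ∀ y, ∃ w ∈ Wx K, (g • w).1 = y := fun y =>
    let ⟨u, hu⟩ := Finite.injective_iff_surjective.1 hi y; ⟨_, ⟨rfl, rfl⟩, hu⟩
  choose r r1 r2 using id su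
  have ha : ∀ x y, g • r (x + y) = g • r x + g • r y := fun x y => by
    rw [← smul_add, un _ (r1 _) _ (add_mem (r1 x) (r1 y)) (by rw [smul_add, Prod.fst_add, r2, r2, r2])]
  have hm : ∀ k y, star k = k → g • r (k * y) = k • g • r y := fun k y hk => by
    obtain ⟨k', -, e⟩ := S.semi hs hg hk
    rw [← e, un _ (r1 _) (k' • r y) ⟨by simp [(r1 y).1], by simp [(r1 y).2]⟩
      (by rw [e, Prod.smul_fst, r2, r2, smul_eq_mul])]
  obtain ⟨α, β, h1⟩ := lin hs (f := fun y => (g • r y).2.1) (fun x y => by rw [ha]; rfl)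
    fun k y hk => by rw [hm k y hk]; rfl
  obtain ⟨γ, δ, h2⟩ := lin hs (f := fun y => (g • r y).2.2) (fun x y => by rw [ha]; rfl)
    fun k y hk => by rw [hm k y hk]; rfl
  refine ⟨α, β, γ, δ, fun w hw => ?_, su⟩
  rw [← h1, ← h2, ← un _ hw _ (r1 _) (r2 _).symm]

omit [Finite K] in
theorem tau_uu {f : K} (f2 : 2 * f = 0) (e e' b c : K) (y : K × K × K) :
    uu b c (tau f e e' y) = tau f e e' (uu b c y) := by
  refine Prod.ext rfl (Prod.ext ?_ ?_) <;> simp only [tau, uu, star_add, star_mul']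
  · ring
  · linear_combination -(star y.1 * star b) * f2

omit [Finite K] in
theorem tau_x (f e e' c a v u : K) : uu 0 c (tau f e e' (a, v, u)) = tau f e e' (a, v, u + a * c) := by
  refine Prod.ext rfl (Prod.ext ?_ ?_) <;> simp only [tau, uu, star_zero] <;> ring

omit [Finite K] in
theorem tau_add (f e e' : K) (x y : K × K × K) : tau f e e' (x + y) = tau f e e' x + tau f e e' y := by
  refine Prod.ext rfl (Prod.ext ?_ ?_) <;> simp only [tau, Prod.fst_add, Prod.snd_add, star_add] <;> ring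

omit [Finite K] in
theorem tau_W (f e e' u : K) : tau f e e' (0, 0, u) = (0, 0, u) := by simp [tau]

omit [Finite K] in
theorem tau_d (f e e' v y : K) : be (tau f e e' (0, v, 0)) (tau f e e' (y, 0, 0)) = 0 := by
  simp only [be, tau, star_add, star_mul', star_star, star_zero]; ring

omit [Finite K] in
theorem tau_k (f e e' k : K) : k • tau f e e' (0, 1, 0) = tau f e e' (0, k, f * (k - star k)) := by
  refine Prod.ext ?_ (Prod.ext ?_ ?_) <;>
    simp only [tau, Prod.smul_mk, smul_eq_mul, star_zero, star_one] <;> ring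

omit [Finite K] in
theorem tau_k' (f e e' k y : K) : k • tau f e e' (y, 0, 0) =
    tau f e e' (k * y, f * (k - star k) * star y, (e' * star y + f * star f * y) * (k - star k)) := by
  refine Prod.ext ?_ (Prod.ext ?_ ?_) <;>
    simp only [tau, Prod.smul_mk, smul_eq_mul, star_zero, star_mul', star_sub, star_star] <;> ring

omit [Finite K] in
theorem tau_inj {f e e' : K} {x y : K × K × K} (h : tau f e e' x = tau f e e' y) : x = y := by
  obtain ⟨a, v, u⟩ := x
  obtain ⟨a', v', u'⟩ := y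
  simp only [tau, Prod.mk.injEq] at h
  obtain ⟨rfl, h1, h2⟩ := h
  obtain rfl := add_left_cancel h1
  rw [add_left_cancel h2]

theorem weyl (hs : ∃ e : K, star e ≠ e) (S : S3 K p H U) (hg : g ∈ H) (hn : g ∉ sb G (Wx K)) {f e e' : K}
    (h1 : ∀ w ∈ Wx K, g • w = tau f e e' ((g • w).1, 0, 0)) (h2 : ∀ y, ∃ w ∈ Wx K, (g • w).1 = y)
    {c c' : K} (hc : c + star c = 0) (hc' : c' + star c' = 0) (cc : c * c' = -1) :
    (∀ a, ∀ w ∈ Wx K, be (tau f e e' (a, 0, 0)) (g • w) = 0) ∧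
      ∃ n ∈ H, ∀ y : K × K × K, n • tau f e e' y = tau f e e' (c' * y.2.2, y.2.1, c * y.1) := by
  obtain ⟨x', hx', f1, f2⟩ := S.scal hs hg hn hc'
  obtain ⟨x, hx, f3⟩ := S.ex 0 c (by rw [zero_mul, add_zero, hc])
  have pw : ∀ a, ∀ w ∈ Wx K, be (tau f e e' (a, 0, 0)) (g • w) = 0 := fun a w hw => by
    obtain ⟨w0, hw0, rfl⟩ := h2 a
    rw [← h1 w0 hw0, S.be0 hg]
    simp only [be, hw.1, hw.2, hw0.1, hw0.2, star_zero]; ring
  have a1 : ∀ a v u, x' • tau f e e' (a, v, u) = tau f e e' (a + c' * u, v, u) := fun a v u => by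
    obtain ⟨w, hw, e1, e2⟩ := f2 u
    have e3 := h1 w hw
    rw [e2] at e3
    have e4 : x' • tau f e e' (0, v, 0) = tau f e e' (0, v, 0) := f1 _ fun w hw => by rw [h1 w hw, tau_d]
    rw [show (a, v, u) = (a, 0, 0) + (0, v, 0) + (0, 0, u) by simp, tau_add, tau_add, smul_add, smul_add,
      f1 _ (pw a), e4, tau_W, e1, e3, ← tau_W f e e' u, ← tau_add, ← tau_add, ← tau_add]
    simp
  have a2 : ∀ a v u, x • tau f e e' (a, v, u) = tau f e e' (a, v, u + a * c) := fun a v u => by rw [f3, tau_x]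
  refine ⟨pw, x * x' * x, mul_mem (mul_mem (S.syl.le hx) hx') (S.syl.le hx), fun ⟨a, v, u⟩ => ?_⟩
  rw [mul_smul, mul_smul, a2, a1, a2, show a + c' * (u + a * c) = c' * u by linear_combination a * cc,
    show u + a * c + c' * u * c = c * a by linear_combination u * cc]

theorem core (hs : ∃ e : K, star e ≠ e) (S : S3 K p H U) (top : ∀ g ∈ H, g ∈ sb G (Wx K) →
      ∃ σ : K ≃+* K, ∀ (k : K) (x : K × K × K), g • (k • x) = σ k • g • x)
    (hg : g ∈ H) (hn : g ∉ sb G (Wx K)) {f e e' : K} (h1 : ∀ w ∈ Wx K, g • w = tau f e e' ((g • w).1, 0, 0))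
    (h2 : ∀ y, ∃ w ∈ Wx K, (g • w).1 = y) : (∃ t ∈ U, ∀ w ∈ Wx K, (t • g • w).2 = 0) ∧
      (∃ n ∈ H, ∀ x : K × K × K, n • x = (x.2.2, -x.2.1, x.1)) ∧ ∀ d : K, d ≠ 0 → ∃ h ∈ H,
        ∀ x : K × K × K, h • x = (d⁻¹ * x.1, d / star d * x.2.1, star d * x.2.2) := by
  obtain ⟨c, c0, hc⟩ := exists_skew hs
  have cc : c * -c⁻¹ = -1 := by rw [mul_neg, mul_inv_cancel₀ c0]
  obtain ⟨pw, m, n0, a3⟩ := weyl hs S hg hn h1 h2 hc
    (by rw [star_neg, star_inv₀, show star c = -c by linear_combination hc, inv_neg]; ring) cc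
  obtain ⟨k, hk⟩ := id hs
  have k0 : k - star k ≠ 0 := sub_ne_zero.2 hk.symm
  have a4 : ∀ a v u : K, (m * m) • tau f e e' (a, v, u) = tau f e e' (-a, v, -u) := fun a v u => by
    rw [mul_smul, a3, a3, show -c⁻¹ * (c * a) = -a by linear_combination a * cc,
      show c * (-c⁻¹ * u) = -u by linear_combination u * cc]
  have f2 : 2 * f = 0 := by
    have := klin top (mul_mem n0 n0) (l := -1) (neg_ne_zero.2 one_ne_zero)
      (fun u => by rw [← tau_W f e e' u, a4, neg_zero, tau_W, neg_one_mul]) k (tau f e e' (0, 1, 0))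
    rw [tau_k, a4, a4, neg_zero, tau_k] at this
    have : -(f * (k - star k)) = f * (k - star k) := congrArg (·.2.2) (tau_inj this)
    exact (mul_eq_zero.1 (show 2 * f * (k - star k) = 0 by linear_combination -this)).resolve_right k0
  obtain ⟨⟨n, hn, n1⟩, tor⟩ := su3 (H := H) hs (tau f e e') (fun b c' h => by
    obtain ⟨t, ht, e1⟩ := S.ex b c' h
    exact ⟨t, S.syl.le ht, fun y => by rw [e1, tau_uu f2]⟩) hc cc ⟨_, n0, a3⟩
  have kz : k ≠ 0 := fun e => hk (by rw [e, star_zero])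
  have sk : star k ≠ 0 := star_ne_zero.2 kz
  have k1 : k - 1 ≠ 0 := fun e => hk (by rw [sub_eq_zero.1 e, star_one])
  have k2 : star k * star k - 1 ≠ 0 := fun e => by
    rcases mul_self_eq_one_iff.1 (sub_eq_zero.1 e) with e | e <;> apply hk <;>
      rw [← star_star k, star_star (star k), e] <;> simp
  obtain ⟨h, hh, t1⟩ := tor k kz
  have := klin top hh sk (fun u => by
    rw [← tau_W f e e' u, t1, ← tau_W f e e' (_ * _)]; simp only [mul_zero]) k (tau f e e' (1, 0, 0))
  rw [tau_k', t1, t1] at this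
  simp only [mul_zero, mul_one, star_one] at this
  rw [tau_k'] at this
  have := tau_inj this
  simp only [Prod.mk.injEq, star_inv₀] at this
  obtain ⟨-, b1, b2⟩ := this
  obtain rfl : f = 0 := by
    field_simp at b1
    exact (mul_eq_zero.1 ((mul_eq_zero.1 (show f * (k - star k) * (k - 1) = 0 by
      linear_combination (k - star k) * b1)).resolve_right k1)).resolve_right k0
  obtain rfl : e' = 0 := by
    field_simp at b2
    exact (mul_eq_zero.1 ((mul_eq_zero.1 (show e' * k * (star k * star k - 1) = 0 by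
      linear_combination b2)).resolve_right k2)).resolve_right kz
  have he : e + star e = 0 := by
    obtain ⟨w, hw, e1⟩ := h2 k
    have := pw 1 w hw
    rw [h1 w hw, e1] at this
    simp only [be, tau, star_add, star_mul', star_zero, star_one] at this
    exact (mul_eq_zero.1 (show (e + star e) * (k - star k) = 0 by linear_combination this)).resolve_right k0
  obtain ⟨s, hs', s1⟩ := S.ex 0 e (by rw [zero_mul, add_zero, he])
  have s2 : ∀ y, tau 0 e 0 y = s • y := fun y => by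
    rw [s1]
    refine Prod.ext rfl (Prod.ext ?_ ?_) <;> simp only [tau, uu, star_zero] <;> ring
  have cj : ∀ m ∈ H, s⁻¹ * m * s ∈ H := fun m hm => mul_mem (mul_mem (inv_mem (S.syl.le hs')) hm) (S.syl.le hs')
  simp only [s2] at n1 tor h1
  refine ⟨⟨s⁻¹, inv_mem hs', fun w hw => by rw [h1 w hw, inv_smul_smul]; rfl⟩,
    ⟨_, cj n hn, fun y => by rw [mul_smul, mul_smul, n1, inv_smul_smul]⟩, fun d hd => ?_⟩
  obtain ⟨m, hm, m1⟩ := tor d hd
  exact ⟨_, cj m hm, fun y => by rw [mul_smul, mul_smul, m1, inv_smul_smul]⟩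

end Tw

variable [Finite K] [Finite G] [FaithfulSMul G (K × K × K)] [Fact p.Prime] [CharP K p]

theorem S3.tw (hs : ∃ e : K, star e ≠ e) (S : S3 K p H U) (top : ∀ g ∈ H, g ∈ sb G (Wx K) →
      ∃ σ : K ≃+* K, ∀ (k : K) (x : K × K × K), g • (k • x) = σ k • g • x)
    (hg : g ∈ H) (hn : g ∉ sb G (Wx K)) : (∃ t ∈ U, ∀ w ∈ Wx K, (t • g • w).2 = 0) ∧
      (∃ n ∈ H, ∀ x : K × K × K, n • x = (x.2.2, -x.2.1, x.1)) ∧ ∀ d : K, d ≠ 0 → ∃ h ∈ H,
        ∀ x : K × K × K, h • x = (d⁻¹ * x.1, d / star d * x.2.1, star d * x.2.2) := by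
  obtain ⟨α, β, γ, δ, h1, h2⟩ := Tw.graph hs S hg hn
  obtain ⟨c, hc⟩ := exists_c hs (-α)
  obtain ⟨t, ht, e⟩ := S.ex _ c hc
  have tW : t ∈ sb G (Wx K) := mem_sb fun w hw => by rw [e]; simp [uu, hw.1, hw.2]
  have e1 : ∀ w : K × K × K, ((t * g) • w).1 = (g • w).1 := fun w => by rw [mul_smul, e]; rfl
  obtain ⟨⟨s, hs', s1⟩, k⟩ := Tw.core hs S top (mul_mem (S.syl.le ht) hg) (fun h => hn ((mul_mem_cancel_left tW).1 h))
    (f := β) (e := γ + c + α * star α) (e' := δ + β * star α) (fun w hw => by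
      rw [e1, mul_smul, e, uu, h1 w hw]
      ext <;> simp [Tw.tau] <;> ring) fun y => by simpa only [e1] using h2 y
  exact ⟨⟨s * t, mul_mem hs' ht, fun w hw => by rw [mul_smul, ← mul_smul t, s1 w hw]⟩, k⟩

end U5F
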