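import Mathlib
import Cfsg.Agent.Base
import Cfsg.Agent.Lib.U5F.Nr
import Cfsg.Agent.Lib.U5F.Tw
import Cfsg.Agent.Lib.SpX.Odd

/-!
The automizer of the second radical.
-/

set_option autoImplicit false

namespace U5F

open Subgroup H93.SX Un
open scoped commutatorElement

universe u v

variable {K : Type*} {Γ : Type u} [Field K] [StarRing K] [Finite K] [Group Γ] [Finite Γ] {p : ℕ}
  [Fact p.Prime] {ι : Un K →* Γ} {E : Subgroup (Un K)} {g : Γ}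

namespace Id2

omit [Finite K] [Finite Γ] in
theorem co (hs : ∃ e : K, star e ≠ e) (i : Function.Injective ι)
    (hz : ∀ g ∈ nr ι (Q2 K), g ∈ nr ι (Z1 K)) : Co ι (Q2 K) cV :=
  ⟨fun x _ y hy => by simp_all [cV], fun v => by
    obtain ⟨x, a, b, c, d, e⟩ := exists_un hs v.1 0 v.2.1 0 v.2.2 (by simp)
    exact ⟨x, ⟨b, d⟩, by simp [cV, a, c, e]⟩,
    fun g hg x hx y _ e h => by
      have := e.mem i (hz g hg) (by simp_all [cV])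
      simp_all [cV]⟩

omit [Finite K] in
theorem cj_cV (t : Un K) {x : Un K} (hx : x ∈ Q2 K) :
    cV (t * x * t⁻¹) = uu (-t.b) (star t.c) (cV x) := by
  obtain ⟨h1, h2⟩ := hx
  simp only [cV, uu, U5F.Un.mul_a, mul_v, mul_u, U5F.Un.mul_b, U5F.Un.mul_c, U5F.Un.inv_a, U5F.Un.inv_b,
    inv_v, U5F.Un.inv_c, inv_u, h1, h2, sc, star_neg, star_zero, Prod.mk.injEq]
  refine ⟨by ring, by ring, by ring⟩

omit [Finite K] in
theorem cj_mem (t : Un K) {x : Un K} (hx : x ∈ Q2 K) : t * x * t⁻¹ ∈ Q2 K := by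
  simpa only [commutatorElement_def, inv_mul_cancel_right] using mul_mem (seQ2.a (comm_R t hx)) hx

omit [Finite K] in
theorem hY : ∀ x ∈ Q2 K, cV x ∈ Wx K ↔ x ∈ Z2 K := fun x hx => by simp_all [cV]

omit [Finite K] in
theorem Z2_le : Z2 K ≤ Q2 K := fun _ h => ⟨h.2.1, h.2.2.2⟩

omit [Finite K] [Finite Γ] in
theorem acU (o : Co ι (Q2 K) cV) {t : Un K} {φ : (K × K × K) ≃ₗ[ℤ] (K × K × K)}
    (a : Ac ι (Q2 K) cV (ι t) φ) (v : K × K × K) : φ • v = uu (-t.b) (star t.c) v := by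
  obtain ⟨x, hx, rfl⟩ := o.surj v
  rw [a.2 x hx _ (cj_mem t hx) (Cj.self t x), cj_cV t hx]

theorem s3 (hs : ∃ e : K, star e ≠ e) (F : Cf p ι) (o : Co ι (Q2 K) cV) :
    S3 K p (au F.inj (Q2 K) cV ⊤) (au F.inj (Q2 K) cV ι.range) := by
  refine ⟨o.syl F (fn_of fun t x hx => seQ2.a (comm_R t hx)), ?_, fun b c h => ?_, ?_⟩
  · rintro φ ⟨_, ⟨t, rfl⟩, a⟩
    exact ⟨-t.b, star t.c, t⁻¹.hc, acU o a⟩
  · obtain ⟨t, -, t1, -, t2, -⟩ := exists_un hs 0 b 0 c 0 h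
    obtain ⟨φ, a⟩ := o.exists_ac (g := ι t⁻¹) (self_nr fun x hx => seQ2.a (comm_R _ hx))
    exact ⟨φ, ⟨_, ⟨_, rfl⟩, a⟩, fun v => by rw [acU o a, U5F.Un.inv_b, U5F.Un.inv_c, neg_neg, star_star, t1, t2]⟩
  · rintro φ ⟨γ, -, a⟩ x y x' y' e
    obtain ⟨x, hx, rfl⟩ := o.surj x
    obtain ⟨y, hy, rfl⟩ := o.surj y
    obtain ⟨x', hx', rfl⟩ := o.surj x'
    obtain ⟨y', hy', rfl⟩ := o.surj y'
    obtain ⟨u, hu, e1⟩ := nr_cj a.1 hx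
    obtain ⟨v, hv, e2⟩ := nr_cj a.1 hy
    obtain ⟨u', hu', e3⟩ := nr_cj a.1 hx'
    obtain ⟨v', hv', e4⟩ := nr_cj a.1 hy'
    have k : ∀ {x y : Un K}, x ∈ Q2 K → y ∈ Q2 K → be (cV x) (cV y) = ⁅x, y⁆.z :=
      fun hx hy => (comm_z_Q2 hx hy).symm
    rw [k hx hy, k hx' hy'] at e
    have c1 := comm_Q2 hx hy
    have c2 := comm_Q2 hx' hy'
    have c : ⁅x, y⁆ = ⁅x', y'⁆ := Un.ext (c1.1.trans c2.1.symm) (c1.2.1.trans c2.2.1.symm)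
      (c1.2.2.1.trans c2.2.2.1.symm) (c1.2.2.2.1.trans c2.2.2.2.1.symm)
      (c1.2.2.2.2.trans c2.2.2.2.2.symm) e
    rw [a.2 x hx u hu e1, a.2 y hy v hv e2, a.2 x' hx' u' hu' e3, a.2 y' hy' v' hv' e4, k hu hv,
      k hu' hv', (e1.comm e2).uniq F.inj (c ▸ e3.comm e4)]

theorem shape (hs : ∃ e : K, star e ≠ e) (F : Cf p ι) (S : Std ι) (o : Co ι (Q2 K) cV)
    {φ : (K × K × K) ≃ₗ[ℤ] (K × K × K)} (h : φ ∈ au F.inj (Q2 K) cV ⊤) (h' : φ ∈ sb _ (Wx K)) :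
    ∃ b c l m σ, l ≠ 0 ∧ Dl ι l m σ ∧
      ∀ v, φ • v = uu b c (l * σ v.1, l * m * σ v.2.1, l * m * star m * σ v.2.2) := by
  obtain ⟨γ, -, a⟩ := h
  obtain ⟨t, l, m, σ, hl, -, d, e⟩ := ext2 hs F S a.1 (a.nr Z2_le hY h')
  refine ⟨-t.b, star t.c, l, m, σ, hl, d, fun v => ?_⟩
  obtain ⟨x, hx, rfl⟩ := o.surj v
  have : dl l m σ x ∈ Q2 K := by simp_all
  rw [a.2 x hx _ (cj_mem t this) (e x hx), cj_cV t this]
  rfl

theorem tw [CharP K p] (hs : ∃ e : K, star e ≠ e) (F : Cf p ι) (S : Std ι) (o : Co ι (Q2 K) cV)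
    {φ : (K × K × K) ≃ₗ[ℤ] (K × K × K)} (a : Ac ι (Q2 K) cV g φ) (h : g ∉ nr ι (Z2 K)) :
    (∃ t ∈ au F.inj (Q2 K) cV ι.range, ∀ w ∈ Wx K, (t • φ • w).2 = 0) ∧
      (∃ n ∈ au F.inj (Q2 K) cV ⊤, ∀ x : K × K × K, n • x = (x.2.2, -x.2.1, x.1)) ∧
      ∀ d : K, d ≠ 0 → ∃ h ∈ au F.inj (Q2 K) cV ⊤,
        ∀ x : K × K × K, h • x = (d⁻¹ * x.1, d / star d * x.2.1, star d * x.2.2) := by
  refine (s3 hs F o).tw hs (fun ψ h1 h2 => ?_) ⟨g, trivial, a⟩ fun h' => h (a.nr Z2_le hY h')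
  obtain ⟨b, c, l, m, σ, -, -, e⟩ := shape hs F S o h1 h2
  refine ⟨σ.toRingEquiv, fun k x => ?_⟩
  rw [e, e]
  have : σ.toRingEquiv k = σ k := rfl
  simp only [this, uu, Prod.smul_fst, Prod.smul_snd, smul_eq_mul, map_mul, Prod.smul_mk, Prod.mk.injEq]
  refine ⟨by ring, by ring, by ring⟩

end Id2

theorem id2_line [CharP K p] (hs : ∃ e : K, star e ≠ e) (F : Cf p ι) (S : Std ι) (hg : g ∈ nr ι (Q2 K)) :
    g ∈ nr ι (Z2 K) ∨ ∃ t : Un K, ∀ x ∈ Z2 K, ∀ y, Cj ι (ι t * g) x y → y.v = 0 ∧ y.u = 0 := by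
  have o := Id2.co hs F.inj fun _ => nr_Z1_of hs F.inj
  refine or_iff_not_imp_left.2 fun h => ?_
  obtain ⟨φ, a⟩ := o.exists_ac hg
  obtain ⟨⟨ψ, ⟨_, ⟨t, rfl⟩, b⟩, e⟩, -⟩ := Id2.tw hs F S o a h
  refine ⟨t, fun x hx y c => ?_⟩
  have ab := b.mul a
  have := e _ ((Id2.hY x (Id2.Z2_le hx)).2 hx)
  rw [← mul_smul, ab.2 x (Id2.Z2_le hx) y (c.mem F.inj ab.1 (Id2.Z2_le hx)) c] at this
  exact Prod.mk_eq_zero.1 this

theorem id2_weyl [CharP K p] (hs : ∃ e : K, star e ≠ e) (F : Cf p ι) (S : Std ι) (h : ¬ nr ι (Q2 K) ≤ nr ι (Z2 K)) :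
    ∃ g ∈ nr ι (Q2 K), ∀ x ∈ Q2 K, ∀ y, Cj ι g x y → y.a = x.u ∧ y.v = -x.v ∧ y.u = x.a := by
  have o := Id2.co hs F.inj fun _ => nr_Z1_of hs F.inj
  obtain ⟨g, hg, hn⟩ := SetLike.not_le_iff_exists.1 h
  obtain ⟨φ, a⟩ := o.exists_ac hg
  obtain ⟨-, ⟨n, ⟨γ, -, b⟩, e⟩, -⟩ := Id2.tw hs F S o a hn
  refine ⟨γ, b.1, fun x hx y c => ?_⟩
  have := e (cV x)
  rw [b.2 x hx y (c.mem F.inj b.1 hx) c] at this
  simpa only [cV, Prod.mk.injEq] using this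

theorem id2_tor [CharP K p] (hs : ∃ e : K, star e ≠ e) (F : Cf p ι) (S : Std ι) (h : ¬ nr ι (Q2 K) ≤ nr ι (Z2 K))
    (d : K) (hd : d ≠ 0) : Dl ι d⁻¹ (d ^ 2 / star d) .refl := by
  have o := Id2.co hs F.inj fun _ => nr_Z1_of hs F.inj
  obtain ⟨g, hg, hn⟩ := SetLike.not_le_iff_exists.1 h
  obtain ⟨φ, a⟩ := o.exists_ac hg
  obtain ⟨ψ, h1, e⟩ := (Id2.tw hs F S o a hn).2.2 d hd
  obtain ⟨b, c, l, m, σ, hl, D, f⟩ := Id2.shape hs F S o h1 (mem_sb fun x hx => by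
    rw [e]; simp_all)
  have k : ∀ x : K, l * σ x = d⁻¹ * x := fun x => congrArg Prod.fst ((f (x, 0, 0)).symm.trans (e _))
  have k1 : l = d⁻¹ := by simpa using k 1
  have k2 : σ = .refl := StarRingEquiv.ext fun x => mul_left_cancel₀ hl (by rw [k, k1]; rfl)
  have k3 : l * m = d / star d := by
    simpa [uu] using congrArg (fun v => v.2.1) ((f (0, 1, 0)).symm.trans (e _))
  have k4 : m = d ^ 2 / star d := by
    rw [k1, inv_mul_eq_iff_eq_mul₀ hd] at k3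
    rw [k3]; ring
  rwa [k4, k1, k2] at D

end U5F
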