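import Mathlib
import Cfsg.Agent.Base
import Cfsg.Agent.Lib.U5F.Nr
import Cfsg.Agent.Lib.U5F.Card

/-!
The Weyl element acts on the first radical in the standard way.
-/

set_option autoImplicit false

namespace U5F

open Subgroup H93.SX Un
open scoped commutatorElement

universe u v

variable {K : Type*} {Γ : Type u} [Field K] [StarRing K] [Finite K] [Group Γ] [Finite Γ] {p : ℕ}
  [Fact p.Prime] {ι : Un K →* Γ} {E : Subgroup (Un K)} {g : Γ}

namespace Lift1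

omit [Finite K] in
theorem exq (hs : ∃ e : K, star e ≠ e) (b v : K) : ∃ x : Un K, x.a = 0 ∧ x.b = b ∧ x.v = v := by
  obtain ⟨c, hc⟩ := exists_c hs b
  obtain ⟨x, h1, h2, h3, -⟩ := exists_un hs 0 b v c 0 hc
  exact ⟨x, h1, h2, h3⟩

omit [Finite K] in
/-- An additive function on `Q1` vanishes on the centre. -/
theorem add_Y (hs : ∃ e : K, star e ≠ e) {Φ : Un K → K}
    (hΦ : ∀ x y : Un K, x.a = 0 → y.a = 0 → Φ (x * y) = Φ x + Φ y) {x : Un K} (ha : x.a = 0)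
    (hb : x.b = 0) (hv : x.v = 0) : Φ x = 0 := by
  have hc : ∀ x y : Un K, x.a = 0 → y.a = 0 → Φ ⁅x, y⁆ = 0 := fun x y hx hy => by
    have e : ⁅x, y⁆ * (y * x) = x * y := by simp [commutatorElement_def, mul_assoc]
    have e1 := hΦ ⁅x, y⁆ (y * x) comm_a (by simp [hx, hy])
    rw [e, hΦ x y hx hy, hΦ y x hy hx] at e1
    linear_combination -e1
  obtain ⟨w, hw⟩ := exists_sub hs (s := x.c) (by simpa [hb] using x.hc)
  obtain ⟨w', hw'⟩ := exists_sub hs (s := x.z) (by simpa [ha, hv] using x.hz)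
  obtain ⟨x1, a1, b1, v1⟩ := exq hs 1 0
  obtain ⟨x2, a2, b2, v2⟩ := exq hs w x.u
  obtain ⟨x3, a3, b3, v3⟩ := exq hs 0 1
  obtain ⟨x4, a4, b4, v4⟩ := exq hs 0 w'
  have e : x = ⁅x1, x2⁆ * ⁅x3, x4⁆ := by
    ext <;> simp [comm_z_Q1 (mem_Q1.2 a1) (mem_Q1.2 a2), comm_z_Q1 (mem_Q1.2 a3) (mem_Q1.2 a4), *]
  rw [e, hΦ _ _ comm_a comm_a, hc _ _ a1 a2, hc _ _ a3 a4, add_zero]

omit [Finite K] in
/-- An additive function on `Q1` is additive in the coordinates `(v, b)`. -/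
theorem add_vb (hs : ∃ e : K, star e ≠ e) {Φ : Un K → K}
    (hΦ : ∀ x y : Un K, x.a = 0 → y.a = 0 → Φ (x * y) = Φ x + Φ y) {x y z : Un K} (hx : x.a = 0)
    (hy : y.a = 0) (hz : z.a = 0) (hb : z.b = x.b + y.b) (hv : z.v = x.v + y.v) :
    Φ z = Φ x + Φ y := by
  have e : z = (x * y) * ((x * y)⁻¹ * z) := by group
  have h1 : ((x * y)⁻¹ * z).a = 0 := by simp [hx, hy, hz]
  rw [e, hΦ _ _ (by simp [hx, hy]) h1, hΦ _ _ hx hy,
    add_Y hs hΦ h1 (by simp [hb]) (by simp [hx, hy, hv]), add_zero]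

omit [Finite K] in
theorem skew_zero (hs : ∃ e : K, star e ≠ e) {t : K} (h : ∀ b : K, b * star t = t * star b) :
    t = 0 := by
  obtain ⟨e, he⟩ := hs
  have h1 := h 1
  have h2 := h e
  rw [star_one, one_mul, mul_one] at h1
  rw [h1] at h2
  by_contra ht
  exact he (mul_left_cancel₀ ht (by linear_combination -h2))

section
omit [Finite K]
variable {t y : Un K}

theorem cj_c (_ta : t.a = 0) : (t * y * t⁻¹).c = y.c + y.b * star t.b - t.b * star y.b := by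
  simp [sc]; ring

theorem cj_u (ta : t.a = 0) (ya : y.a = 0) :
    (t * y * t⁻¹).u = y.u + y.v * star t.b - t.v * star y.b := by
  simp [ta, ya]; ring

theorem cj_z (ta : t.a = 0) (ya : y.a = 0) :
    (t * y * t⁻¹).z = y.z + y.v * star t.v - t.v * star y.v := by
  simp [ta, ya, sz]; ring

end

/-- The torus is normalised up to an inner automorphism of `Q1`. -/
theorem key (hs : ∃ e : K, star e ≠ e) (F : Cf p ι) (S : Std ι) (T : Tor ι) (hg : g ∈ nr ι (Q1 K))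
    (h : ∀ x ∈ Q1 K, ∀ y, Cj ι g x y → y.v = x.b ∧ y.b = -x.v) {d e : K} (hd : d ≠ 0) (he : e ≠ 0) :
    ∃ t : Un K, t.a = 0 ∧ ∀ x ∈ Q1 K, ∀ y, Cj ι g x y → Cj ι g (tr e d x) (t * tr d e y * t⁻¹) := by
  obtain ⟨k, hk⟩ := T e d he hd
  have hd' := star_ne_zero.2 hd
  have he' := star_ne_zero.2 he
  have hQ : ∀ x ∈ Q1 K, tr e d x ∈ Q1 K := fun x hx => by simp [mem_Q1.1 hx]
  have c1 : ∀ y ∈ Q1 K, ∃ z ∈ Q1 K, Cj ι (g * k * g⁻¹) y z ∧
      z.v = d ^ 2 * e / (star d * star e) * y.v ∧ z.b = d * e ^ 2 / (star d * star e) * y.b :=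
    fun y hy => by
      obtain ⟨x, hx, e1⟩ := nr_cj' hg hy
      obtain ⟨z, hz, e2⟩ := nr_cj hg (hQ x hx)
      obtain ⟨p1, p2⟩ := h x hx y e1
      obtain ⟨p3, p4⟩ := h _ (hQ x hx) z e2
      refine ⟨z, hz, (e2.trans (hk x)).trans e1.symm, ?_, ?_⟩
      · rw [p3, p1, tr_b]; ring
      · rw [p4, p2, tr_v hd]; ring
  obtain ⟨t, l, m, σ, -, -, -, ht⟩ := ext1 hs F S (g := g * k * g⁻¹)
    (mem_nr fun y hy => let ⟨z, hz, e, _⟩ := c1 y hy; ⟨z, hz, e⟩)
    (mem_nr fun y hy => let ⟨z, hz, e, _, e2⟩ := c1 y hy.1; ⟨z, ⟨hz, by rw [e2, hy.2, mul_zero]⟩, e⟩)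
  have c2 : ∀ b v : K, m * σ b = d * e ^ 2 / (star d * star e) * b ∧
      l * m * σ v + t.a * (m * σ b) = d ^ 2 * e / (star d * star e) * v := fun b v => by
    obtain ⟨y, ya, yb, yv⟩ := exq hs b v
    obtain ⟨z, -, e1, e2, e3⟩ := c1 y ya
    rw [e1.uniq F.inj (ht y ya)] at e2 e3
    simp only [mul_v, mul_b, mul_a, inv_b, inv_v, dl_a, dl_b, dl_v, ya, yb, yv, map_zero] at e2 e3
    exact ⟨by linear_combination e3, by linear_combination e2⟩
  have hm : m = d * e ^ 2 / (star d * star e) := by simpa using (c2 1 0).1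
  have hm0 : m ≠ 0 := by rw [hm]; positivity
  have hσ : ∀ b, σ b = b := fun b => mul_left_cancel₀ hm0 (by rw [(c2 b 0).1, hm])
  have hta : t.a = 0 := by simpa [hm0] using (c2 1 0).2
  have hl : l = d / e := mul_right_cancel₀ hm0 (by
    have := (c2 0 1).2
    simp only [map_one, map_zero, mul_zero, add_zero, mul_one] at this
    rw [this, hm]; field_simp)
  have hdl : ∀ y, dl l m σ y = tr d e y := fun y => by
    ext <;> simp [tr, hσ, hl, hm]
  refine ⟨t, hta, fun x hx y e1 => ?_⟩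
  have e2 := (ht y (e1.mem F.inj hg hx)).trans (e1.trans (hk x).symm)
  rw [hdl] at e2
  simpa using e2

/-- Correction by an inner automorphism of `Q1`. -/
theorem step1 (hs : ∃ e : K, star e ≠ e) (F : Cf p ι) (S : Std ι) (T : Tor ι)
    (hg : g ∈ nr ι (Q1 K)) (h : ∀ x ∈ Q1 K, ∀ y, Cj ι g x y → y.v = x.b ∧ y.b = -x.v) :
    ∃ s : Un K, s.a = 0 ∧ ∀ x ∈ Q1 K, ∀ y, Cj ι g x y →
      (s⁻¹ * y * s).c = x.z ∧ (s⁻¹ * y * s).z = x.c := by
  obtain ⟨l, hl, hl1⟩ := exists_norm_one hs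
  have hl0 : l ≠ 0 := by rintro rfl; simp at hl
  have hsl : star l = l⁻¹ := eq_inv_of_mul_eq_one_right hl
  have hl2 : l - 1 ≠ 0 := sub_ne_zero.2 hl1
  have hl3 : 1 - l ≠ 0 := sub_ne_zero.2 hl1.symm
  obtain ⟨t, ta, ht⟩ := key hs F S T hg h hl0 (inv_ne_zero hl0)
  have hθ : ∀ x : Un K, ∃ y : Un K, x.a = 0 → y.a = 0 ∧ Cj ι g x y := fun x => by
    by_cases hx : x.a = 0
    · obtain ⟨y, hy, e⟩ := nr_cj hg (mem_Q1.2 hx)
      exact ⟨y, fun _ => ⟨hy, e⟩⟩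
    · exact ⟨1, fun h => absurd h hx⟩
  choose θ hθ using hθ
  have θa : ∀ x : Un K, x.a = 0 → (θ x).a = 0 := fun x hx => (hθ x hx).1
  have θv : ∀ x : Un K, x.a = 0 → (θ x).v = x.b := fun x hx => (h x hx _ (hθ x hx).2).1
  have θb : ∀ x : Un K, x.a = 0 → (θ x).b = -x.v := fun x hx => (h x hx _ (hθ x hx).2).2
  have θm : ∀ x y : Un K, x.a = 0 → y.a = 0 → θ (x * y) = θ x * θ y := fun x y hx hy =>
    (hθ _ (by simp [hx, hy])).2.uniq F.inj ((hθ x hx).2.mul (hθ y hy).2)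
  have hc : ∀ x y : Un K, x.a = 0 → y.a = 0 →
      (θ (x * y)).c - (x * y).z = ((θ x).c - x.z) + ((θ y).c - y.z) := fun x y hx hy => by
    simp [θm, θb, hx, hy]; ring
  have hz : ∀ x y : Un K, x.a = 0 → y.a = 0 →
      (θ (x * y)).z - (x * y).c = ((θ x).z - x.c) + ((θ y).z - y.c) := fun x y hx hy => by
    simp [θm, θa, θv, hx, hy]; ring
  obtain ⟨s, sa, sb, sv⟩ := exq hs (t.b * (l / (l - 1))) (t.v * (1 / (1 - l)))
  refine ⟨s, sa, fun w hw y e => ?_⟩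
  obtain ⟨x, xa, xb, xv⟩ := exq hs (w.b / (l - 1)) (w.v * l / (1 - l))
  have xa' : (tr l⁻¹ l x).a = 0 := by simp [xa]
  have e1 : θ (tr l⁻¹ l x) = t * tr l l⁻¹ (θ x) * t⁻¹ :=
    (hθ _ xa').2.uniq F.inj (ht x xa _ (hθ x xa).2)
  have hb : (tr l⁻¹ l x).b = x.b + w.b := by
    rw [tr_b, xb, star_inv₀, hsl]; field_simp; ring
  have hv : (tr l⁻¹ l x).v = x.v + w.v := by
    rw [tr_v hl0, xv, star_inv₀, hsl]; field_simp; ring
  have c1 := add_vb hs (Φ := fun x => (θ x).c - x.z) hc xa hw xa' hb hv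
  have c2 := add_vb hs (Φ := fun x => (θ x).z - x.c) hz xa hw xa' hb hv
  have hi := inv_ne_zero hl0
  have ya : (tr l l⁻¹ (θ x)).a = 0 := by simp [θa x xa]
  have yb : (tr l l⁻¹ (θ x)).b = -w.v * (1 / (1 - l)) := by
    rw [tr_b, θb x xa, xv, star_inv₀, hsl]; field_simp
  have yv : (tr l l⁻¹ (θ x)).v = w.b * (l / (l - 1)) := by
    rw [tr_v hi, θv x xa, xb, star_inv₀, hsl]; field_simp
  have s1 : star (1 / (1 - l)) = l / (l - 1) := by
    rw [star_div₀, star_sub, star_one, hsl]; field_simp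
  have s2 : star (l / (l - 1)) = 1 / (1 - l) := by rw [← s1, star_star]
  have n1 : l⁻¹ * star l⁻¹ = 1 := by rw [← hsl, star_star, mul_comm, hl]
  simp only [e1, cj_c ta, cj_z ta ya, tr_c hl0 hi, tr_c hi hl0, tr_z hl0 hi, tr_z hi hl0, yb, yv,
    star_mul', star_neg, s1, s2, hl, n1] at c1 c2
  rw [e.uniq F.inj (hθ w hw).2]
  have sa' : s⁻¹.a = 0 := by simp [sa]
  have e2 : s⁻¹ * θ w * s = s⁻¹ * θ w * s⁻¹⁻¹ := by rw [inv_inv]
  rw [e2, cj_c sa', cj_z sa' (θa w hw), θb w hw, θv w hw]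
  simp only [inv_b, inv_v, sa, sb, sv, star_mul', star_neg, s1, s2, zero_mul, zero_sub]
  exact ⟨by linear_combination -c1, by linear_combination -c2⟩

/-- The remaining coordinate. -/
theorem step2 (hs : ∃ e : K, star e ≠ e) (F : Cf p ι) (S : Std ι) (T : Tor ι)
    (hg : g ∈ nr ι (Q1 K)) (h : ∀ x ∈ Q1 K, ∀ y, Cj ι g x y → y.v = x.b ∧ y.b = -x.v)
    (h' : ∀ x ∈ Q1 K, ∀ y, Cj ι g x y → y.c = x.z ∧ y.z = x.c) :
    ∀ x ∈ Q1 K, ∀ y, Cj ι g x y → y.u = star x.u + x.b * star x.v := by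
  have hθ : ∀ x : Un K, ∃ y : Un K, x.a = 0 → y.a = 0 ∧ Cj ι g x y := fun x => by
    by_cases hx : x.a = 0
    · obtain ⟨y, hy, e⟩ := nr_cj hg (mem_Q1.2 hx)
      exact ⟨y, fun _ => ⟨hy, e⟩⟩
    · exact ⟨1, fun h => absurd h hx⟩
  choose θ hθ using hθ
  have θa : ∀ x : Un K, x.a = 0 → (θ x).a = 0 := fun x hx => (hθ x hx).1
  have θv : ∀ x : Un K, x.a = 0 → (θ x).v = x.b := fun x hx => (h x hx _ (hθ x hx).2).1
  have θb : ∀ x : Un K, x.a = 0 → (θ x).b = -x.v := fun x hx => (h x hx _ (hθ x hx).2).2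
  have θc : ∀ x : Un K, x.a = 0 → (θ x).c = x.z := fun x hx => (h' x hx _ (hθ x hx).2).1
  have θz : ∀ x : Un K, x.a = 0 → (θ x).z = x.c := fun x hx => (h' x hx _ (hθ x hx).2).2
  have θm : ∀ x y : Un K, x.a = 0 → y.a = 0 → θ (x * y) = θ x * θ y := fun x y hx hy =>
    (hθ _ (by simp [hx, hy])).2.uniq F.inj ((hθ x hx).2.mul (hθ y hy).2)
  obtain ⟨Φ, hΦ⟩ : ∃ Φ : Un K → K, ∀ x, Φ x = (θ x).u - (star x.u + x.b * star x.v) := ⟨_, fun _ => rfl⟩
  have hu : ∀ x y : Un K, x.a = 0 → y.a = 0 → Φ (x * y) = Φ x + Φ y := fun x y hx hy => by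
    simp [hΦ, θm, θa, θb, θv, hx, hy]; ring
  have eqv : ∀ d e : K, d ≠ 0 → e ≠ 0 → ∀ x : Un K, x.a = 0 →
      Φ (tr e d x) = d * star e * Φ x := fun d e hd he => by
    obtain ⟨t, ta, ht⟩ := key hs F S T hg h hd he
    have hd' := star_ne_zero.2 hd
    have he' := star_ne_zero.2 he
    have xa' : ∀ x : Un K, x.a = 0 → (tr e d x).a = 0 := fun x xa => by simp [xa]
    have ya : ∀ x : Un K, x.a = 0 → (tr d e (θ x)).a = 0 := fun x xa => by simp [θa x xa]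
    have e1 : ∀ x : Un K, x.a = 0 → θ (tr e d x) = t * tr d e (θ x) * t⁻¹ := fun x xa =>
      (hθ _ (xa' x xa)).2.uniq F.inj (ht x xa _ (hθ x xa).2)
    have tb : t.b = 0 := skew_zero hs fun b => by
      obtain ⟨x, xa, -, xv⟩ := exq hs 0 (-(star d * star e / (d * e ^ 2) * b))
      have yb : (tr d e (θ x)).b = b := by rw [tr_b, θb x xa, xv]; field_simp
      have := θc _ (xa' x xa)
      rw [e1 x xa, cj_c ta, yb, tr_c hd he, tr_z he hd, θc x xa] at this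
      linear_combination this
    have tv : t.v = 0 := skew_zero hs fun v => by
      obtain ⟨x, xa, xb, -⟩ := exq hs (star d * star e / (d ^ 2 * e) * v) 0
      have yv : (tr d e (θ x)).v = v := by rw [tr_v he, θv x xa, xb]; field_simp
      have := θz _ (xa' x xa)
      rw [e1 x xa, cj_z ta (ya x xa), yv, tr_z hd he, tr_c he hd, θz x xa] at this
      linear_combination this
    intro x xa
    rw [hΦ, hΦ, e1 x xa, cj_u ta (ya x xa), tb, tv, tr_u hd he, tr_u he hd, tr_b (x := x), tr_v hd]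
    simp only [star_mul', star_div₀, star_pow, star_star, star_zero]
    field_simp
    ring
  obtain ⟨d, hd, hd3⟩ := exists_cube hs
  have hd' := star_ne_zero.2 hd
  have h1 : d ^ 2 / star d ≠ 0 := by positivity
  have h2 : star d / d ≠ 0 := by positivity
  have z1 : ∀ x : Un K, x.a = 0 → x.v = 0 → Φ x = 0 := fun x xa xv => by
    have e1 := eqv _ _ h2 h1 x xa
    have e2 := add_vb hs hu xa one_a (z := tr (d ^ 2 / star d) (star d / d) x) (by simp [xa])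
      (by
        rw [tr_b]
        simp only [star_div₀, star_pow, star_star, one_b]
        field_simp; ring) (by rw [tr_v h2, xv]; simp)
    rw [add_Y hs hu one_a one_b one_v, add_zero, e1] at e2
    simp only [star_div₀, star_pow, star_star] at e2
    by_contra h0
    apply hd3
    have e3 := mul_right_cancel₀ h0 (e2.trans (one_mul _).symm)
    field_simp at e3
    have e4 := congrArg star e3
    simp only [star_pow, star_star] at e4
    exact e4
  have z2 : ∀ x : Un K, x.a = 0 → x.b = 0 → Φ x = 0 := fun x xa xb => by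
    have e1 := eqv _ _ h1 h2 x xa
    have e2 := add_vb hs hu xa one_a (z := tr (star d / d) (d ^ 2 / star d) x) (by simp [xa])
      (by rw [tr_b, xb]; simp)
      (by
        rw [tr_v h1]
        simp only [star_div₀, star_pow, star_star, one_v]
        field_simp; ring)
    rw [add_Y hs hu one_a one_b one_v, add_zero, e1] at e2
    simp only [star_div₀, star_pow, star_star] at e2
    by_contra h0
    apply hd3
    have e3 := mul_right_cancel₀ h0 (e2.trans (one_mul _).symm)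
    field_simp at e3
    exact e3
  intro x hx y e
  obtain ⟨x1, a1, b1, v1⟩ := exq hs x.b 0
  obtain ⟨x2, a2, b2, v2⟩ := exq hs 0 x.v
  have := add_vb hs hu a1 a2 hx (by rw [b1, b2, add_zero]) (by rw [v1, v2, zero_add])
  rw [z1 x1 a1 v1, z2 x2 a2 b2, hΦ] at this
  rw [e.uniq F.inj (hθ x hx).2]
  linear_combination this

end Lift1

theorem lift1 (hs : ∃ e : K, star e ≠ e) (F : Cf p ι) (S : Std ι) (T : Tor ι) (hg : g ∈ nr ι (Q1 K))
    (h : ∀ x ∈ Q1 K, ∀ y, Cj ι g x y → y.v = x.b ∧ y.b = -x.v) :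
    ∃ n, ∀ x ∈ Q1 K, Cj ι n x (w1 x) := by
  obtain ⟨s, sa, hs1⟩ := Lift1.step1 hs F S T hg h
  have back : ∀ x y, Cj ι (ι s⁻¹ * g) x y → Cj ι g x (s * y * s⁻¹) := fun x y e => by
    simpa using (Cj.self s y).trans e
  have hg' : ι s⁻¹ * g ∈ nr ι (Q1 K) := mul_mem (self_nr fun x _ => comm_a) hg
  have k1 : ∀ x ∈ Q1 K, ∀ y, Cj ι (ι s⁻¹ * g) x y → y.v = x.b ∧ y.b = -x.v := fun x hx y e => by
    have ya : y.a = 0 := e.mem F.inj hg' hx
    obtain ⟨p1, p2⟩ := h x hx _ (back x y e)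
    simp only [mul_v, mul_b, mul_a, inv_b, inv_v, sa, ya] at p1 p2
    exact ⟨by linear_combination p1, by linear_combination p2⟩
  have k2 : ∀ x ∈ Q1 K, ∀ y, Cj ι (ι s⁻¹ * g) x y → y.c = x.z ∧ y.z = x.c := fun x hx y e => by
    simpa [mul_assoc] using hs1 x hx _ (back x y e)
  refine ⟨ι s⁻¹ * g, fun x hx => ?_⟩
  obtain ⟨y, hy, e⟩ := nr_cj hg' hx
  have : y = w1 x := by
    ext
    · rw [w1_a]; exact hy
    · rw [w1_b hx, (k1 x hx y e).2]
    · rw [w1_v hx, (k1 x hx y e).1]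
    · rw [w1_c hx, (k2 x hx y e).1]
    · rw [w1_u hx, Lift1.step2 hs F S T hg' k1 k2 x hx y e]
    · rw [w1_z hx, (k2 x hx y e).2]
  exact this ▸ e

end U5F
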