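import Mathlib
import Cfsg.Agent.Base
import Cfsg.Agent.Lib.U5F.Nr
import Cfsg.Agent.Lib.U5F.Card

/-!
The Weyl element acts on the second radical in the standard way.
-/

set_option autoImplicit false

namespace U5F

open Subgroup H93.SX Un
open scoped commutatorElement

universe u v

variable {K : Type*} {Γ : Type u} [Field K] [StarRing K] [Finite K] [Group Γ] [Finite Γ] {p : ℕ}
  [Fact p.Prime] {ι : Un K →* Γ} {E : Subgroup (Un K)} {g : Γ}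

namespace Lift2

omit [Finite K] [Finite Γ]

theorem exq (hs : ∃ e : K, star e ≠ e) (a v u : K) : ∃ x ∈ Q2 K, x.a = a ∧ x.v = v ∧ x.u = u :=
  let ⟨x, h1, h2, h3, h4, h5⟩ := exists_un hs a 0 v 0 u (by simp)
  ⟨x, ⟨h2, h4⟩, h1, h3, h5⟩

theorem extq {x y : Un K} (hx : x ∈ Q2 K) (hy : y ∈ Q2 K) (a : x.a = y.a) (v : x.v = y.v)
    (u : x.u = y.u) (z : x.z = y.z) : x = y :=
  Un.ext a (hx.1.trans hy.1.symm) v (hx.2.trans hy.2.symm) u z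

theorem divq {x y : Un K} (hx : x ∈ Q2 K) (hy : y ∈ Q2 K) (a : x.a = y.a) (v : x.v = y.v)
    (u : x.u = y.u) : x⁻¹ * y ∈ Z1 K := by
  have h1 := hx.1
  have h2 := hx.2
  have h3 := hy.1
  have h4 := hy.2
  simp [*]

theorem cen {z : Un K} (hz : z ∈ Z1 K) (x : Un K) : x * z = z * x :=
  commutatorElement_eq_one_iff_mul_comm.1 (comm_Z0 x hz)

theorem cjq {t y : Un K} (hy : y ∈ Q2 K) : t * y * t⁻¹ ∈ Q2 K ∧ (t * y * t⁻¹).a = y.a ∧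
    (t * y * t⁻¹).v = y.v - y.a * t.b ∧
    (t * y * t⁻¹).u = y.u - y.a * t.c + y.v * star t.b - y.a * t.b * star t.b := by
  have h3 := hy.1
  have h4 := hy.2
  refine ⟨⟨?_, ?_⟩, ?_, ?_, ?_⟩ <;> simp [*, Un.sc] <;> ring

/-- an automorphism that agrees with `w2` modulo the centre and intertwines the torus elements -/
theorem base (hs : ∃ e : K, star e ≠ e) {n : Γ} (hn : n ∈ nr ι (Q2 K))
    (h : ∀ x ∈ Q2 K, ∀ y, Cj ι n x y → y.a = x.u ∧ y.v = -x.v ∧ y.u = x.a) {H H' : Un K →* Un K}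
    {α β γ : K} (hα : α ≠ 1) (hβ : β ≠ 1) (hγ : γ ≠ 1)
    (e1 : ∀ x ∈ Q2 K, H x ∈ Q2 K ∧ (H x).a = α * x.a ∧ (H x).v = β * x.v ∧ (H x).u = γ * x.u ∧ (H x).z = x.z)
    (e3 : ∀ x ∈ Q2 K, H' x ∈ Q2 K ∧ (H' x).a = γ * x.a ∧ (H' x).v = β * x.v ∧ (H' x).u = α * x.u ∧
      (H' x).z = x.z)
    (k : ∀ x ∈ Q2 K, ∀ y, Cj ι n x y → Cj ι n (H x) (H' y)) : ∀ x ∈ Q2 K, Cj ι n x (w2 x) := by
  have hZ : ∀ z ∈ Z1 K, Cj ι n z (w2 z) := fun z hz => by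
    obtain ⟨k1, k2, k3, k4, k5⟩ := mem_Z1.1 hz
    obtain ⟨w, hw⟩ := exists_sub hs (s := z.z) (by simpa [k1, k3, k5] using z.hz)
    obtain ⟨x1, h1, a1, v1, u1⟩ := exq hs 0 0 1
    obtain ⟨x2, h2, a2, v2, u2⟩ := exq hs w 0 0
    obtain ⟨y1, l1, c1⟩ := nr_cj hn h1
    obtain ⟨y2, l2, c2⟩ := nr_cj hn h2
    obtain ⟨a3, v3, u3⟩ := h x1 h1 y1 c1
    obtain ⟨a4, v4, u4⟩ := h x2 h2 y2 c2
    have m1 := comm_Q2 h1 h2
    have m2 := comm_Q2 l1 l2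
    have f1 : ⁅x1, x2⁆ = z := extq ⟨m1.2.1, m1.2.2.2.1⟩ ⟨k2, k4⟩ (m1.1.trans k1.symm)
      (m1.2.2.1.trans k3.symm) (m1.2.2.2.2.trans k5.symm) (by
        rw [comm_z_Q2 h1 h2, ← hw]; simp [*])
    have f2 : ⁅y1, y2⁆ = w2 z := extq ⟨m2.2.1, m2.2.2.2.1⟩ (w2_mem z) (m2.1.trans k5.symm)
      (m2.2.2.1.trans (by simp [k3])) (m2.2.2.2.2.trans k1.symm) (by
        rw [comm_z_Q2 l1 l2, w2_z, ← hw]; simp [*])
    have := c1.comm c2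
    rwa [f1, f2] at this
  intro x hx
  obtain ⟨y, hy, a1, v1, u1⟩ := exq hs (x.a / (α - 1)) (x.v / (β - 1)) (x.u / (γ - 1))
  obtain ⟨y', hy', c1⟩ := nr_cj hn hy
  obtain ⟨a2, v2, u2⟩ := h y hy y' c1
  obtain ⟨m1, a3, v3, u3, z3⟩ := e1 y hy
  have hx' : H y * y⁻¹ ∈ Q2 K := mul_mem m1 (inv_mem hy)
  have hz : (H y * y⁻¹)⁻¹ * x ∈ Z1 K := by
    have := sub_ne_zero.2 hα
    have := sub_ne_zero.2 hβ
    have := sub_ne_zero.2 hγ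
    have h3 := hy.1
    have h4 := hy.2
    refine divq hx' hx ?_ ?_ ?_ <;> simp [*] <;> field_simp <;> ring
  obtain ⟨ζ, hζ, rfl⟩ : ∃ ζ ∈ Z1 K, y' = w2 y * ζ :=
    ⟨_, divq (w2_mem y) hy' a2.symm v2.symm u2.symm, by group⟩
  have f1 : H' ζ = ζ := by
    obtain ⟨k1, k2, k3, k4, k5⟩ := mem_Z1.1 hζ
    obtain ⟨m, a, v, u, z⟩ := e3 ζ ⟨k2, k4⟩
    exact extq m ⟨k2, k4⟩ (by simp [*]) (by simp [*]) (by simp [*]) z
  have f2 : H' (w2 y) = w2 (H y) := by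
    obtain ⟨m, a, v, u, z⟩ := e3 _ (w2_mem y)
    exact extq m (w2_mem _) (by rw [a, w2_a, w2_a, u3]) (by rw [v, w2_v, w2_v, v3, mul_neg])
      (by rw [u, w2_u, w2_u, a3]) (by rw [z, w2_z, w2_z, z3])
  have f3 : H' (w2 y * ζ) * (w2 y * ζ)⁻¹ = w2 (H y * y⁻¹) := by
    have := w2_mul hx' hy
    rw [inv_mul_cancel_right] at this
    rw [map_mul, f1, f2, this]; group
  have c2 := (k y hy _ c1).mul c1.inv
  have c3 := (f3 ▸ c2).mul (hZ _ hz)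
  rwa [← w2_mul hx' (mul_mem (inv_mem hx') hx), mul_inv_cancel_left] at c3

end Lift2

theorem lift2 (hs : ∃ e : K, star e ≠ e) (F : Cf p ι) (S : Std ι) (T : Tor ι) (hg : g ∈ nr ι (Q2 K))
    (h : ∀ x ∈ Q2 K, ∀ y, Cj ι g x y → y.a = x.u ∧ y.v = -x.v ∧ y.u = x.a) :
    ∃ n, ∀ x ∈ Q2 K, Cj ι n x (w2 x) := by
  obtain ⟨e, he⟩ := id hs
  have e0 : e ≠ 0 := by rintro rfl; simp at he
  have e0' := star_ne_zero.2 e0
  have e1 : e ≠ 1 := by rintro rfl; simp at he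
  have hα : e⁻¹ ≠ 1 := fun h => e1 (inv_eq_one.1 h)
  have hβ : e / star e ≠ 1 := fun h => he ((div_eq_one_iff_eq e0').1 h).symm
  have hγ : star e ≠ 1 := fun h => e1 (by simpa using congrArg star h)
  obtain ⟨k, hk⟩ := T 1 e one_ne_zero e0
  have t1 : ∀ x ∈ Q2 K, tr 1 e x ∈ Q2 K ∧ (tr 1 e x).a = e⁻¹ * x.a ∧ (tr 1 e x).v = e / star e * x.v ∧
      (tr 1 e x).u = star e * x.u ∧ (tr 1 e x).z = x.z := fun x hx =>
    ⟨⟨by rw [tr_b, hx.1, mul_zero], by rw [tr_c one_ne_zero e0, hx.2, mul_zero]⟩, by simp,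
      by simp [tr_v e0], by simp [tr_u one_ne_zero e0], by simp [tr_z one_ne_zero e0]⟩
  have t2 : ∀ y ∈ Q2 K, ∃ y' ∈ Q2 K, Cj ι (g * k * g⁻¹) y y' ∧ y'.a = star e * y.a ∧
      y'.v = e / star e * y.v ∧ y'.u = e⁻¹ * y.u := fun y hy => by
    obtain ⟨x, hx, c1⟩ := nr_cj' hg hy
    obtain ⟨m, a1, v1, u1, -⟩ := t1 x hx
    obtain ⟨y', hy', c2⟩ := nr_cj hg m
    obtain ⟨a2, v2, u2⟩ := h x hx y c1
    obtain ⟨a3, v3, u3⟩ := h _ m y' c2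
    exact ⟨y', hy', (c2.trans (hk x)).trans c1.symm, by rw [a3, u1, a2], by rw [v3, v1, v2, mul_neg],
      by rw [u3, a1, u2]⟩
  obtain ⟨t, l, m, σ, hl, hm, -, hσ⟩ := ext2 hs F S (g := g * k * g⁻¹)
    (mem_nr fun y hy => let ⟨y', h1, h2, _⟩ := t2 y hy; ⟨y', h1, h2⟩)
    (mem_nr fun y hy => by
      obtain ⟨y', h1, h2, h3, h4, -⟩ := t2 y ⟨hy.2.1, hy.2.2.2⟩
      exact ⟨y', ⟨by rw [h3, hy.1, mul_zero], h1.1, by rw [h4, hy.2.2.1, mul_zero], h1.2⟩, h2⟩)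
  have d0 : ∀ y ∈ Q2 K, dl l m σ y ∈ Q2 K := fun y hy =>
    ⟨by rw [dl_b, hy.1, map_zero, mul_zero], by rw [dl_c, hy.2, map_zero, mul_zero]⟩
  have t3 : ∀ a v u : K, l * σ a = star e * a ∧ l * m * σ v - l * σ a * t.b = e / star e * v ∧
      l * m * star m * σ u - l * σ a * t.c + l * m * σ v * star t.b - l * σ a * t.b * star t.b =
        e⁻¹ * u := fun a v u => by
    obtain ⟨y, hy, rfl, rfl, rfl⟩ := Lift2.exq hs a v u
    obtain ⟨y', -, c1, a1, v1, u1⟩ := t2 y hy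
    obtain ⟨-, a2, v2, u2⟩ := Lift2.cjq (t := t) (d0 y hy)
    rw [← c1.uniq F.inj (hσ y hy)] at a2 v2 u2
    exact ⟨a2.symm.trans a1, v2.symm.trans v1, u2.symm.trans u1⟩
  have hl1 : l = star e := by simpa using (t3 1 0 0).1
  have hσ1 : ∀ a, σ a = a := fun a => mul_left_cancel₀ e0' (hl1 ▸ (t3 a 0 0).1)
  have tb : t.b = 0 := by simpa [hl] using (t3 1 0 0).2.1
  have tc : t.c = 0 := by simpa [hl, tb] using (t3 1 0 0).2.2
  have hm1 : l * m = e / star e := by simpa using (t3 0 1 0).2.1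
  have hm2 : l * m * star m = e⁻¹ := by simpa using (t3 0 0 1).2.2
  have t4 : ∀ x ∈ Q2 K, dl l m σ x ∈ Q2 K ∧ (dl l m σ x).a = star e * x.a ∧
      (dl l m σ x).v = e / star e * x.v ∧ (dl l m σ x).u = e⁻¹ * x.u ∧ (dl l m σ x).z = x.z := fun x hx =>
    ⟨d0 x hx, by rw [dl_a, hσ1, hl1], by rw [dl_v, hσ1, hm1], by rw [dl_u, hσ1, hm2], by
      have : star l = e := by rw [hl1, star_star]
      rw [dl_z, hσ1, this, show l * e * m * star m = e * (l * m * star m) by ring, hm2,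
        mul_inv_cancel₀ e0, one_mul]⟩
  obtain ⟨s, hsQ, a1, v1, u1⟩ := Lift2.exq hs (t.a / (1 - star e)) (t.v / (1 - e / star e)) (t.u / (1 - e⁻¹))
  have hz : (t * dl l m σ s)⁻¹ * s ∈ Z1 K := by
    obtain ⟨m1, a2, v2, u2, -⟩ := t4 s hsQ
    have := sub_ne_zero.2 hα.symm
    have := sub_ne_zero.2 hβ.symm
    have := sub_ne_zero.2 hγ.symm
    refine Lift2.divq (mul_mem ⟨tb, tc⟩ m1) hsQ ?_ ?_ ?_
    · rw [mul_a, a2, a1]; field_simp; ring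
    · rw [mul_v, m1.1, v2, v1]; generalize e / star e = r at *; field_simp; ring
    · rw [mul_u, m1.1, m1.2, u2, u1]; generalize e⁻¹ = r at *; field_simp; simp
  have hn : ∀ x y, Cj ι ((ι s)⁻¹ * g) x y ↔ Cj ι g x (s * y * s⁻¹) := fun x y =>
    ⟨fun c => by simpa using (Cj.self s y).trans c, fun c => (Cj.self s y).symm.trans c⟩
  have hsn : ι s ∈ nr ι (Q2 K) := mem_nr fun x hx => ⟨_, (Lift2.cjq hx).1, Cj.self s x⟩
  have hnn := mul_mem (inv_mem hsn) hg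
  refine ⟨(ι s)⁻¹ * g, Lift2.base hs hnn (fun x hx y c => ?_) hα hβ hγ t1
    t4 fun x hx y c => ?_⟩
  · obtain ⟨-, a2, v2, u2⟩ := Lift2.cjq (t := s) (c.mem F.inj hnn hx)
    obtain ⟨a3, v3, u3⟩ := h x hx _ ((hn x y).1 c)
    rw [hsQ.1] at v2 u2
    rw [hsQ.2] at u2
    exact ⟨a2.symm.trans a3, by rw [← v3, v2]; ring, by rw [← u3, u2]; simp⟩
  · have c1 := (hn x y).1 c
    have c2 := (hσ _ (Lift2.cjq (t := s) (c.mem F.inj hnn hx)).1).trans c1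
    have c3 := c2.trans (hk x).symm
    rw [show g * k * g⁻¹ * g * k⁻¹ = g by group] at c3
    refine (hn _ _).2 ?_
    obtain ⟨ζ, hζ, e⟩ : ∃ ζ ∈ Z1 K, s = t * dl l m σ s * ζ := ⟨_, hz, by group⟩
    have : s * dl l m σ y * s⁻¹ = t * dl l m σ (s * y * s⁻¹) * t⁻¹ := by
      rw [map_mul, map_mul, map_inv]
      generalize dl l m σ s = s' at e
      rw [e, mul_assoc _ ζ, ← Lift2.cen hζ]; group
    rwa [this]

end U5F
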