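import Mathlib
import Cfsg.Agent.Base
import Cfsg.Agent.Lib.U5F.Defs

/-!
A maximal-intersection argument for essential subgroups.
-/

set_option autoImplicit false

namespace U5F

open Subgroup H93.SX Un
open scoped commutatorElement

universe u v

open H93.R3 in
theorem lmax {W : Type*} {Γ : Type u} [Group W] [Group Γ] [Finite Γ] {p : ℕ} [Fact p.Prime]
    {ι : W →* Γ} {E J A : Subgroup W} (F : Cf p ι) (h : Es p ι E) (hJ : J ≤ E)
    (hA : ∀ a ∈ A, ∀ x ∈ E, ⁅a, x⁆ ∈ J) (hA' : ¬ A ≤ E) (hc : ∀ a ∈ A, ∀ x ∈ J, ⁅a, x⁆ = 1)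
    (key : ∀ g ∈ nr ι E, ∀ J' : Subgroup W, (∀ y, y ∈ J' ↔ ∃ x ∈ J, Cj ι g x y) → J' ≤ E →
      Nat.card J' = Nat.card J → J' ≠ J → ∃ a ∈ A, a ∉ E ∧ ∃ y ∈ J', y ∉ J ∧ ⁅y, a⁆ ∈ J') :
    False := by
  obtain ⟨M, -, h2, h3, h4⟩ := exists_emb F.pr F.sat h
  have cc : ∀ (g : Γ) (X : Subgroup Γ), Nat.card (cn g X) = Nat.card X := fun g X =>
    card_map_of_injective (MulAut.conj g).injective
  have cA : ∀ a ∈ A, ι a ∈ ch (E.map ι) (J.map ι) ((⊥ : Subgroup W).map ι) ((⊥ : Subgroup W).map ι) :=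
    fun a ha => self_ch hJ bot_le le_rfl (hA a ha) (hc a ha) (fun x hx => by simp [mem_bot.1 hx])
      fun x hx => by simp [mem_bot.1 hx]
  have sA : ∀ a ∈ A, ι a ∈ ι.range ⊓ nr ι E := fun a ha => ⟨⟨a, rfl⟩, ch_le (cA a ha)⟩
  have nE : ∀ {a}, a ∉ E → ι a ∉ E.map ι := fun ha => mt (mem_map_iff_mem F.inj).1 ha
  obtain ⟨g, ⟨hg, gM⟩, mx⟩ := Set.exists_max_image {g | g ∈ nr ι E ∧ g ∉ M}
    (fun g => Nat.card ↥(J.map ι ⊓ cn g (J.map ι))) (Set.toFinite _) (SetLike.not_le_iff_exists.1 h2)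
  have le : cn g (J.map ι) ≤ E.map ι := cn_le (map_mono hJ) hg
  have e := map_comap_eq_self (le.trans (map_le_range ι E))
  obtain ⟨a, ha, aE, y, hy, yJ, ya⟩ := key g hg ((cn g (J.map ι)).comap ι)
    (fun y => ⟨fun hy => let ⟨x, hx, e⟩ := mem_cn.1 hy; ⟨x, hx, by rw [Cj, e]; group⟩,
      fun ⟨x, hx, e⟩ => by rw [mem_comap, ← e]; exact conj_mem_cn ⟨x, hx, rfl⟩⟩)
    (fun y hy => (mem_map_iff_mem F.inj).1 (le hy))
    (by rw [← card_map_of_injective (K := _) F.inj, e, cc, card_map_of_injective F.inj])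
    fun k => by
      obtain ⟨a, ha, aE⟩ := SetLike.not_le_iff_exists.1 hA'
      rw [k] at e
      exact gM (h4 _ (sA a ha) (nE aE) _ (sA a ha) (nE aE) g hg _ ch_le
        (fun x hx => cent_of_ch (F.pm _) (F.pm _) (F.pm _) hx) (cA a ha)
        (conj_mem (norm_ch hg (cn_eq_iff.1 e.symm) nr_bot nr_bot) (cA a ha)))
  refine (mx (g⁻¹ * ι a * g) ⟨conj_mem' (le_normalizer hg) (sA a ha).2,
    fun k => gM (h3 _ (sA a ha) (nE aE) g hg k)⟩).not_gt ?_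
  rw [← cc g (_ ⊓ cn (g⁻¹ * ι a * g) _), cn_inf, cn_cn, show g * (g⁻¹ * ι a * g) = ι a * g by group,
    ← cn_cn]
  refine Set.ncard_lt_ncard (s := ((J.map ι ⊓ cn g (J.map ι) : Subgroup Γ) : Set Γ))
    (t := ((cn g (J.map ι) ⊓ cn (ι a) (cn g (J.map ι)) : Subgroup Γ) : Set Γ)) ⟨?_, fun k => yJ ?_⟩
  · rintro _ ⟨⟨x, hx, rfl⟩, k⟩
    refine ⟨k, ?_⟩
    have := conj_mem_cn (g := ι a) k
    rwa [← map_mul, ← map_inv, ← map_mul, mul_inv_eq_one.1 (hc a ha x hx)] at this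
  · have m : a * y * a⁻¹ ∈ (cn g (J.map ι)).comap ι := by
      rw [show a * y * a⁻¹ = ⁅y, a⁆⁻¹ * y by group]
      exact mul_mem (inv_mem ya) hy
    have m' : a * y * a⁻¹ ∈ J := (mem_map_iff_mem F.inj).1
      (k ⟨m, by
        rw [map_mul, map_mul, map_inv]; exact conj_mem_cn (mem_comap.1 hy)⟩).1
    have := mul_inv_eq_one.1 (hc a ha _ m')
    exact mul_left_cancel (mul_right_cancel this) ▸ m'

end U5F
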