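import Mathlib
import Cfsg.Agent.Base
import Cfsg.Agent.Lib.U5F.Mat

/-!
The normaliser of the unipotent group in the unitary group.
-/

set_option autoImplicit false
set_option maxHeartbeats 3200000

namespace U5F

open Matrix Un
open scoped commutatorElement

universe u v

variable {K : Type*} [Field K] [StarRing K]

theorem Tri.uni {a v u z b c w t r s : K}
    (h : (!![1, a, v, u, z; 0, 1, b, c, w; 0, 0, 1, t, r; 0, 0, 0, 1, s; 0, 0, 0, 0, 1] : Matrix (Fin 5) (Fin 5) K) *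
      JJ K * (!![1, a, v, u, z; 0, 1, b, c, w; 0, 0, 1, t, r; 0, 0, 0, 1, s; 0, 0, 0, 0, 1] :
        Matrix (Fin 5) (Fin 5) K)ᴴ = JJ K) :
    ∃ x : Un K, (!![1, a, v, u, z; 0, 1, b, c, w; 0, 0, 1, t, r; 0, 0, 0, 1, s; 0, 0, 0, 0, 1] :
      Matrix (Fin 5) (Fin 5) K) = mx x := by
  have e00 := congrFun (congrFun h 0) 0
  have e11 := congrFun (congrFun h 1) 1
  have e30 := congrFun (congrFun h 3) 0
  have e21 := congrFun (congrFun h 2) 1
  have e20 := congrFun (congrFun h 2) 0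
  have e10 := congrFun (congrFun h 1) 0
  simp [JJ, Matrix.mul_apply, Fin.sum_univ_five, conjTranspose_apply] at e00 e11 e30 e21 e20 e10
  refine ⟨⟨a, b, v, c, u, z, by linear_combination e11, by linear_combination e00⟩, ?_⟩
  have f1 : s = -star a := by linear_combination e30
  have f2 : t = -star b := by linear_combination e21
  have f3 : r = star a * star b - star v := by rw [f2] at e20; linear_combination e20
  have f4 : w = -star u - c * star a - b * star v := by linear_combination e10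
  rw [mx, f1, f2, f3, f4]

theorem tri_decomp [Finite K] (hs : ∃ e : K, star e ≠ e) {A : Matrix (Fin 5) (Fin 5) K} (hA : A * JJ K * Aᴴ = JJ K)
    (h : ∀ x : Un K, ∃ y : Un K, A * mx x = mx y * A) :
    ∃ (s : Un K) (d e f : K), d ≠ 0 ∧ e ≠ 0 ∧ f * star f = 1 ∧ A = mx s * dg d e f := by
  obtain ⟨c0, hc0⟩ := exists_c hs 1
  obtain ⟨y, hy⟩ := h ⟨1, 0, 0, 0, 0, 0, by simp, by simp⟩
  obtain ⟨y', hy'⟩ := h ⟨0, 1, 0, c0, 0, 0, hc0, by simp⟩
  have a40 : A 4 0 = 0 := by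
    simpa [mx, Matrix.mul_apply, Fin.sum_univ_five] using congrFun (congrFun hy 4) 1
  have a43 : A 4 3 = 0 := by
    simpa [mx, Matrix.mul_apply, Fin.sum_univ_five] using congrFun (congrFun hy 4) 4
  have a41 : A 4 1 = 0 := by
    simpa [mx, Matrix.mul_apply, Fin.sum_univ_five] using congrFun (congrFun hy' 4) 2
  have a42 : A 4 2 = 0 := by
    simpa [mx, Matrix.mul_apply, Fin.sum_univ_five, a41] using congrFun (congrFun hy' 4) 3
  have a30 : A 3 0 = 0 := by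
    simpa [mx, Matrix.mul_apply, Fin.sum_univ_five, a41] using congrFun (congrFun hy 3) 1
  have a31 : A 3 1 = 0 := by
    simpa [mx, Matrix.mul_apply, Fin.sum_univ_five, a42] using congrFun (congrFun hy' 3) 2
  have a32 : A 3 2 = 0 := by
    simpa [mx, Matrix.mul_apply, Fin.sum_univ_five, a43, a31] using congrFun (congrFun hy' 3) 3
  have a20 : A 2 0 = 0 := by
    simpa [mx, Matrix.mul_apply, Fin.sum_univ_five, a41, a31] using congrFun (congrFun hy 2) 1
  have a21 : A 2 1 = 0 := by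
    simpa [mx, Matrix.mul_apply, Fin.sum_univ_five, a42, a32] using congrFun (congrFun hy' 2) 2
  have a10 : A 1 0 = 0 := by
    simpa [mx, Matrix.mul_apply, Fin.sum_univ_five, a41, a31, a21] using congrFun (congrFun hy 1) 1
  have e04 := congrFun (congrFun hA 0) 4
  have e13 := congrFun (congrFun hA 1) 3
  have e22 := congrFun (congrFun hA 2) 2
  simp [JJ, Matrix.mul_apply, Fin.sum_univ_five, conjTranspose_apply, a40, a41, a42, a43, a30, a31, a32, a20,
    a21, a10] at e04 e13 e22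
  have d0 : A 0 0 ≠ 0 := left_ne_zero_of_mul_eq_one e04
  have d1 : A 1 1 ≠ 0 := left_ne_zero_of_mul_eq_one e13
  have d2 : A 2 2 ≠ 0 := left_ne_zero_of_mul_eq_one e22
  have s0 := star_ne_zero.2 d0
  have s1 := star_ne_zero.2 d1
  have a44 : A 4 4 = (star (A 0 0))⁻¹ := eq_inv_of_mul_eq_one_right (by simpa using congrArg star e04)
  have a33 : A 3 3 = (star (A 1 1))⁻¹ := eq_inv_of_mul_eq_one_right (by simpa using congrArg star e13)
  have hB : A * dg (A 0 0)⁻¹ (A 1 1)⁻¹ (A 2 2)⁻¹ =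
      !![1, A 0 1 / A 1 1, A 0 2 / A 2 2, A 0 3 * star (A 1 1), A 0 4 * star (A 0 0);
        0, 1, A 1 2 / A 2 2, A 1 3 * star (A 1 1), A 1 4 * star (A 0 0);
        0, 0, 1, A 2 3 * star (A 1 1), A 2 4 * star (A 0 0); 0, 0, 0, 1, A 3 4 * star (A 0 0); 0, 0, 0, 0, 1] := by
    ext i j
    rw [dg, mul_diagonal]
    fin_cases i <;> fin_cases j <;> simp [div_eq_mul_inv, *]
  have hU := dg_unit (inv_ne_zero d0) (inv_ne_zero d1) (f := (A 2 2)⁻¹) (by
    rw [star_inv₀, ← mul_inv, e22, inv_one])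
  obtain ⟨s, e⟩ := Tri.uni (K := K) (by
    rw [← hB, conjTranspose_mul]
    calc _ = A * (dg (A 0 0)⁻¹ (A 1 1)⁻¹ (A 2 2)⁻¹ * JJ K * (dg (A 0 0)⁻¹ (A 1 1)⁻¹ (A 2 2)⁻¹)ᴴ) * Aᴴ := by
          simp only [Matrix.mul_assoc]
      _ = _ := by rw [hU, hA])
  refine ⟨s, A 0 0, A 1 1, A 2 2, d0, d1, e22, ?_⟩
  rw [← e, ← hB, Matrix.mul_assoc, dg, dg, diagonal_mul_diagonal]
  convert (Matrix.mul_one A).symm
  rw [← diagonal_one]
  congr 1
  funext i
  fin_cases i <;> simp [*]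

theorem exists_n1 : ∃ A : Matrix (Fin 5) (Fin 5) K, A * JJ K * Aᴴ = JJ K ∧ A.det = 1 ∧
    ∀ x ∈ Q1 K, A * mx x = mx (w1 x) * A := by
  refine ⟨!![0, 1, 0, 0, 0; -1, 0, 0, 0, 0; 0, 0, 1, 0, 0; 0, 0, 0, 0, -1; 0, 0, 0, 1, 0], ?_, ?_, fun x hx => ?_⟩
  · ext i j
    fin_cases i <;> fin_cases j <;> simp [JJ, Matrix.mul_apply, Fin.sum_univ_five, conjTranspose_apply]
  · simp [det_succ_row_zero, Fin.sum_univ_succ, Fin.succAbove]
  · have := mem_Q1.1 hx
    ext i j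
    fin_cases i <;> fin_cases j <;>
      simp [mx, Matrix.mul_apply, Fin.sum_univ_five, w1_a, w1_b, w1_v, w1_c, w1_u, w1_z, *] <;> ring

theorem exists_n2 : ∃ A : Matrix (Fin 5) (Fin 5) K, A * JJ K * Aᴴ = JJ K ∧ A.det = 1 ∧
    ∀ x ∈ Q2 K, A * mx x = mx (w2 x) * A := by
  refine ⟨!![1, 0, 0, 0, 0; 0, 0, 0, 1, 0; 0, 0, -1, 0, 0; 0, 1, 0, 0, 0; 0, 0, 0, 0, 1], ?_, ?_, fun x hx => ?_⟩
  · ext i j
    fin_cases i <;> fin_cases j <;> simp [JJ, Matrix.mul_apply, Fin.sum_univ_five, conjTranspose_apply]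
  · simp [det_succ_row_zero, Fin.sum_univ_succ, Fin.succAbove]
  · obtain ⟨h1, h2⟩ := mem_Q2.1 hx
    ext i j
    fin_cases i <;> fin_cases j <;> simp [mx, Matrix.mul_apply, Fin.sum_univ_five, *]

end U5F
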