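import Mathlib
import Cfsg.Agent.Base
import Cfsg.Agent.Lib.Core.Coprime
import Cfsg.Agent.Lib.U5F.Tri
import Cfsg.Agent.Lib.U5F.Nr
import Cfsg.Agent.Lib.U5F.Card

/-!
The finite group that realises the fusion system.
-/

set_option autoImplicit false
set_option maxHeartbeats 400000

namespace U5F

open Subgroup H93.SX Un
open scoped commutatorElement

universe u v

namespace Model

open Matrix

variable {K : Type v} {Γ : Type u} [Field K] [StarRing K] [Group Γ] {ι : Un K →* Γ}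
  {π ρ : Equiv.Perm (Fin 5 → K)} {A B : Matrix (Fin 5) (Fin 5) K} {σ τ : K ≃⋆+* K}

theorem dl_dl (l m l' m' : K) (σ τ : K ≃⋆+* K) (x : Un K) :
    dl l m σ (dl l' m' τ x) = dl (l * σ l') (m * σ m') (τ.trans σ) x := by
  ext <;> simp [star_mul', map_star] <;> ring

theorem dl_one (x : Un K) : dl 1 1 .refl x = x := by ext <;> simp

theorem Dl_mul {l m l' m' : K} (h : Dl ι l m σ) (h' : Dl ι l' m' τ) :
    Dl ι (l * σ l') (m * σ m') (τ.trans σ) :=
  let ⟨g, a⟩ := h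
  let ⟨g', b⟩ := h'
  ⟨g * g', fun x => dl_dl l m l' m' σ τ x ▸ (a _).trans (b x)⟩

theorem Dl_one : Dl ι 1 1 .refl := ⟨1, fun x => by rw [dl_one]; exact Cj.one⟩

/-- The permutation is the semilinear map with the given matrix and field automorphism. -/
def Sl (π : Equiv.Perm (Fin 5 → K)) (A : Matrix (Fin 5) (Fin 5) K) (σ : K ≃⋆+* K) : Prop :=
  ∀ w, π w = A *ᵥ (σ ∘ w)

theorem map_mv (σ : K ≃⋆+* K) (B : Matrix (Fin 5) (Fin 5) K) (w : Fin 5 → K) :
    σ ∘ (B *ᵥ w) = B.map σ *ᵥ (σ ∘ w) := by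
  ext i
  simp [mulVec, dotProduct, map_sum]

theorem Sl.mul (a : Sl π A σ) (b : Sl ρ B τ) : Sl (π * ρ) (A * B.map σ) (τ.trans σ) := fun w => by
  rw [Equiv.Perm.mul_apply, a, b, map_mv, mulVec_mulVec]; rfl

theorem Sl.uniq (a : Sl π A σ) (b : Sl π B τ) : A = B := by
  ext i j
  have k : ∀ σ : K ≃⋆+* K, σ ∘ (Pi.single j 1 : Fin 5 → K) = Pi.single j 1 := fun σ => by
    ext k
    by_cases h : k = j <;> simp [Pi.single_apply, h]
  have := congrFun ((a (Pi.single j 1)).symm.trans (b _)) i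
  simpa [k] using this

theorem Sl.ext (a : Sl π A σ) (b : Sl ρ A σ) : π = ρ := Equiv.ext fun w => (a w).trans (b w).symm

theorem exists_sl [Finite K] (hA : A * JJ K * Aᴴ = JJ K) (σ : K ≃⋆+* K) : ∃ π, Sl π A σ := by
  have e : JJ K * Aᴴ * JJ K * A = 1 := mul_eq_one_comm.1 (by
    rw [← Matrix.mul_assoc, ← Matrix.mul_assoc, hA, JJ_mul])
  refine ⟨Equiv.ofBijective (fun w => A *ᵥ (σ ∘ w)) (Finite.injective_iff_bijective.1 fun w w' h => ?_),
    fun _ => rfl⟩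
  have := congrArg ((JJ K * Aᴴ * JJ K) *ᵥ ·) h
  simp only [mulVec_mulVec, e, one_mulVec] at this
  exact funext fun i => EquivLike.injective σ (congrFun this i)

variable (K) in
/-- The natural action of the unipotent group. -/
def ps : Un K →* Equiv.Perm (Fin 5 → K) := MonoidHom.toHomPerm
  { toFun := fun x w => mx x *ᵥ w
    map_one' := funext fun w => by rw [mx_one, one_mulVec]; rfl
    map_mul' := fun x y => funext fun w => by rw [mx_mul, ← mulVec_mulVec]; rfl }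

theorem sl_ps (x : Un K) : Sl (ps K x) (mx x) .refl := fun _ => rfl

theorem Sl.cj (a : Sl π A σ) {x y : Un K} :
    Cj (ps K) π x y ↔ A * mx (dl 1 1 σ x) = mx y * A := by
  have e1 : Sl (π * ps K x) (A * mx (dl 1 1 σ x)) σ := mx_map σ x ▸ a.mul (sl_ps x)
  have e2 : Sl (ps K y * π) (mx y * A) σ := (sl_ps y).mul a
  rw [Cj, mul_inv_eq_iff_eq_mul]
  exact ⟨fun h => e1.uniq (h ▸ e2), fun h => e1.ext (h ▸ e2)⟩

theorem Sl.dg {d e f : K} (a : Sl π (dg d e f) σ) (hd : d ≠ 0) (he : e ≠ 0) (hf : f * star f = 1)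
    (x : Un K) : Cj (ps K) π x (dl (d / e) (e / f) σ x) := by
  rw [a.cj, dg_mx hd he hf, dl_dl]
  simp only [StarRingEquiv.coe_refl, id, mul_one]
  rfl

theorem det_dg (d e f : K) : (dg d e f).det = d * e * f * (star e)⁻¹ * (star d)⁻¹ := by
  simp [dg, det_diagonal, Fin.prod_univ_five]

theorem unit_map (hB : B * JJ K * Bᴴ = JJ K) (σ : K ≃⋆+* K) :
    B.map σ * JJ K * (B.map σ)ᴴ = JJ K := by
  have e : (JJ K).map σ = JJ K := by
    ext i j; fin_cases i <;> fin_cases j <;> simp [JJ]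
  have e' : (Bᴴ).map σ = (B.map σ)ᴴ := by
    ext i j; simp [conjTranspose_apply, map_star]
  have := congrArg (·.map σ) hB
  simp only [Matrix.map_mul (f := σ), e, e'] at this
  exact this

theorem det_map' (B : Matrix (Fin 5) (Fin 5) K) (σ : K ≃⋆+* K) : (B.map σ).det = σ B.det :=
  (RingHom.map_det (σ.toRingEquiv : K →+* K) B).symm

variable [Finite K]

variable (ι) in
/-- The model group. -/
def GG : Subgroup (Equiv.Perm (Fin 5 → K)) :=
  let M : Submonoid (Equiv.Perm (Fin 5 → K)) :=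
    { carrier := {π | ∃ (A : Matrix (Fin 5) (Fin 5) K) (σ : K ≃⋆+* K) (l m : K), Sl π A σ ∧
        A * JJ K * Aᴴ = JJ K ∧ l ≠ 0 ∧ m ≠ 0 ∧ Dl ι l m σ ∧
        A.det * (star l * star m ^ 2) = l * m ^ 2}
      one_mem' := ⟨1, .refl, 1, 1, fun w => (one_mulVec w).symm, by simp, one_ne_zero, one_ne_zero,
        Dl_one, by simp⟩
      mul_mem' := by
        rintro π ρ ⟨A, σ, l, m, a1, a2, a3, a4, a5, a6⟩ ⟨B, τ, l', m', b1, b2, b3, b4, b5, b6⟩
        refine ⟨_, _, _, _, a1.mul b1, ?_, mul_ne_zero a3 (by simpa using b3),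
          mul_ne_zero a4 (by simpa using b4), Dl_mul a5 b5, ?_⟩
        · rw [conjTranspose_mul, show A * B.map σ * JJ K * ((B.map σ)ᴴ * Aᴴ) =
            A * (B.map σ * JJ K * (B.map σ)ᴴ) * Aᴴ by simp only [Matrix.mul_assoc], unit_map b2, a2]
        · have := congrArg σ b6
          simp only [map_mul, map_pow, map_star] at this
          rw [det_mul, det_map', star_mul', star_mul']
          linear_combination (σ B.det * star (σ l') * star (σ m') ^ 2) * a6 + (l * m ^ 2) * this }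
  { M with
    inv_mem' := fun {x} hx => by
      obtain ⟨n, e⟩ := (mem_powers_iff_mem_zpowers (x := x) (y := x⁻¹)).2 (inv_mem (mem_zpowers x))
      exact e ▸ M.pow_mem hx n }

theorem mem_GG : π ∈ GG ι ↔ ∃ (A : Matrix (Fin 5) (Fin 5) K) (σ : K ≃⋆+* K) (l m : K), Sl π A σ ∧
    A * JJ K * Aᴴ = JJ K ∧ l ≠ 0 ∧ m ≠ 0 ∧ Dl ι l m σ ∧ A.det * (star l * star m ^ 2) = l * m ^ 2 :=
  Iff.rfl

theorem mem_one (a : Sl π A .refl) (hA : A * JJ K * Aᴴ = JJ K) (h : A.det = 1) : π ∈ GG ι :=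
  mem_GG.2 ⟨A, _, 1, 1, a, hA, one_ne_zero, one_ne_zero, Dl_one, by simp [h]⟩

variable (ι) in
/-- The embedding into the model group. -/
def psi : Un K →* GG ι := (ps K).codRestrict _ fun x => mem_one (sl_ps x) (mx_unit x) (mx_det x)

theorem cj_psi {g : GG ι} {x y : Un K} : Cj (psi ι) g x y ↔ Cj (ps K) g x y := Subtype.ext_iff

theorem psi_inj : Function.Injective (psi ι) := fun x y h =>
  have e : ps K x = ps K y := congrArg Subtype.val h
  mx_inj ((sl_ps x).uniq (e ▸ sl_ps y))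

theorem weyl {E : Subgroup (Un K)} {w : Un K → Un K} (h : ∃ A : Matrix (Fin 5) (Fin 5) K,
    A * JJ K * Aᴴ = JJ K ∧ A.det = 1 ∧ ∀ x ∈ E, A * mx x = mx (w x) * A) :
    ∃ n, ∀ x ∈ E, Cj (psi ι) n x (w x) := by
  obtain ⟨A, h1, h2, h3⟩ := h
  obtain ⟨π, a⟩ := exists_sl h1 .refl
  exact ⟨⟨π, mem_one a h1 h2⟩, fun x hx => cj_psi.2 (a.cj.2 (by rw [dl_one]; exact h3 x hx))⟩

theorem Dl_psi {l m : K} (hl : l ≠ 0) (hm : m ≠ 0) (h : Dl ι l m σ) : Dl (psi ι) l m σ := by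
  have f : (1 : K) * star 1 = 1 := by simp
  have u := dg_unit (mul_ne_zero hl hm) hm f
  obtain ⟨π, a⟩ := exists_sl u σ
  refine ⟨⟨π, mem_GG.2 ⟨_, σ, l, m, a, u, hl, hm, h, ?_⟩⟩, fun x => cj_psi.2 ?_⟩
  · have := star_ne_zero.2 hl
    have := star_ne_zero.2 hm
    rw [det_dg, star_mul']
    field_simp
  · have := a.dg (mul_ne_zero hl hm) hm f x
    rwa [mul_div_cancel_right₀ _ hm, div_one] at this

theorem decomp (hs : ∃ e : K, star e ≠ e) (T : Tor ι) {g : GG ι} (hg : g ∈ nr (psi ι) ⊤) :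
    ∃ (s : Un K) (d e f : K) (σ : K ≃⋆+* K), d ≠ 0 ∧ e ≠ 0 ∧ f * star f = 1 ∧
      Dl ι (d / e) (e / f) σ ∧ Sl ((psi ι s)⁻¹ * g : GG ι) (dg d e f) σ := by
  obtain ⟨A, σ, l, m, a1, a2, a3, a4, a5, a6⟩ := mem_GG.1 g.2
  obtain ⟨s, d, e, f, hd, he, hf, rfl⟩ := tri_decomp hs a2 fun x => by
    obtain ⟨y, -, h⟩ := nr_cj hg (mem_top (dl 1 1 σ.symm x))
    refine ⟨y, ?_⟩
    rw [← a1.cj.1 (cj_psi.1 h)]
    congr 2
    ext <;> simp
  refine ⟨s, d, e, f, σ, hd, he, hf, ?_, ?_⟩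
  · have f0 : f ≠ 0 := left_ne_zero_of_mul_eq_one hf
    have := star_ne_zero.2 hd
    have := star_ne_zero.2 he
    have := star_ne_zero.2 a3
    have := star_ne_zero.2 a4
    have h := Dl_mul (T (d / (l * m)) (e / m) (div_ne_zero hd (mul_ne_zero a3 a4)) (div_ne_zero he a4)) a5
    rw [det_mul, mx_det, det_dg, one_mul] at a6
    convert h using 1
    · simp only [StarRingEquiv.coe_refl, id]
      field_simp
    · simp only [StarRingEquiv.coe_refl, id, star_div₀, star_mul']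
      field_simp at a6 ⊢
      linear_combination -a6
    · rfl
  · have := (sl_ps s⁻¹).mul a1
    rw [show (mx s * dg d e f).map (StarRingEquiv.refl : K ≃⋆+* K) = mx s * dg d e f from rfl,
      ← Matrix.mul_assoc, ← mx_mul, inv_mul_cancel, mx_one, Matrix.one_mul, map_inv] at this
    exact this

theorem std' (hs : ∃ e : K, star e ≠ e) (T : Tor ι) {g : GG ι} (hg : g ∈ nr (psi ι) ⊤) :
    ∃ t l m σ, l ≠ 0 ∧ m ≠ 0 ∧ Dl ι l m σ ∧ ∀ x, Cj (psi ι) g x (t * dl l m σ x * t⁻¹) := by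
  obtain ⟨s, d, e, f, σ, hd, he, hf, h, a⟩ := decomp hs T hg
  refine ⟨s, _, _, σ, div_ne_zero hd he, div_ne_zero he (left_ne_zero_of_mul_eq_one hf), h, fun x => ?_⟩
  have := (Cj.self s _).trans (cj_psi.2 (a.dg hd he hf x))
  rwa [mul_inv_cancel_left] at this

theorem Dl_of (hs : ∃ e : K, star e ≠ e) (T : Tor ι) {l m : K} (hl : l ≠ 0)
    (h : Dl (psi ι) l m σ) : Dl ι l m σ := by
  obtain ⟨g, a⟩ := h
  obtain ⟨t, l', m', τ, -, -, h, b⟩ := std' hs T (mem_nr fun x _ => ⟨_, mem_top _, a x⟩)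
  have k : ∀ y : K, l * σ y = l' * τ y ∧ m * σ y = m' * τ y := fun y => by
    obtain ⟨c, hc⟩ := exists_c hs y
    obtain ⟨x, e1, e2, -⟩ := exists_un hs y y 0 c 0 hc
    have e := (a x).uniq psi_inj (b x)
    have ea := congrArg Un.a e
    have eb := congrArg Un.b e
    simp only [mul_a, mul_b, inv_a, inv_b, dl_a, dl_b, e1, e2] at ea eb
    exact ⟨by linear_combination ea, by linear_combination eb⟩
  obtain ⟨e1, e2⟩ := k 1
  simp only [map_one, mul_one] at e1 e2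
  subst e1 e2
  obtain rfl : σ = τ := StarRingEquiv.ext fun y => mul_left_cancel₀ hl (k y).1
  exact h

theorem syl [Finite Γ] {p : ℕ} [Fact p.Prime] [CharP K p] (hs : ∃ e : K, star e ≠ e) (F : Cf p ι)
    (T : Tor ι) : ∃ P : Sylow p (GG ι), (P : Subgroup (GG ι)) = (psi ι).range := by
  refine ⟨⟨(psi ι).range, F.pg.of_surjective _ (psi ι).rangeRestrict_surjective, fun {Q} hQ le => ?_⟩, rfl⟩
  refine le_antisymm (H2.le_of_normalizer_inf_le hQ.isNilpotent le fun g hg => ?_) le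
  obtain ⟨s, d, e, f, σ, hd, he, hf, h, a⟩ := decomp hs T (nr_top (ι := psi ι) ▸ hg.2)
  have f0 : f ≠ 0 := left_ne_zero_of_mul_eq_one hf
  obtain ⟨k, hk⟩ := hQ ⟨_, mul_mem (inv_mem (le ⟨s, rfl⟩)) hg.1⟩
  replace hk : ((psi ι s)⁻¹ * g) ^ p ^ k = 1 := congrArg Subtype.val hk
  generalize hh : (psi ι s)⁻¹ * g = π at a hk
  have c : ∀ n x, Cj (psi ι) (π ^ n) x ((dl (d / e) (e / f) σ)^[n] x) := fun n x => by
    induction n with
    | zero => rw [pow_zero]; exact Cj.one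
    | succ n ih =>
      rw [pow_succ', Function.iterate_succ_apply']
      exact (cj_psi.2 (a.dg hd he hf _)).trans ih
  obtain ⟨e1, e2, e3⟩ := dl_triv hs F h k fun x => (c _ x).uniq psi_inj (hk ▸ Cj.one)
  obtain rfl : d = e := (div_eq_one_iff_eq he).1 e1
  obtain rfl : d = f := (div_eq_one_iff_eq f0).1 e2
  have e4 : (star d)⁻¹ = d := (eq_inv_of_mul_eq_one_left hf).symm
  have b : ∀ w, (π : Equiv.Perm (Fin 5 → K)) w = d • w := fun w => by
    rw [a w]
    ext i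
    rw [dg, mulVec_diagonal, e4]
    fin_cases i <;> simp [e3]
  have b' : ∀ n w, ((π ^ n : GG ι) : Equiv.Perm (Fin 5 → K)) w = d ^ n • w := fun n w => by
    induction n with
    | zero => simp
    | succ n ih => rw [pow_succ', coe_mul, Equiv.Perm.mul_apply, ih, b, smul_smul, pow_succ']
  have e5 : d = 1 := by
    have := congrFun (b' (p ^ k) 1) 0
    rw [hk] at this
    have h1 : d ^ (p ^ k * 1) = 1 := by simpa using this.symm
    simpa using (ExpChar.pow_prime_pow_mul_eq_one_iff p k 1 d).1 h1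
  have e6 : π = 1 := Subtype.ext (Equiv.ext fun w => by rw [b, e5, one_smul]; rfl)
  exact ⟨s, inv_mul_eq_one.1 (hh.trans e6)⟩

end Model

theorem exists_model {K : Type v} {Γ : Type u} [Field K] [StarRing K] [Finite K] [Group Γ] [Finite Γ]
    {p : ℕ} [Fact p.Prime] [CharP K p] {ι : Un K →* Γ} (hs : ∃ e : K, star e ≠ e) (F : Cf p ι)
    (T : Tor ι) : ∃ (G : Type v) (_ : Group G) (_ : Finite G) (ψ : Un K →* G),
      Function.Injective ψ ∧ (∃ P : Sylow p G, (P : Subgroup G) = ψ.range) ∧ Std ψ ∧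
      (∀ l m σ, l ≠ 0 → m ≠ 0 → (Dl ψ l m σ ↔ Dl ι l m σ)) ∧
      (∃ n, ∀ x ∈ Q1 K, Cj ψ n x (w1 x)) ∧ ∃ n, ∀ x ∈ Q2 K, Cj ψ n x (w2 x) :=
  ⟨Model.GG ι, inferInstance, inferInstance, Model.psi ι, Model.psi_inj, Model.syl hs F T,
    fun _ hg => let ⟨t, l, m, σ, hl, hm, _, h⟩ := Model.std' hs T hg; ⟨t, l, m, σ, hl, hm, h⟩,
    fun _ _ _ hl hm => ⟨Model.Dl_of hs T hl, Model.Dl_psi hl hm⟩, Model.weyl exists_n1,
    Model.weyl exists_n2⟩

end U5F
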