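import Mathlib
import Cfsg.Agent.Base
import Cfsg.Agent.Lib.U5F.Card
import Cfsg.Agent.Lib.U5F.Lmax

/-!
Essential subgroups inside the first radical.
-/

set_option autoImplicit false

namespace U5F

open Subgroup H93.SX Un
open scoped commutatorElement

universe u v

namespace T1

theorem idx_le {G S : Type*} [Group G] [Finite S] (H : Subgroup G) (f : G → S)
    (h : ∀ x y, f x = f y → x⁻¹ * y ∈ H) : H.index ≤ Nat.card S :=
  Nat.card_le_card_of_injective (fun q : G ⧸ H => f q.out) fun a b e => by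
    rw [← a.out_eq, ← b.out_eq]; exact QuotientGroup.eq.2 (h _ _ e)

theorem card_rel {G : Type*} [Group G] {A B : Subgroup G} (h : A ≤ B) :
    Nat.card B = Nat.card A * (A.subgroupOf B).index := by
  rw [← (A.subgroupOf B).card_mul_index, Nat.card_congr (subgroupOfEquivOfLe h).toEquiv]

variable {K : Type*} [Field K] [StarRing K] [Finite K] {E : Subgroup (Un K)}

theorem card_le (hs : ∃ e : K, star e ≠ e) (hE : E ≤ Q1 K) (hY : Yc K ≤ E) {w : Un K} (hw : w ∈ E)
    (w0 : w ∉ Yc K) (c : ∀ x ∈ E, ⁅x, w⁆ = 1) : Nat.card E ≤ qq K ^ 5 := by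
  have wa : w.a = 0 := hE hw
  have xa : ∀ x : E, x.1.a = 0 := fun x => hE x.2
  have e1 : ∀ x : E, w.b * star x.1.b = x.1.b * star w.b := fun x => by
    have := (eq_one.1 (c x x.2)).2.2.2.1
    rw [comm_c] at this
    linear_combination this
  have e2 : ∀ x : E, w.v * star x.1.b = x.1.v * star w.b := fun x => by
    have := (eq_one.1 (c x x.2)).2.2.2.2.1
    rw [comm_u, wa, xa] at this
    linear_combination this
  have e3 : ∀ x : E, w.v * star x.1.v = x.1.v * star w.v := fun x => by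
    have := (eq_one.1 (c x x.2)).2.2.2.2.2
    rw [comm_z_Q1 (hE x.2) (hE hw)] at this
    linear_combination this
  have m : ∀ x y : E, x.1.b = y.1.b → x.1.v = y.1.v → x⁻¹ * y ∈ (Yc K).subgroupOf E := fun x y h1 h2 => by
    simp [mem_subgroupOf, xa, h1, h2]
  rw [card_rel hY, card_Yc hs, pow_succ _ 4]
  refine Nat.mul_le_mul_left _ ?_
  by_cases hb : w.b = 0
  · have hv : w.v ≠ 0 := fun h => w0 ⟨wa, hb, h⟩
    have xb : ∀ x : E, x.1.b = 0 := fun x => by simpa [hb, hv] using e2 x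
    exact idx_le _ (fun x => (⟨x.1.v * star w.v, by rw [star_mul', star_star, mul_comm, e3]⟩ : {k : K // star k = k}))
      fun x y h => m x y (by rw [xb, xb]) (mul_right_cancel₀ (star_ne_zero.2 hv) (congrArg Subtype.val h))
  · exact idx_le _ (fun x => (⟨x.1.b * star w.b, by rw [star_mul', star_star, mul_comm, e1]⟩ : {k : K // star k = k}))
      fun x y h => by
        have h1 := mul_right_cancel₀ (star_ne_zero.2 hb) (congrArg Subtype.val h)
        exact m x y h1 (mul_right_cancel₀ (star_ne_zero.2 hb) (by rw [← e2, ← e2, h1]))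

end T1

variable {K : Type*} {Γ : Type u} [Field K] [StarRing K] [Finite K] [Group Γ] [Finite Γ] {p : ℕ}
  [Fact p.Prime] {ι : Un K →* Γ} {E : Subgroup (Un K)} {g : Γ}

theorem es_Q1 (hs : ∃ e : K, star e ≠ e) (F : Cf p ι) (h : Es p ι E) (hE : E ≤ Q1 K) : E = Q1 K := by
  have sw : ∀ {a b : Un K}, ⁅a, b⁆ = 1 → ⁅b, a⁆ = 1 := fun e => by rw [← commutatorElement_inv, e, inv_one]
  have hY : Yc K ≤ E := fun y hy => h.cent F fun x hx => sw (comm_Y0 (hE hx) hy)
  refine le_antisymm hE (by_contra fun hn => ?_)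
  by_cases hz : ∀ w ∈ E, (∀ x ∈ E, ⁅w, x⁆ = 1) → w ∈ Yc K
  · exact hn fun t ht => h.chain F (A := Yc K) (B := ⊥) (C := ⊥)
      (fun g hg => nr_cent F.inj hg hg fun x =>
        ⟨fun hx => ⟨hY hx, fun y hy => sw (comm_Y0 (hE hy) hx)⟩, fun hx => hz x hx.1 hx.2⟩)
      (fun _ _ => nr_bot) (fun _ _ => nr_bot) (self_ch hY bot_le le_rfl (fun x hx => comm_Y ht (hE hx))
        (fun x hx => mem_bot.2 (comm_Y0 ht hx)) (fun x hx => by simp [mem_bot.1 hx])
        fun x hx => by simp [mem_bot.1 hx])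
  push Not at hz
  obtain ⟨w, hw, c, w0⟩ := hz
  have cE := T1.card_le hs hE hY hw w0 fun x hx => sw (c x hx)
  refine lmax F h hY (fun a ha x hx => comm_Y ha (hE hx)) hn (fun a ha x hx => comm_Y0 ha hx)
    fun g _ J _ JE cJ ne => ?_
  obtain ⟨y, hy, y0⟩ : ∃ y ∈ J, y ∉ Yc K := by
    by_contra! k
    exact ne (eq_of_le_of_card_ge k cJ.ge)
  by_contra! k
  have yQ := hE (JE hy)
  have i1 : (E.subgroupOf (Q1 K)).index ≤ (J.subgroupOf E).index :=
    T1.idx_le _ (fun a => ((⟨⁅y, a.1⁆, hY (comm_Y yQ a.2)⟩ : E) : E ⧸ J.subgroupOf E)) fun a b e => by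
      have e1 : ⁅y, a.1⁆⁻¹ * ⁅y, b.1⁆ ∈ J := (QuotientGroup.eq.1 e :)
      have e2 := commutatorElement_eq_one_iff_mul_comm.1
        (comm_Y0 a.2 (mul_mem (inv_mem (comm_Y yQ a.2)) (comm_Y yQ b.2)))
      have e3 : ⁅y, a.1⁻¹ * b.1⁆ = ⁅y, a.1⁆⁻¹ * ⁅y, b.1⁆ := by
        calc _ = a.1⁻¹ * (⁅y, a.1⁆⁻¹ * ⁅y, b.1⁆ * a.1) := by simp only [commutatorElement_def]; group
          _ = _ := by rw [← e2, inv_mul_cancel_left]
      by_contra n
      exact k _ (mul_mem (inv_mem a.2) b.2) n y hy y0 (e3 ▸ e1)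
  have c1 := T1.card_rel hE
  have c2 := T1.card_rel JE
  rw [card_Q1 hs] at c1
  rw [cJ, card_Yc hs] at c2
  have q1 := one_lt_qq (K := K)
  have i2 : (J.subgroupOf E).index ≤ qq K :=
    Nat.le_of_mul_le_mul_left (by rw [← c2, ← pow_succ]; exact cE) (Nat.pow_pos (n := 4) (by omega))
  have := c1.le.trans (Nat.mul_le_mul cE (i1.trans i2))
  rw [← pow_succ] at this
  exact absurd ((Nat.pow_le_pow_iff_right q1).1 this) (by norm_num)

end U5F
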