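import Mathlib
import Cfsg.Agent.Base
import Cfsg.Agent.Lib.U5F.Card
import Cfsg.Agent.Lib.U5F.Lmax

/-!
An essential subgroup has no central element outside the two radicals.
-/

set_option autoImplicit false

namespace U5F

open Subgroup H93.SX Un
open scoped commutatorElement

universe u v

variable {K : Type*} {Γ : Type u} [Field K] [StarRing K] [Finite K] [Group Γ] [Finite Γ] {p : ℕ}
  [Fact p.Prime] {ι : Un K →* Γ} {E : Subgroup (Un K)} {g : Γ}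

namespace T2c

omit [Finite K] in
theorem exC (a c : K) : ∃ C : Subgroup (Un K), ∀ x, x ∈ C ↔ x.b = 0 ∧ x.a * c = a * x.c :=
  ⟨{ carrier := {x | x.b = 0 ∧ x.a * c = a * x.c}
     one_mem' := by simp
     mul_mem' := fun {x y} hx hy => ⟨by simp [hx.1, hy.1], by
       rw [mul_a, mul_c, hx.1]; linear_combination hx.2 + hy.2⟩
     inv_mem' := fun {x} hx => ⟨by simp [hx.1], by
       rw [inv_a, inv_c, x.sc, hx.1]; linear_combination -hx.2⟩ }, fun _ => Iff.rfl⟩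

omit [Finite K] in
theorem exR (hs : ∃ e : K, star e ≠ e) {y : Un K} (ha : y.a ≠ 0) (hb : y.b = 0) (v : K) :
    ∃ x ∈ Rr K, x.v = v ∧ ⁅y, x⁆ = 1 := by
  have ha' := star_ne_zero.2 ha
  obtain ⟨x, x1, x2, x3, x4, x5⟩ := exists_un hs 0 0 v 0 (-(v * star y.v) / star y.a) (by simp)
  refine ⟨x, ⟨x1, x2, x4⟩, x3, eq_one.2 ⟨comm_a, comm_b, by simp [x1, x2], by simp [x2, hb],
    by simp [x1, x2, x4, hb], ?_⟩⟩
  simp only [comm_z, comm_u, comm_v, mul_z, mul_a, mul_b, mul_v, x1, x2, x3, x4, x5, hb, star_zero,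
    star_div₀, star_neg, star_mul', star_star]
  field_simp
  ring

end T2c

theorem t2c (hs : ∃ e : K, star e ≠ e) (F : Cf p ι) (h : Es p ι E) {y : Un K} (hy : y ∈ E)
    (hc : ∀ x ∈ E, ⁅y, x⁆ = 1) (ha : y.a ≠ 0) (hb : y.b = 0) (hc' : y.c ≠ 0) : False := by
  obtain ⟨C, hC⟩ := T2c.exC y.a y.c
  have EC : E ≤ C := fun x hx => by
    have h1 := congrArg Un.v (hc x hx)
    have h2 := congrArg Un.u (hc x hx)
    have h3 : x.b = 0 := by simpa [hb, ha] using h1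
    rw [comm_u, hb, h3, one_u, star_zero] at h2
    exact (hC x).2 ⟨h3, by linear_combination -h2⟩
  have CC : ∀ x ∈ C, ∀ x' ∈ C, ⁅x, x'⁆ ∈ Z1 K := fun x hx x' hx' => by
    obtain ⟨h1, h2⟩ := (hC x).1 hx
    obtain ⟨h3, h4⟩ := (hC x').1 hx'
    have : x.a * x'.c - x'.a * x.c = 0 := mul_left_cancel₀ hc' (by
      linear_combination x'.c * h2 - x.c * h4)
    simp [h1, h3, this]
  obtain ⟨e, he⟩ := id hs
  obtain ⟨w, w1, w2, w3, w4, w5⟩ := exists_un hs 0 0 0 0 (e * y.a) (by simp)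
  have wC : w ∈ C := (hC w).2 ⟨w2, by simp [w1, w4]⟩
  have wE : w ∉ E := fun k => he (by
    have := congrArg Un.z (hc w k)
    rw [comm_z2 y ⟨w1, w2, w3, w4⟩, w5, star_mul', one_z] at this
    exact mul_left_cancel₀ (mul_ne_zero ha (star_ne_zero.2 ha)) (by linear_combination -this))
  have z0 : ∀ x ∈ Z1 K, ∀ t : Un K, ⁅x, t⁆ = 1 := fun x hx t => by
    rw [← commutatorElement_inv, comm_Z0 t hx, inv_one]
  refine lmax (J := Z1 K) (A := C) F h (fun x hx => h.cent F fun t _ => z0 x hx t)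
    (fun a k x hx => CC a k x (EC hx)) (fun k => wE (k wC)) (fun a _ x hx => comm_Z0 a hx)
    fun g hg J hJ JE cJ ne => ?_
  obtain ⟨x, xJ, xZ⟩ := SetLike.not_le_iff_exists.1 fun k : J ≤ Z1 K => ne (eq_of_le_of_card_ge k cJ.ge)
  obtain ⟨x1, x2⟩ := (hC x).1 (EC (JE xJ))
  by_cases xa : x.a = 0
  · exact ⟨w, wC, wE, x, xJ, xZ, by rw [comm_Y0 xa ⟨w1, w2, w3⟩]; exact one_mem _⟩
  by_contra n
  have k : ∀ v, ∃ r ∈ E, r ∈ Rr K ∧ r.v = v := fun v => by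
    obtain ⟨r, r1, r2, r3⟩ := T2c.exR hs xa x1 v
    refine ⟨r, by_contra fun m => n ⟨r, (hC r).2 ⟨r1.2.1, by simp [r1.1, r1.2.2]⟩, m, x, xJ, xZ, ?_⟩, r1, r2⟩
    rw [r3]; exact one_mem _
  obtain ⟨z, ⟨z1, z2, z3, z4, z5⟩, e'⟩ := (hJ x).1 xJ
  obtain ⟨ω, hω⟩ := exists_sub hs (s := z.z) (by simpa [z1, z3, z5] using z.hz)
  obtain ⟨r, r1, r2, r3⟩ := k 1
  obtain ⟨s, s1, s2, s3⟩ := k ω
  have c := CC r (EC r1) s (EC s1)
  have : z = ⁅r, s⁆ := Un.ext (z1.trans c.1.symm) (z2.trans c.2.1.symm) (z3.trans c.2.2.1.symm)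
    (z4.trans c.2.2.2.1.symm) (z5.trans c.2.2.2.2.symm) (by
      rw [comm_z_Q1 r2.1 s2.1, r3, s3, ← hω]; simp)
  obtain ⟨r', k1, k2⟩ := nr_cj hg r1
  obtain ⟨s', k3, k4⟩ := nr_cj hg s1
  exact xZ ((this ▸ e').uniq F.inj (k2.comm k4) ▸ CC r' (EC k1) s' (EC k3))

end U5F
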