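import Mathlib
import Cfsg.Agent.Base
import Cfsg.Agent.Lib.U5F.Card
import Cfsg.Agent.Lib.U5F.Lmax

/-!
An essential subgroup has no regular central element.
-/

set_option autoImplicit false

namespace U5F

open Subgroup H93.SX Un
open scoped commutatorElement

universe u v

variable {K : Type*} {Γ : Type u} [Field K] [StarRing K] [Finite K] [Group Γ] [Finite Γ] {p : ℕ}
  [Fact p.Prime] {ι : Un K →* Γ} {E : Subgroup (Un K)} {g : Γ}

omit [Finite K] in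
theorem T2r.exJ (a : K) : ∃ J : Subgroup (Un K), ∀ x, x ∈ J ↔ x ∈ Z2 K ∧ x.u * star a = a * star x.u :=
  ⟨{ carrier := {x | x ∈ Z2 K ∧ x.u * star a = a * star x.u}
     one_mem' := ⟨one_mem _, by simp⟩
     mul_mem' := fun {x y} hx hy => ⟨mul_mem hx.1 hy.1, by
       simp only [mul_u, hx.1.1, hx.1.2.2.1, zero_mul, add_zero, sub_zero, star_add]
       linear_combination hx.2 + hy.2⟩
     inv_mem' := fun {x} hx => ⟨inv_mem hx.1, by
       simp only [inv_u, hx.1.1, hx.1.2.2.1, zero_mul, sub_zero, star_neg]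
       linear_combination -hx.2⟩ }, fun _ => Iff.rfl⟩

omit [Finite K] in
theorem T2r.exA (a b : K) :
    ∃ A : Subgroup (Un K), ∀ x, x ∈ A ↔ x ∈ Rr K ∧ x.v * star b * star a = a * (star x.v * b) :=
  ⟨{ carrier := {x | x ∈ Rr K ∧ x.v * star b * star a = a * (star x.v * b)}
     one_mem' := ⟨one_mem _, by simp⟩
     mul_mem' := fun {x y} hx hy => ⟨mul_mem hx.1 hy.1, by
       simp only [mul_v, hx.1.1, zero_mul, add_zero, star_add]
       linear_combination hx.2 + hy.2⟩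
     inv_mem' := fun {x} hx => ⟨inv_mem hx.1, by
       simp only [inv_v, hx.1.1, zero_mul, zero_sub, star_neg]
       linear_combination -hx.2⟩ }, fun _ => Iff.rfl⟩

omit [Finite K] in
theorem T2r.kap {x y : Un K} (h : ⁅y, x⁆ = 1) (ha : y.a ≠ 0) (hb : y.b ≠ 0) :
    ∃ k : K, star k = k ∧ x.a = k * y.a ∧ x.b = k * y.b := by
  obtain ⟨-, -, h1, h2, -⟩ := eq_one.1 h
  rw [comm_v] at h1
  rw [comm_c] at h2
  have e : x.b = x.a / y.a * y.b := by field_simp; linear_combination h1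
  refine ⟨x.a / y.a, ?_, by field_simp, e⟩
  generalize x.a / y.a = k at e
  rw [e, star_mul'] at h2
  exact mul_right_cancel₀ (mul_ne_zero hb (star_ne_zero.2 hb)) (by linear_combination -h2)

theorem t2r (hs : ∃ e : K, star e ≠ e) (F : Cf p ι) (h : Es p ι E) {y : Un K} (hy : y ∈ E)
    (hc : ∀ x ∈ E, ⁅y, x⁆ = 1) (ha : y.a ≠ 0) (hb : y.b ≠ 0) : False := by
  obtain ⟨J, hJ⟩ := T2r.exJ y.a
  obtain ⟨A, hA⟩ := T2r.exA y.a y.b
  have ha' := star_ne_zero.2 ha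
  have hb' := star_ne_zero.2 hb
  have cJ : ∀ x ∈ E, ∀ t ∈ J, ⁅x, t⁆ = 1 := fun x hx t ht => by
    obtain ⟨k, hk, e, -⟩ := T2r.kap (hc x hx) ha hb
    obtain ⟨h1, h2⟩ := (hJ t).1 ht
    obtain ⟨a1, a2, a3, a4, a5⟩ := comm_Z1 x h1
    refine eq_one.2 ⟨a1, a2, a3, a4, a5, ?_⟩
    rw [comm_z2 x h1, e, star_mul', hk]
    linear_combination k * h2
  have JE : J ≤ E := fun t ht => h.cent F fun x hx => by
    rw [← commutatorElement_inv, cJ x hx t ht, inv_one]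
  have cA : ∀ x ∈ E, ∀ t ∈ A, ⁅x, t⁆ ∈ J := fun x hx t ht => by
    obtain ⟨k, hk, -, e⟩ := T2r.kap (hc x hx) ha hb
    obtain ⟨⟨h1, h2, h3⟩, h4⟩ := (hA t).1 ht
    refine (hJ _).2 ⟨comm_Z2 x ⟨h1, h2⟩, ?_⟩
    simp only [comm_u, h1, h2, h3, e, star_mul', hk, mul_zero, zero_mul, star_zero, sub_zero, add_zero,
      zero_add, star_star]
    linear_combination k * h4
  have AJ : ∀ t ∈ A, t ∈ E → t ∈ J := fun t ht hE => by
    obtain ⟨⟨h1, h2, h3⟩, -⟩ := (hA t).1 ht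
    obtain ⟨-, -, -, -, e, e'⟩ := eq_one.1 (hc t hE)
    have hv : t.v = 0 := by
      simp only [comm_u, h1, h2, h3, mul_zero, zero_mul, star_zero, sub_zero, add_zero, zero_add] at e
      exact (mul_eq_zero.1 e).resolve_right hb'
    rw [comm_z2 y ⟨h1, h2, hv, h3⟩] at e'
    exact (hJ t).2 ⟨⟨h1, h2, hv, h3⟩, by linear_combination e'⟩
  have ZA : Z2 K ≤ A := fun t ht => (hA t).2 ⟨⟨ht.1, ht.2.1, ht.2.2.2⟩, by simp [ht.2.2.1]⟩
  have c0 : ∀ x : Un K, x.a = 0 → ∀ t ∈ Z2 K, ⁅x, t⁆ = 1 := fun x hx t ht => by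
    obtain ⟨a1, a2, a3, a4, a5⟩ := comm_Z1 x ht
    exact eq_one.2 ⟨a1, a2, a3, a4, a5, by simp [comm_z2 x ht, hx]⟩
  obtain ⟨s, hs2, hsJ⟩ : ∃ s ∈ Z2 K, s ∉ J := by
    obtain ⟨e, he⟩ := hs
    obtain ⟨s, h1, h2, h3, h4, h5⟩ := exists_un ⟨e, he⟩ 0 0 0 0 (y.a * e) (by simp)
    refine ⟨s, ⟨h1, h2, h3, h4⟩, fun k => he ?_⟩
    have := ((hJ s).1 k).2
    rw [h5, star_mul'] at this
    exact mul_left_cancel₀ (mul_ne_zero ha ha') (by linear_combination -this)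
  have sE : s ∉ E := fun k => hsJ (AJ s (ZA hs2) k)
  have ZJ : Z1 K < J := by
    obtain ⟨t, h1, h2, h3, h4, h5⟩ := exists_un hs 0 0 0 0 y.a (by simp)
    exact SetLike.lt_iff_le_and_exists.2 ⟨fun x hx => (hJ x).2 ⟨⟨hx.1, hx.2.1, hx.2.2.1, hx.2.2.2.1⟩, by
      simp [hx.2.2.2.2]⟩, t, (hJ t).2 ⟨⟨h1, h2, h3, h4⟩, by rw [h5]⟩, fun k => ha (h5 ▸ k.2.2.2.2)⟩
  refine lmax (J := J) (A := A) F h JE (fun a hA x hx => ?_) (fun k => sE (k (ZA hs2)))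
    (fun a h1 x hx => c0 a ((hA a).1 h1).1.1 x ((hJ x).1 hx).1) fun _ _ J' _ J'E hcard hne => ?_
  · rw [← commutatorElement_inv]
    exact inv_mem (cA x hx a hA)
  by_cases k : ∃ x ∈ J', x ∉ J ∧ x.a = 0
  · obtain ⟨x, h1, h2, h3⟩ := k
    exact ⟨s, ZA hs2, sE, x, h1, h2, by rw [c0 x h3 s hs2]; exact one_mem _⟩
  push Not at k
  obtain ⟨x, hx, hxJ⟩ : ∃ x ∈ J', x ∉ J := by
    by_contra! k'
    exact hne (Subgroup.eq_of_le_of_card_ge k' hcard.ge)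
  obtain ⟨n, hn, hn1, hna⟩ : ∃ n ∈ J', n ≠ 1 ∧ n.a = 0 := by
    by_contra! k'
    have := Nat.card_le_card_of_injective (fun z : J' => (⟨z.1.a / y.a, by
      obtain ⟨k, hk, e, -⟩ := T2r.kap (hc z.1 (J'E z.2)) ha hb
      rw [e, mul_div_cancel_right₀ _ ha, hk]⟩ : {k : K // star k = k})) fun z w e => by
        have e' : z.1.a = w.1.a := (div_left_inj' ha).1 (congrArg Subtype.val e)
        by_contra k''
        exact k' _ (mul_mem z.2 (inv_mem w.2)) (fun e => k'' (Subtype.ext (mul_inv_eq_one.1 e)))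
          (by simp [e'])
    have h2 := H1.card_lt_of_lt ZJ
    rw [card_Z1 hs, ← hcard] at h2
    exact h2.not_ge this
  have nJ : n ∈ J := by_contra fun e => k n hn e hna
  have xa := k x hx hxJ
  obtain ⟨κ, hκ, e1, e2⟩ := T2r.kap (hc x (J'E hx)) ha hb
  have κ0 : κ ≠ 0 := fun e => xa (by rw [e1, e, zero_mul])
  obtain ⟨n2, nu⟩ := (hJ n).1 nJ
  obtain ⟨t, h1, h2, h3, h4, h5⟩ := exists_un hs 0 0 (n.u / (κ * star y.b)) 0 0 (by simp)
  have tA : t ∈ A := (hA t).2 ⟨⟨h1, h2, h4⟩, by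
    rw [h3, star_div₀, star_mul', hκ, star_star]; field_simp; linear_combination nu⟩
  obtain ⟨m2, -⟩ := (hJ _).1 (cA x (J'E hx) t tA)
  have mu : ⁅x, t⁆.u = n.u := by
    simp only [comm_u, h1, h2, h3, h4, e2, star_mul', hκ, mul_zero, zero_mul, star_zero, sub_zero, add_zero,
      zero_add]
    field_simp
  obtain ⟨w, hw⟩ := exists_sub hs (s := n.z - ⁅x, t⁆.z) (by
    simp only [star_sub, sz, n2.1, n2.2.2.1, m2.1, m2.2.2.1, star_zero, mul_zero, zero_mul]; ring)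
  obtain ⟨r, g1, g2, g3, g4, g5⟩ := exists_un hs 0 0 0 0 (w / star x.a) (by simp)
  have r2 : r ∈ Z2 K := ⟨g1, g2, g3, g4⟩
  have r1 := comm_Z1 x r2
  have rz : ⁅x, r⁆.z = w - star w := by
    have := star_ne_zero.2 xa
    rw [comm_z2 x r2, g5, star_div₀, star_star]; field_simp
  have e : ⁅x, r * t⁆ = n := by
    rw [show ⁅x, r * t⁆ = ⁅x, r⁆ * ⁅r, ⁅x, t⁆⁆ * ⁅x, t⁆ by simp only [commutatorElement_def]; group,
      c0 r g1 _ m2, mul_one]
    obtain ⟨a1, a2, a3, a4, a5⟩ := r1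
    obtain ⟨b1, b2, b3, b4⟩ := m2
    obtain ⟨c1, c2, c3, c4⟩ := n2
    ext
    · rw [mul_a, a1, b1, c1, add_zero]
    · rw [mul_b, a2, b2, c2, add_zero]
    · rw [mul_v, a3, b3, c3, a1]; ring
    · rw [mul_c, a4, b4, c4, a2]; ring
    · rw [mul_u, a5, a1, a3, mu]; ring
    · rw [mul_z, a5, a1, a3, rz, hw]; ring
  refine ⟨r * t, mul_mem (ZA r2) tA, fun k => hn1 ?_, x, hx, hxJ, e ▸ hn⟩
  rw [← e]
  exact cJ x (J'E hx) _ (AJ _ (mul_mem (ZA r2) tA) k)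

end U5F
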