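import Mathlib
import Cfsg.Agent.Base
import Cfsg.Agent.Lib.U5F.Card
import Cfsg.Agent.Lib.U5F.Lmax

/-!
Essential subgroups inside the second radical.
-/

set_option autoImplicit false

namespace U5F

open Subgroup H93.SX Un
open scoped commutatorElement

universe u v

variable {K : Type*} {Γ : Type u} [Field K] [StarRing K] [Finite K] [Group Γ] [Finite Γ] {p : ℕ}
  [Fact p.Prime] {ι : Un K →* Γ} {E : Subgroup (Un K)} {g : Γ}

namespace T3

omit [Finite K]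

theorem comm_eq {x y z : Un K} (hx : x ∈ Q2 K) (hy : y ∈ Q2 K) (hz : z ∈ Z1 K) (e : ⁅x, y⁆.z = z.z) :
    ⁅x, y⁆ = z := by
  obtain ⟨h1, h2, h3, h4, h5⟩ := mem_Z1.1 (comm_Q2 hx hy)
  obtain ⟨k1, k2, k3, k4, k5⟩ := mem_Z1.1 hz
  exact Un.ext (h1.trans k1.symm) (h2.trans k2.symm) (h3.trans k3.symm) (h4.trans k4.symm)
    (h5.trans k5.symm) e

theorem exq (hs : ∃ e : K, star e ≠ e) (a v u : K) : ∃ x ∈ Q2 K, x.a = a ∧ x.v = v ∧ x.u = u :=
  let ⟨x, h1, h2, h3, h4, h5⟩ := exists_un hs a 0 v 0 u (by simp)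
  ⟨x, ⟨h2, h4⟩, h1, h3, h5⟩

/-- every central element is a commutator in the centraliser of `y` -/
theorem exists_comm (hs : ∃ e : K, star e ≠ e) {y z : Un K} (hy : y ∈ Q2 K) (hz : z ∈ Z1 K) :
    ∃ x1 ∈ Q2 K, ∃ x2 ∈ Q2 K, ⁅y, x1⁆ = 1 ∧ ⁅y, x2⁆ = 1 ∧ ⁅x1, x2⁆ = z := by
  obtain ⟨k, hk⟩ := exists_sub hs (s := z.z) (by
    obtain ⟨k1, k2, k3, k4, k5⟩ := mem_Z1.1 hz
    have := z.hz
    simpa [k1, k3, k5] using this)
  have key : ∀ a v u a' v' u' : K, a * star y.u + v * star y.v + u * star y.a = 0 →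
      a' * star y.u + v' * star y.v + u' * star y.a = 0 → a' * star u + v' * star v + u' * star a = k →
      ∃ x1 ∈ Q2 K, ∃ x2 ∈ Q2 K, ⁅y, x1⁆ = 1 ∧ ⁅y, x2⁆ = 1 ∧ ⁅x1, x2⁆ = z := by
    intro a v u a' v' u' e1 e2 e3
    obtain ⟨x1, h1, rfl, rfl, rfl⟩ := exq hs a v u
    obtain ⟨x2, h2, rfl, rfl, rfl⟩ := exq hs a' v' u'
    have f1 := congrArg star e1
    have f2 := congrArg star e2
    have f3 := congrArg star e3
    simp only [star_add, star_mul', star_star, star_zero] at f1 f2 f3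
    refine ⟨x1, h1, x2, h2, comm_eq hy h1 (one_mem _) ?_, comm_eq hy h2 (one_mem _) ?_,
      comm_eq h1 h2 hz ?_⟩
    · rw [comm_z_Q2 hy h1, one_z]; linear_combination e1 - f1
    · rw [comm_z_Q2 hy h2, one_z]; linear_combination e2 - f2
    · rw [comm_z_Q2 h1 h2]; linear_combination e3 - f3 + hk
  by_cases ha : y.a = 0
  · by_cases hu : y.u = 0
    · exact key 0 0 1 k 0 0 (by simp [ha]) (by simp [hu]) (by simp)
    · have := star_ne_zero.2 hu
      exact key (-star y.v / star y.u) 1 0 (-k * star y.v / star y.u) k 0 (by field_simp; ring)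
        (by field_simp; ring) (by simp)
  · have := star_ne_zero.2 ha
    exact key 0 1 (-star y.v / star y.a) 0 k (-k * star y.v / star y.a) (by field_simp; ring)
      (by field_simp; ring) (by simp)

end T3

theorem es_Q2 (hs : ∃ e : K, star e ≠ e) (F : Cf p ι) (h : Es p ι E) (hE : E ≤ Q2 K) : E = Q2 K := by
  by_contra hne
  refine lmax (J := Z1 K) (A := Q2 K) F h
    (fun t ht => h.cent F fun x _ => by rw [← commutatorElement_inv, comm_Z0 x ht, inv_one])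
    (fun a ha x hx => comm_Q2 ha (hE hx)) (fun e => hne (le_antisymm hE e))
    (fun a _ x hx => comm_Z0 a hx) fun g hg J' hJ' hJE hc hJ => ?_
  obtain ⟨y, hy, hy'⟩ : ∃ y ∈ J', y ∉ Z1 K := by
    by_contra hn
    exact hJ (Subgroup.eq_of_le_of_card_ge (fun y hy => by
      by_contra h'; exact hn ⟨y, hy, h'⟩) hc.ge)
  obtain ⟨z, hz, e⟩ := (hJ' y).1 hy
  obtain ⟨x1, h1, x2, h2, c1, c2, rfl⟩ := T3.exists_comm hs (hE (hJE hy)) hz
  by_cases k1 : x1 ∈ E
  · by_cases k2 : x2 ∈ E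
    · obtain ⟨y1, l1, e1⟩ := nr_cj hg k1
      obtain ⟨y2, l2, e2⟩ := nr_cj hg k2
      exact absurd ((e1.comm e2).uniq F.inj e ▸ comm_Q2 (hE l1) (hE l2)) hy'
    · exact ⟨x2, h2, k2, y, hy, hy', c2 ▸ one_mem _⟩
  · exact ⟨x1, h1, k1, y, hy, hy', c1 ▸ one_mem _⟩

end U5F
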