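import Mathlib
import Cfsg.Agent.Base
import Cfsg.Agent.Lib.U5F.Card

/-!
Essential subgroups without nearly central elements, first step.
-/

set_option autoImplicit false

namespace U5F

open Subgroup H93.SX Un
open scoped commutatorElement

universe u v

variable {K : Type*} {Γ : Type u} [Field K] [StarRing K] [Finite K] [Group Γ] [Finite Γ] {p : ℕ}
  [Fact p.Prime] {ι : Un K →* Γ} {E : Subgroup (Un K)} {g : Γ}

namespace T4a1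

omit [Finite K]

theorem z1_ext {x y : Un K} (hx : x ∈ Z1 K) (hy : y ∈ Z1 K) (h : x.z = y.z) : x = y := by
  ext <;> simp_all

theorem exa (hs : ∃ e : K, star e ≠ e) {x z : Un K} (hx : x.a ≠ 0) (hz : z ∈ Z1 K) : ∃ y ∈ Z2 K, ⁅x, y⁆ = z := by
  obtain ⟨w, hw⟩ := exists_sub hs (s := z.z) (by have := z.hz; simp_all)
  obtain ⟨y, e1, e2, e3, e4, e5⟩ := exists_un hs 0 0 0 0 (w / star x.a) (by simp)
  have hy : y ∈ Z2 K := ⟨e1, e2, e3, e4⟩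
  have := star_ne_zero.2 hx
  refine ⟨y, hy, z1_ext (comm_Z1 x hy) hz ?_⟩
  rw [comm_z2 x hy, e5, star_div₀, star_star, ← hw]
  field_simp

theorem exv (hs : ∃ e : K, star e ≠ e) {x z : Un K} (h3 : x ∈ Z3 K) (hx : x.v ≠ 0) (hz : z ∈ Z1 K) :
    ∃ y ∈ Rr K, ⁅x, y⁆ = z := by
  obtain ⟨w, hw⟩ := exists_sub hs (s := z.z) (by have := z.hz; simp_all)
  obtain ⟨y, e1, e2, e3, e4, e5⟩ := exists_un hs 0 0 (w / star x.v) 0 0 (by simp)
  have := star_ne_zero.2 hx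
  refine ⟨y, ⟨e1, e2, e4⟩, z1_ext (by simp [e1, e2, h3.1, h3.2]) hz ?_⟩
  rw [comm_z_Q1 h3.1 e1, e3, star_div₀, star_star, ← hw]
  field_simp

theorem exz (hs : ∃ e : K, star e ≠ e) : ∃ z ∈ Z1 K, z ≠ 1 :=
  let ⟨s, h0, h⟩ := exists_skew hs
  ⟨⟨0, 0, 0, 0, 0, s, by simp, by simpa using h⟩, by simp, fun e => h0 (congrArg Un.z e)⟩

end T4a1

open T4a1

set_option maxHeartbeats 1000000 in
theorem t4a1 (hs : ∃ e : K, star e ≠ e) (F : Cf p ι) (h : Es p ι E) (h1 : ¬ E ≤ Q1 K) (h2 : Z2 K ≤ E)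
    (hz : ∀ x ∈ E, (∀ y ∈ E, ⁅x, y⁆ ∈ Z1 K) → x.a = 0) :
    nr ι E ≤ nr ι (E ⊓ Q1 K) ∨ (Z3 K ≤ E ∧ ∃ r : K, r ≠ 0 ∧ ∀ y ∈ E, y.a = r * star y.b) := by
  obtain ⟨x0, hx0, a0⟩ := SetLike.not_le_iff_exists.1 h1
  obtain ⟨z0, hz0, n0⟩ := exz hs
  let cl : Un K → Set (Un K) := fun x => {z | ∃ y ∈ E, ⁅x, y⁆ = z}
  let I : Set (Un K) := {x | x ∈ E ∧ (cl x).ncard ≤ (Z1 K : Set (Un K)).ncard}
  have i1 : ∀ x ∈ E, (∀ y ∈ E, ⁅x, y⁆ ∈ Z1 K) → x ∈ I := fun x hx e =>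
    ⟨hx, Set.ncard_le_ncard (by rintro _ ⟨y, hy, rfl⟩; exact e y hy)⟩
  have i2 : ∀ x ∈ I, (∀ z ∈ Z1 K, ∃ y ∈ E, ⁅x, y⁆ = z) → ∀ y ∈ E, ⁅x, y⁆ ∈ Z1 K := fun x hx e y hy =>
    (Set.eq_of_subset_of_ncard_le (s := (Z1 K : Set (Un K))) (t := cl x) e hx.2).ge ⟨y, hy, rfl⟩
  have i3 : ∀ g ∈ nr ι E, ∀ x ∈ I, ∃ y ∈ I, Cj ι g x y := fun g hg x hx => by
    obtain ⟨y, hy, e⟩ := nr_cj hg hx.1
    refine ⟨y, ⟨hy, le_trans ?_ hx.2⟩, e⟩
    rw [← Set.ncard_image_of_injective _ F.inj]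
    refine (Set.ncard_le_ncard ?_).trans (Set.ncard_image_le (f := fun z => g * ι z * g⁻¹))
    rintro _ ⟨_, ⟨t, ht, rfl⟩, rfl⟩
    obtain ⟨s, hs, e'⟩ := nr_cj' hg ht
    exact ⟨_, ⟨s, hs, rfl⟩, e.comm e'⟩
  have JE : closure I ≤ E := (closure_le _).2 fun x hx => hx.1
  have JQ : closure I ≤ Q1 K := (closure_le _).2 fun x hx => by_contra fun e => e <| hz x hx.1 <|
    i2 x hx fun z hz => let ⟨y, hy, e⟩ := exa hs e hz; ⟨y, h2 hy, e⟩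
  have ZJ : Z2 K ≤ closure I := fun x hx => subset_closure (i1 x (h2 hx) fun y _ => by
    simp [hx.1, hx.2.1, hx.2.2.1, hx.2.2.2])
  have nJ : nr ι E ≤ nr ι (closure I) := fun g hg => mem_nr fun x hx => by
    induction hx using closure_induction with
    | mem x hx => exact let ⟨y, hy, e⟩ := i3 g hg x hx; ⟨y, subset_closure hy, e⟩
    | one => exact ⟨1, one_mem _, by simp [Cj]⟩
    | mul x y _ _ a b => exact let ⟨x', hx, e⟩ := a; let ⟨y', hy, e'⟩ := b; ⟨_, mul_mem hx hy, e.mul e'⟩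
    | inv x _ a => exact let ⟨x', hx, e⟩ := a; ⟨_, inv_mem hx, e.inv⟩
  generalize hJ : closure I = J at *
  by_cases hY : ∀ w ∈ J, (∀ y ∈ J, ⁅w, y⁆ = 1) → w ∈ Yc K
  · refine .inl fun g hg => nr_cent F.inj hg (B := J ⊓ centralizer (J : Set (Un K)))
      (nr_cent F.inj (nJ hg) (nJ hg) fun x => ?_) fun x => and_congr_right fun hx => ⟨fun e y hy => ?_, fun e => ?_⟩
    · simp only [mem_inf, mem_centralizer_iff, commutatorElement_eq_one_iff_mul_comm, SetLike.mem_coe, eq_comm]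
    · exact comm_Y0 e (hY y hy.1 fun t ht => commutatorElement_eq_one_iff_mul_comm.2 (hy.2 t ht).symm)
    · by_contra a
      obtain ⟨y, hy, e'⟩ := exa hs a hz0
      exact n0 (e'.symm.trans (e y ⟨ZJ hy, fun t ht => commutatorElement_eq_one_iff_mul_comm.1
        (comm_Y0 (JQ ht) ⟨hy.1, hy.2.1, hy.2.2.1⟩)⟩))
  push Not at hY
  obtain ⟨w, hw, cw, nw⟩ := hY
  have wa : w.a = 0 := JQ hw
  have J3 : J ≤ Z3 K := fun j hj => ⟨JQ hj, by_contra fun jb => by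
    have ja : j.a = 0 := JQ hj
    have t : ⁅x0, j⁆ ∈ J := mul_mem ((Cj.self x0 j).mem F.inj (nJ (self_nr fun y hy =>
      mul_mem (mul_mem (mul_mem hx0 hy) (inv_mem hx0)) (inv_mem hy))) hj) (inv_mem hj)
    have e1 := congrArg Un.u (cw _ t)
    have e2 := congrArg Un.u (cw _ hj)
    have a0' : x0.a ≠ 0 := a0
    have wb : w.b = 0 := by simpa [wa, ja, a0', jb] using e1
    exact nw ⟨wa, wb, by simpa [wa, ja, wb, jb] using e2⟩⟩
  have C2 : ⁅E, J⁆ ≤ Z2 K := commutator_le.2 fun x _ y hy => comm_Z2 x (J3 hy)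
  have E3 : Z3 K ≤ E := fun t ht => h.chain F nJ (fun g hg => nr_comm hg (nJ hg)) (fun _ _ => nr_bot)
    (self_ch JE (C2.trans ZJ) bot_le (fun x _ => ZJ (by simp [ht.1, ht.2])) (fun x hx => by
      obtain ⟨y, hy, e⟩ := exa hs a0 (z := ⁅t, x⁆) (by simp [ht.1, ht.2, (J3 hx).1, (J3 hx).2])
      exact e ▸ commutator_mem_commutator hx0 (ZJ hy))
      (fun x hx => comm_Y0 ht.1 ⟨(C2 hx).1, (C2 hx).2.1, (C2 hx).2.2.1⟩) fun x hx => by rw [mem_bot.1 hx]; simp)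
  obtain ⟨t, ht, nt⟩ : ∃ t ∈ I, t ∉ Yc K := by
    by_contra! hc
    exact nw ((hJ ▸ (closure_le (Yc K)).2 hc :) hw)
  have t3 := J3 (hJ ▸ subset_closure ht)
  have tv : t.v ≠ 0 := fun e => nt ⟨t3.1, t3.2, e⟩
  have k : ∀ y ∈ E, t.v * star y.b + y.a * t.c = 0 := fun y hy => by
    have := (i2 t ht (fun z hz => let ⟨y, hy, e⟩ := exv hs t3 tv hz; ⟨y, E3 ⟨hy.1, hy.2.1⟩, e⟩) y hy).2.2.2.2
    rw [comm_u, t3.1, t3.2] at this
    simp only [star_zero] at this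
    linear_combination -this
  by_cases tc : t.c = 0
  · have b0 : ∀ y ∈ E, y.b = 0 := fun y hy => by simpa [tc, tv] using k y hy
    obtain ⟨r, hr, e⟩ := exv hs (J3 hw) (fun e => nw ⟨wa, (J3 hw).2, e⟩) hz0
    refine (n0 (e.symm.trans (cw r (hJ ▸ subset_closure (i1 r (E3 ⟨hr.1, hr.2.1⟩) fun y hy => ?_))))).elim
    simp [hr.1, hr.2.1, hr.2.2, b0 y hy]
  · refine .inr ⟨E3, -t.v / t.c, div_ne_zero (neg_ne_zero.2 tv) tc, fun y hy => ?_⟩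
    field_simp
    linear_combination k y hy

end U5F
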