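import Mathlib
import Cfsg.Agent.Base
import Cfsg.Agent.Lib.U5F.Defs

/-!
Essential subgroups without nearly central elements, second step.
-/

set_option autoImplicit false

namespace U5F

open Subgroup H93.SX Un
open scoped commutatorElement

universe u v

namespace T4a2

variable {K : Type*} [Field K] [StarRing K] {E : Subgroup (Un K)}

/-- The elements of the derived group on the line `v = r c`. -/
def Dr (r : K) : Subgroup (Un K) where
  carrier := {x | x.a = 0 ∧ x.b = 0 ∧ x.v = r * x.c}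
  one_mem' := ⟨rfl, rfl, by simp⟩
  mul_mem' := fun {a b} ha hb => by
    obtain ⟨h1, h2, h3⟩ := ha
    obtain ⟨k1, k2, k3⟩ := hb
    exact ⟨by simp [h1, k1], by simp [h2, k2], by simp [h1, h2, h3, k3]; ring⟩
  inv_mem' := fun {a} ha => by
    obtain ⟨h1, h2, h3⟩ := ha
    exact ⟨by simp [h1], by simp [h2], by simp [h1, h2, h3, sc]⟩

theorem z1 (hs : ∃ e : K, star e ≠ e) (h3 : Z3 K ≤ E) : Z1 K ≤ ⁅E, E⁆ := fun t ht => by
  have sk : t.z + star t.z = 0 := by
    have := t.hz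
    simp_all
  obtain ⟨w, hw⟩ := exists_sub hs sk
  obtain ⟨x, x1, x2, x3, x4, -⟩ := exists_un hs 0 0 1 0 0 (by simp)
  obtain ⟨y, y1, y2, y3, y4, -⟩ := exists_un hs 0 0 w 0 0 (by simp)
  have e : t = ⁅x, y⁆ := by
    have := comm_z_Q1 (x := x) (y := y) x1 y1
    ext <;> simp_all
  exact e ▸ commutator_mem_commutator (h3 ⟨x1, x2⟩) (h3 ⟨y1, y2⟩)

theorem z2 (hs : ∃ e : K, star e ≠ e) (h3 : Z3 K ≤ E) {x : Un K} (hx : x ∈ E) (hb : x.b ≠ 0) :
    Z2 K ≤ ⁅E, E⁆ := fun t ht => by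
  obtain ⟨t1, t2, t3, t4⟩ := ht
  obtain ⟨y, y1, y2, y3, y4, -⟩ := exists_un hs 0 0 (t.u / star x.b) 0 0 (by simp)
  have h' := star_ne_zero.2 hb
  have k : ⁅x, y⁆⁻¹ * t ∈ Z1 K := by
    simp [t1, t2, t3, t4, y1, y2, y3, y4, div_mul_cancel₀ _ h']
  have := mul_mem (commutator_mem_commutator hx (h3 ⟨y1, y2⟩)) (z1 hs h3 k)
  rwa [mul_inv_cancel_left] at this

theorem t4a2_eq_defs : True := by
  have := @Dr.eq_1.{0}
  trivial

end T4a2

open T4a2

variable {K : Type*} {Γ : Type u} [Field K] [StarRing K] [Finite K] [Group Γ] [Finite Γ] {p : ℕ}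
  [Fact p.Prime] {ι : Un K →* Γ} {E : Subgroup (Un K)} {g : Γ}

theorem t4a2 (hs : ∃ e : K, star e ≠ e) (i : Function.Injective ι) (h1 : ¬ E ≤ Q1 K) (h3 : Z3 K ≤ E) {r : K}
    (hr : r ≠ 0) (h : ∀ y ∈ E, y.a = r * star y.b) : nr ι E ≤ nr ι (E ⊓ Q1 K) := by
  obtain ⟨x0, hx, a0⟩ := SetLike.not_le_iff_exists.1 h1
  rw [mem_Q1] at a0
  have ab : ∀ y ∈ E, y.a = 0 ↔ y.b = 0 := fun y hy => by rw [h y hy]; simp [hr]
  have b0 : x0.b ≠ 0 := fun e => a0 ((ab x0 hx).2 e)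
  intro g hg
  by_cases h2 : (2 : K) = 0
  · have p4 : ∀ y : Un K, y ^ 4 = (y * y) * (y * y) := fun y => by
      rw [show 4 = 2 + 2 from rfl, pow_add, pow_two]
    have dbl : ∀ k : K, k + k = 0 := fun k => by linear_combination k * h2
    refine nr_rc i 4 hg (nr_bot (ι := ι)) nr_bot fun y => ⟨fun k => ⟨k.1, ?_, fun z hz => ?_⟩,
      fun k => ⟨k.1, ?_⟩⟩
    · have ya := mem_Q1.1 k.2
      have yb := (ab y k.1).1 ya
      rw [mem_bot, p4]
      ext <;> simp [ya, yb, dbl]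
    · rw [mem_bot.1 hz, commutatorElement_one_right]
      exact one_mem _
    · have e := congrArg Un.z (mem_bot.1 k.2.1)
      rw [p4, mul_z] at e
      simp only [mul_a, mul_b, mul_v, dbl, zero_add, star_zero, zero_mul, mul_zero, sub_zero, one_z,
        zero_sub, mul_neg, neg_eq_zero, mul_eq_zero, star_eq_zero, or_self] at e
      exact e.elim id (ab y k.1).2
  have nZ : g ∈ nr ι (E ⊓ centralizer (E : Set (Un K))) := nr_cent i hg hg fun x =>
    and_congr_right fun _ => by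
      simp only [SetLike.mem_coe, mem_centralizer_iff, commutatorElement_eq_one_iff_mul_comm]
      exact forall₂_congr fun _ _ => eq_comm
  have lD : ⁅E, E⁆ ≤ Dr r := commutator_le.2 fun x hx y hy =>
    ⟨comm_a, comm_b, by rw [comm_v, comm_c, h x hx, h y hy]; ring⟩
  have n2 : g ∈ nr ι (Z2 K) := by
    refine nr_rc i 0 (nr_comm hg hg) hg nZ fun t => ⟨fun k => ⟨z2 hs h3 hx b0 k, by simp, fun y _ => ?_⟩,
      fun k => ?_⟩
    · have m : ⁅t, y⁆ ∈ Z1 K := by
        rw [← commutatorElement_inv]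
        exact inv_mem (comm_Z1 y k)
      exact ⟨h3 ⟨m.1, m.2.1⟩, fun z _ => commutatorElement_eq_one_iff_mul_comm.1 (comm_Z0 z m)⟩
    · obtain ⟨t1, t2, t3⟩ := lD k.1
      have m : ⁅t, x0⁆ ∈ Z2 K := by
        rw [← commutatorElement_inv]
        exact inv_mem (comm_Z2 x0 ⟨t1, t2⟩)
      have e := comm_z2 x0 m
      rw [commutatorElement_eq_one_iff_mul_comm.2 ((k.2.2 x0 hx).2 x0 hx), one_z, comm_u, t1, t2, t3,
        h x0 hx] at e
      simp only [star_add, star_sub, star_mul', star_star, star_zero, sc, t2] at e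
      have c0 : t.c = 0 := by
        have : 2 * 2 * (r * star r) * (x0.b * star x0.b) * t.c = 0 := by linear_combination e
        simpa [h2, hr, b0] using this
      exact ⟨t1, t2, by rw [t3, c0, mul_zero], c0⟩
  refine nr_cent i hg n2 fun y => and_congr_right fun _ => ⟨fun k z hz =>
    comm_Y0 k ⟨hz.1, hz.2.1, hz.2.2.1⟩, fun k => ?_⟩
  obtain ⟨e, he⟩ := id hs
  obtain ⟨t, t1, t2, t3, t4, t5⟩ := exists_un hs 0 0 0 0 (e * y.a) (by simp)
  have k' := comm_z2 y (y := t) ⟨t1, t2, t3, t4⟩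
  rw [k t ⟨t1, t2, t3, t4⟩, t5, star_mul', one_z] at k'
  by_contra ya
  exact he (mul_left_cancel₀ (mul_ne_zero ya (star_ne_zero.2 ya)) (by linear_combination k'))

end U5F
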