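import Mathlib
import Cfsg.Agent.Base
import Cfsg.Agent.Lib.U5F.Defs

/-!
Essential subgroups with a nearly central element.
-/

set_option autoImplicit false

namespace U5F

open Subgroup H93.SX Un
open scoped commutatorElement

universe u v

variable {K : Type*} {Γ : Type u} [Field K] [StarRing K] [Finite K] [Group Γ] [Finite Γ] {p : ℕ}
  [Fact p.Prime] {ι : Un K →* Γ} {E : Subgroup (Un K)} {g : Γ}

namespace T4b

omit [Finite K] in
theorem flip {x y : Un K} (h : ⁅x, y⁆ = 1) : ⁅y, x⁆ = 1 := by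
  rw [← commutatorElement_inv, h, inv_one]

omit [Finite K] in
theorem zc {w y : Un K} (hw : w ∈ Z2 K) (e : w.u * star y.a = y.a * star w.u) : ⁅w, y⁆ = 1 := by
  have h := comm_Z1 y hw
  exact flip (eq_one.2 ⟨h.1, h.2.1, h.2.2.1, h.2.2.2.1, h.2.2.2.2, by rw [comm_z2 y hw, e, sub_self]⟩)

omit [Finite K] in
theorem chain (hs : ∃ e : K, star e ≠ e) (F : Cf p ι) (h : Es p ι E) (h2 : Z2 K ≤ E) {x t : Un K}
    (hx : x ∈ E) (ha : x.a ≠ 0) (k : ∀ y ∈ E, y.a * star x.a = x.a * star y.a)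
    (e1 : ∀ y ∈ E, ⁅t, y⁆ ∈ Z2 K ∧ (⁅t, y⁆.u = y.a ∨ ⁅t, y⁆.u = -y.a))
    (e2 : ∀ w ∈ E, (∀ y ∈ E, ⁅w, y⁆ = 1) → ⁅t, w⁆ ∈ Z1 K) (e3 : ∀ w ∈ ⁅E, E⁆, ⁅t, w⁆ = 1) : t ∈ E := by
  have ha' := star_ne_zero.2 ha
  have m : ∀ w, w ∈ E ⊓ centralizer E ↔ w ∈ E ∧ ∀ y ∈ E, ⁅w, y⁆ = 1 := fun w =>
    and_congr_right fun _ => forall₂_congr fun y _ => by
      rw [commutatorElement_eq_one_iff_mul_comm, eq_comm]
  have k' : ∀ y ∈ E, ∀ y' ∈ E, y.a * star y'.a = y'.a * star y.a := fun y hy y' hy' =>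
    mul_left_cancel₀ (mul_ne_zero ha ha') (by
      linear_combination (x.a * star y'.a) * k y hy - (x.a * star y.a) * k y' hy')
  have hZ : ∀ z ∈ Z1 K, z ∈ ⁅E, E⁆ := fun z hz => by
    obtain ⟨z1, z2, z3, z4, z5⟩ := hz
    obtain ⟨ω, hω⟩ := exists_sub hs (s := z.z) (by simpa [z1, z3, z5] using z.hz)
    obtain ⟨w, w1, w2, w3, w4, w5⟩ := exists_un hs 0 0 0 0 (ω / star x.a) (by simp)
    have hw : w ∈ Z2 K := ⟨w1, w2, w3, w4⟩
    have c := comm_Z1 x hw
    have : z = ⁅x, w⁆ := Un.ext (z1.trans c.1.symm) (z2.trans c.2.1.symm) (z3.trans c.2.2.1.symm)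
      (z4.trans c.2.2.2.1.symm) (z5.trans c.2.2.2.2.symm) (by
        rw [comm_z2 x hw, w5, ← hω, star_div₀, star_star]; field_simp)
    exact this ▸ commutator_mem_commutator hx (h2 hw)
  have a : nr ι E ≤ nr ι (E ⊓ centralizer E) := fun g hg => nr_cent F.inj hg hg m
  refine h.chain F a (fun g hg => nr_inf F.inj (a hg) (nr_comm hg hg)) (fun g _ => nr_bot)
    (self_ch inf_le_left inf_le_left bot_le (fun y hy => (m _).2 ⟨h2 (e1 y hy).1, fun y' hy' =>
      zc (e1 y hy).1 ?_⟩) (fun w hw => ?_) (fun w hw => mem_bot.2 (e3 w hw.2)) fun w hw => by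
        rw [mem_bot.1 hw, commutatorElement_one_right])
  · rcases (e1 y hy).2 with e | e <;> rw [e]
    · exact k' y hy y' hy'
    · rw [star_neg]; linear_combination -k' y hy y' hy'
  · have c := e2 w hw.1 ((m w).1 hw).2
    exact ⟨(m _).2 ⟨h2 (seT.c c), fun y _ => flip (comm_Z0 y c)⟩, hZ _ c⟩

end T4b

theorem t4b (hs : ∃ e : K, star e ≠ e) (F : Cf p ι) (h : Es p ι E) (h2 : Z2 K ≤ E)
    (hz : ∀ y ∈ E, (∀ x ∈ E, ⁅y, x⁆ = 1) → y.a = 0) {x : Un K} (hx : x ∈ E) (ha : x.a ≠ 0)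
    (hc : ∀ y ∈ E, ⁅x, y⁆ ∈ Z1 K) : E ≤ Q2 K := by
  have c1 : ∀ y ∈ E, x.a * y.b - y.a * x.b = 0 := fun y hy => comm_v.symm.trans (hc y hy).2.2.1
  have c2 : ∀ y ∈ E, y.b * star x.b - x.b * star y.b = 0 := fun y hy => comm_c.symm.trans (hc y hy).2.2.2.1
  have c3 : ∀ y ∈ E, x.a * y.c - y.a * x.c + y.v * star x.b - x.v * star y.b = 0 := fun y hy => by
    have := comm_u.symm.trans (hc y hy).2.2.2.2
    rwa [c1 y hy, zero_mul, add_zero] at this
  by_cases hb : x.b = 0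
  · have b0 : ∀ y ∈ E, y.b = 0 := fun y hy => by simpa [hb, ha] using c1 y hy
    have c4 : ∀ y ∈ E, x.a * y.c = y.a * x.c := fun y hy => by
      simpa [hb, b0 y hy, sub_eq_zero] using c3 y hy
    by_cases hc0 : x.c = 0
    · exact fun y hy => ⟨b0 y hy, by simpa [hc0, ha] using c4 y hy⟩
    have sc' : ∀ y ∈ E, star y.c = -y.c := fun y hy => by rw [y.sc, b0 y hy]; ring
    obtain ⟨t, t1, t2, t3, t4, t5⟩ := exists_un hs (x.a / x.c) 0 0 0 0 (by simp)
    have ht : t ∈ E := by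
      refine T4b.chain hs F h h2 hx ha (fun y hy => ?_) (fun y hy => ⟨?_, Or.inl ?_⟩) (fun w hw k => ?_)
        fun w hw => comm_Z0 t (commutator_le.2 (fun y hy y' hy' => ?_) hw)
      · have := congrArg star (c4 y hy)
        rw [star_mul', star_mul', sc' y hy, sc' x hx] at this
        exact mul_left_cancel₀ hc0 (by linear_combination -star x.a * c4 y hy - x.a * this)
      · simp [t2, b0 y hy]
      · rw [comm_u, t1, t2, t3, t4, b0 y hy, star_zero]
        field_simp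
        linear_combination c4 y hy
      · exact comm_Q2 ⟨t2, t4⟩ ⟨b0 w hw, by simpa [hz w hw k, ha] using c4 w hw⟩
      · have : y.a * y'.c - y'.a * y.c = 0 := mul_left_cancel₀ hc0 (by
          linear_combination y.c * c4 y' hy' - y'.c * c4 y hy)
        simp [b0 y hy, b0 y' hy', this]
    have := c4 t ht
    rw [t1, t4, mul_zero, div_mul_cancel₀ _ hc0] at this
    exact absurd this.symm ha
  have hb' := star_ne_zero.2 hb
  obtain ⟨t, t1, t2, t3, t4, t5⟩ := exists_un hs 0 0 (x.a / star x.b) 0 0 (by simp)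
  have ht : t ∈ E := by
    refine T4b.chain hs F h h2 hx ha (fun y hy => ?_) (fun y hy => ⟨?_, Or.inr ?_⟩) (fun w hw k => ?_)
      fun w hw => comm_Y0 t1 (commutator_le.2 (fun y hy y' hy' => ?_) hw)
    · have := congrArg star (c1 y hy)
      rw [star_sub, star_mul', star_mul', star_zero] at this
      exact mul_left_cancel₀ (mul_ne_zero hb hb') (by
        linear_combination (-star x.a * star x.b) * c1 y hy + (x.a * star x.a) * c2 y hy + x.a * x.b * this)
    · simp [t1, t2]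
    · rw [comm_u, t1, t2, t3, t4, star_zero]
      refine mul_left_cancel₀ (mul_ne_zero hb hb') ?_
      linear_combination x.a * c2 y hy - star x.b * c1 y hy - x.b * star y.b * div_mul_cancel₀ x.a hb'
    · have w1 := hz w hw k
      have w2 : w.b = 0 := by simpa [w1, ha] using c1 w hw
      simp [t1, t2, w1, w2]
    · have k1 : y.a * y'.b - y'.a * y.b = 0 := mul_left_cancel₀ hb (by
        linear_combination y.b * c1 y' hy' - y'.b * c1 y hy)
      simp [k1]
  have := c3 t ht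
  rw [t1, t2, t3, t4, div_mul_cancel₀ _ hb'] at this
  exact absurd (by simpa using this) ha

end U5F
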