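import Mathlib
import Cfsg.Agent.Base
import Cfsg.Agent.Lib.SpX.Ev
import Cfsg.Agent.Lib.U5F.T1
import Cfsg.Agent.Lib.U5F.T3
import Cfsg.Agent.Lib.U5F.T2r
import Cfsg.Agent.Lib.U5F.T2c
import Cfsg.Agent.Lib.U5F.G0
import Cfsg.Agent.Lib.U5F.T4a1
import Cfsg.Agent.Lib.U5F.T4a2
import Cfsg.Agent.Lib.U5F.T4b
import Cfsg.Agent.Lib.U5F.TopB
import Cfsg.Agent.Lib.U5F.Id1
import Cfsg.Agent.Lib.U5F.Id2
import Cfsg.Agent.Lib.U5F.Lift1
import Cfsg.Agent.Lib.U5F.Lift2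
import Cfsg.Agent.Lib.U5F.Model

/-!
Saturated fusion systems over a Sylow subgroup of the five-dimensional unitary group are realizable.
-/

set_option autoImplicit false

namespace U5F

open Subgroup Cfsg Un
open H93.SX (Cj nr ch Se Cf Es Eqv mem_nr nr_cj nr_cj' self_ch nr_bot real_of_eqv range_comp)
open scoped commutatorElement

universe u v

theorem bru {W : Type*} {Γ : Type u} {Γ' : Type v} [Group W] [Group Γ] [Group Γ'] [Finite Γ] {p : ℕ}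
    [Fact p.Prime] {ι : W →* Γ} {ψ : W →* Γ'} {E A B C X : Subgroup W} (F : Cf p ι)
    (s : Se E A B C) (top : Eqv ι ψ ⊤)
    (hX : ∀ g ∈ nr ι E, g ∈ nr ι X → g ∈ nr ι A ∧ g ∈ nr ι B ∧ g ∈ nr ι C) (w : W → W)
    (hw : ∀ x ∈ E, w x ∈ E) {n : Γ} {n' : Γ'} (hn : ∀ x ∈ E, Cj ι n x (w x))
    (hn' : ∀ x ∈ E, Cj ψ n' x (w x))
    (tr : ∀ g ∈ nr ι E, g ∈ nr ι X ∨ ∃ t, n⁻¹ * (ι t * g) ∈ nr ι X) : Eqv ι ψ E := by
  have key : ∀ g ∈ nr ι E, g ∈ nr ι X → ∃ k, ∀ x ∈ E, ∀ y, Cj ι g x y → Cj ψ k x y := fun g hg h => by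
    obtain ⟨a, b, c⟩ := hX g hg h
    obtain ⟨k, hk, e⟩ := s.ext F hg a b c
    obtain ⟨k', e'⟩ := top k fun x hx => nr_cj hk.2 hx
    exact ⟨k', fun x hx y h => e' x (mem_top _) y (mem_top _) (e x hx y h)⟩
  intro g hg
  have hg := mem_nr hg
  have hN : n ∈ nr ι E := mem_nr fun x hx => ⟨_, hw x hx, hn x hx⟩
  rcases tr g hg with h | ⟨t, h⟩
  · obtain ⟨k, e⟩ := key g hg h
    exact ⟨k, fun x hx y _ => e x hx y⟩
  · have ht : ι t ∈ nr ι E := H93.SX.self_nr fun x hx => s.a (s.e1 t x hx)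
    obtain ⟨k, e⟩ := key _ (mul_mem (inv_mem hN) (mul_mem ht hg)) h
    refine ⟨ψ t⁻¹ * (n' * k), fun x hx y hy c => ?_⟩
    have c1 := (Cj.self (ι := ι) t y).trans c
    obtain ⟨z, hz, c2⟩ := nr_cj' hN (y := t * y * t⁻¹) (c1.mem F.inj (mul_mem ht hg) hx)
    have c3 := (hn' z hz).trans (e x hx z (c2.symm.trans c1))
    rw [← c2.uniq F.inj (hn z hz)] at c3
    simpa [mul_assoc] using (Cj.self (ι := ψ) t⁻¹ (t * y * t⁻¹)).trans c3

variable {K : Type*} {Γ : Type u} {Γ' : Type v} [Field K] [StarRing K] [Finite K] [Group Γ] [Finite Γ]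
  [Group Γ'] [Finite Γ'] {p : ℕ} [Fact p.Prime] {ι : Un K →* Γ} {ψ : Un K →* Γ'}
  {E : Subgroup (Un K)} (hs : ∃ e : K, star e ≠ e) (F : Cf p ι)
include hs F

theorem es_cases (h : Es p ι E) : E = Q1 K ∨ E = Q2 K := by
  by_cases h1 : E ≤ Q1 K
  · exact .inl (es_Q1 hs F h h1)
  refine .inr (es_Q2 hs F h ?_)
  by_cases hz : ∀ y ∈ E, (∀ x ∈ E, ⁅y, x⁆ = 1) → y.a = 0
  swap
  · push Not at hz
    obtain ⟨y, hy, hc, ha⟩ := hz
    have hb : y.b = 0 := by_contra fun hb => t2r hs F h hy hc ha hb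
    have hc' : y.c = 0 := by_contra fun hc' => t2c hs F h hy hc ha hb hc'
    intro x hx
    have e := eq_one.1 (hc x hx)
    have e1 : x.b = 0 := by simpa [hb, ha] using e.2.2.1
    exact ⟨e1, by simpa [hb, ha, hc', e1] using e.2.2.2.2.1⟩
  let ZE : Subgroup (Un K) := E ⊓ centralizer E
  have mZ : ∀ x, x ∈ ZE ↔ x ∈ E ∧ ∀ y ∈ E, ⁅x, y⁆ = 1 := fun x => and_congr_right fun _ =>
    forall₂_congr fun y _ => by rw [commutatorElement_eq_one_iff_mul_comm]; exact eq_comm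
  have h2 : Z2 K ≤ E := fun t ht => h.chain F (A := ZE) (B := ⊥) (C := ⊥)
    (fun g hg => nr_cent F.inj hg hg mZ) (fun _ _ => nr_bot) (fun _ _ => nr_bot)
    (self_ch inf_le_left bot_le le_rfl (fun x hx => by
      have e : ⁅t, x⁆ ∈ Z1 K := by
        rw [← commutatorElement_inv]; exact inv_mem (comm_Z1 x ht)
      have e' : ∀ y : Un K, ⁅⁅t, x⁆, y⁆ = 1 := fun y => by
        rw [← inv_eq_one, commutatorElement_inv, comm_Z0 y e]
      exact (mZ _).2 ⟨h.cent F fun y _ => e' y, fun y _ => e' y⟩) (fun x hx => by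
      have := hz x hx.1 ((mZ x).1 hx).2
      rw [← commutatorElement_inv, comm_Y0 (x := x) this ⟨ht.1, ht.2.1, ht.2.2.1⟩, inv_one]
      exact one_mem _) (fun x hx => by simp [mem_bot.1 hx]) fun x hx => by simp [mem_bot.1 hx])
  by_cases hn : ∀ x ∈ E, (∀ y ∈ E, ⁅x, y⁆ ∈ Z1 K) → x.a = 0
  · refine (g0 hs F h h1 h2 ?_).elim
    rcases t4a1 hs F h h1 h2 hn with e | ⟨h3, r, hr, e⟩
    exacts [e, t4a2 hs F.inj h1 h3 hr e]
  · push Not at hn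
    obtain ⟨x, hx, hc, ha⟩ := hn
    exact t4b hs F h h2 hz hx ha hc

theorem top_le (h : Es p ι E) : nr ι ⊤ ≤ nr ι E := fun g hg => by
  obtain ⟨E', h', e⟩ := h.cn F hg
  have c : Nat.card E' = Nat.card E := by
    rw [← card_map_of_injective F.inj, ← card_map_of_injective (K := E) F.inj, e]
    exact (Nat.card_congr (MulEquiv.subgroupMap (MulAut.conj g) _).toEquiv).symm
  have ne : Nat.card (Q1 K) ≠ Nat.card (Q2 K) := by
    rw [card_Q1 hs, card_Q2 hs]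
    exact (Nat.pow_lt_pow_right one_lt_qq (by norm_num)).ne'
  have : E' = E := by
    rcases es_cases hs F h with rfl | rfl <;> rcases es_cases hs F h' with rfl | rfl
    exacts [rfl, (ne c.symm).elim, (ne c).elim, rfl]
  subst this
  exact H93.R3.cn_eq_iff.1 e.symm

omit hs [Finite Γ] [Finite Γ'] [Finite K] [Fact p.Prime] in
theorem eqv_top [Finite Γ] (S : Std ι) (D : ∀ l m σ, l ≠ 0 → m ≠ 0 → Dl ι l m σ → Dl ψ l m σ) :
    Eqv ι ψ ⊤ := fun g hg => by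
  obtain ⟨t, l, m, σ, hl, hm, e⟩ := S g (mem_nr hg)
  obtain ⟨k, hk⟩ := D l m σ hl hm ⟨ι t⁻¹ * g, fun x => by
    simpa [mul_assoc] using (Cj.self (ι := ι) t⁻¹ _).trans (e x)⟩
  exact ⟨ψ t * k, fun x _ y _ c => c.uniq F.inj (e x) ▸ (Cj.self t _).trans (hk x)⟩

omit [Finite Γ'] in
theorem eqv_Q1 (top : Eqv ι ψ ⊤) {n : Γ} {n' : Γ'} (hn : ∀ x ∈ Q1 K, Cj ι n x (w1 x))
    (hn' : ∀ x ∈ Q1 K, Cj ψ n' x (w1 x)) : Eqv ι ψ (Q1 K) := by
  refine bru F seQ1 top (X := Z3 K) (fun g hg h => ⟨h, nr_Z2_of hs hg h⟩) w1 (fun x _ => w1_mem x)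
    hn hn' fun g hg => (id1_line hs F.inj hg).imp_right fun ⟨k, e⟩ => ?_
  obtain ⟨t, ta, tb, -⟩ := exists_un hs (-k) 0 0 0 0 (by simp)
  have hN : n ∈ nr ι (Q1 K) := mem_nr fun x hx => ⟨_, w1_mem x, hn x hx⟩
  refine ⟨t, mem_nr fun x hx => ?_⟩
  obtain ⟨y, hy, c⟩ := nr_cj hg (x := x) hx.1
  have hy' : y.a = 0 := hy
  obtain ⟨z, hz, c2⟩ := nr_cj' hN (y := t * y * t⁻¹) (by simp [hy'])
  refine ⟨z, ⟨hz, ?_⟩, c2.symm.trans ((Cj.self t y).trans c)⟩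
  rw [← w1_v hz, ← c2.uniq F.inj (hn z hz)]
  simp [ta, tb, hy', e x hx y c]

omit [Finite Γ'] in
theorem eqv_Q2 [CharP K p] (S : Std ι) (top : Eqv ι ψ ⊤) {n : Γ} {n' : Γ'}
    (hn : ∀ x ∈ Q2 K, Cj ι n x (w2 x)) (hn' : ∀ x ∈ Q2 K, Cj ψ n' x (w2 x)) : Eqv ι ψ (Q2 K) := by
  refine bru F seQ2 top (X := Z2 K) (fun g hg h => ⟨nr_Rr_of hs F.inj hg h, h, nr_Z1_of hs F.inj hg⟩)
    w2 (fun x _ => w2_mem x) hn hn' fun g hg => (id2_line hs F S hg).imp_right fun ⟨t, e⟩ => ?_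
  have hN : n ∈ nr ι (Q2 K) := mem_nr fun x hx => ⟨_, w2_mem x, hn x hx⟩
  have ht : ι t ∈ nr ι (Q2 K) := H93.SX.self_nr fun x hx => seQ2.a (comm_R t hx)
  refine ⟨t, mem_nr fun x hx => ?_⟩
  obtain ⟨y, hy, c⟩ := nr_cj (mul_mem ht hg) (x := x) ⟨hx.2.1, hx.2.2.2⟩
  obtain ⟨z, hz, c2⟩ := nr_cj' hN hy
  obtain ⟨e1, e2⟩ := e x hx y c
  rw [c2.uniq F.inj (hn z hz)] at e1 e2
  exact ⟨z, ⟨e2, hz.1, by simpa using e1, hz.2⟩, c2.symm.trans c⟩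

variable [CharP K p]

theorem real_std (S : Std ι) (h1 : Es p ι (Q1 K)) (h2 : Es p ι (Q2 K)) :
    (groupFusionSystem ι.range).IsRealizable p := by
  have n1 : ¬ nr ι (Q1 K) ≤ nr ι (Z3 K) := fun e => seQ1.not F h1 e
    (fun g hg => (nr_Z2_of hs hg (e hg)).1) fun g hg => (nr_Z2_of hs hg (e hg)).2
  have n2 : ¬ nr ι (Q2 K) ≤ nr ι (Z2 K) := fun e => seQ2.not F h2
    (fun g hg => nr_Rr_of hs F.inj hg (e hg)) e fun g hg => nr_Z1_of hs F.inj hg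
  have T : Tor ι := tor_of (id1_tor hs F S n1) (id2_tor hs F S n2)
  obtain ⟨g1, hg1, e1⟩ := id1_sl2 hs F n1 (α := 0) (β := 1) (γ := -1) (δ := 0) (by simp)
  obtain ⟨a, ha⟩ := lift1 hs F S T hg1 fun x hx y c => by simpa using e1 x hx y c
  obtain ⟨g2, hg2, e2⟩ := id2_weyl hs F S n2
  obtain ⟨b, hb⟩ := lift2 hs F S T hg2 e2
  obtain ⟨G, _, _, ψ, i, ⟨P, hP⟩, S', D, ⟨a', ha'⟩, b', hb'⟩ := exists_model hs F T
  have F' : Cf p ψ := ⟨i, F.pg, hP ▸ H93.isSaturated_groupFusionSystem P⟩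
  have t1 : Eqv ι ψ ⊤ := eqv_top F S fun l m σ hl hm => (D l m σ hl hm).2
  have t2 : Eqv ψ ι ⊤ := eqv_top F' S' fun l m σ hl hm => (D l m σ hl hm).1
  refine real_of_eqv F F' P hP fun E hE => ?_
  rcases hE.imp_right fun e => e.elim (es_cases hs F) (es_cases hs F') with rfl | rfl | rfl
  exacts [⟨t1, t2⟩, ⟨eqv_Q1 hs F t1 ha ha', eqv_Q1 hs F' t2 ha' ha⟩,
    ⟨eqv_Q2 hs F S t1 hb hb', eqv_Q2 hs F' S' t2 hb' hb⟩]

omit [CharP K p] in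
theorem both {E' : Subgroup (Un K)} (h : Es p ι E) (h' : Es p ι E') (ne : E ≠ E') :
    Es p ι (Q1 K) ∧ Es p ι (Q2 K) := by
  rcases es_cases hs F h with rfl | rfl <;> rcases es_cases hs F h' with rfl | rfl
  exacts [(ne rfl).elim, ⟨h, h'⟩, ⟨h', h⟩, (ne rfl).elim]

theorem realizable : (groupFusionSystem ι.range).IsRealizable p := by
  by_cases h : ∀ E E', Es p ι E → Es p ι E' → E = E'
  · exact F.real_of_uniq h
  push Not at h
  obtain ⟨E, E', h, h', ne⟩ := h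
  obtain ⟨h1, h2⟩ := both hs F h h' ne
  obtain ⟨η, S⟩ := exists_std hs F (top_le hs F h1) (top_le hs F h2)
  have m : ∀ X : Subgroup (Un K), (X.comap η.toMonoidHom).map η.toMonoidHom = X := fun X =>
    map_comap_eq_self_of_surjective η.surjective X
  obtain ⟨k1, k2⟩ := both hs (F.comp η) (E := E.comap η.toMonoidHom) (E' := E'.comap η.toMonoidHom)
    ((Es.comp η).2 (by rwa [m])) ((Es.comp η).2 (by rwa [m])) fun e => ne (by rw [← m E, e, m])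
  exact range_comp (ι := ι) η ▸ real_std hs (F.comp η) S k1 k2

end U5F
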